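import Cfsg.Agent.ExtraspecialThree.Fusion
import Cfsg.Agent.Transfer.Tate
import Mathlib.GroupTheory.Index
import Mathlib.Algebra.Group.Conj

/-!
# The classes of 3-elements

The inertial quotient acts without fixed points on `P / Z(P)`, so the classes of noncentral
elements of `P` number `8 / e` (`card_cls_mul`), and they are real for even `e` (`isConj_inv`).
-/

set_option autoImplicit false
set_option linter.unusedSectionVars false
set_option linter.style.haveILetI false

namespace CfsgLib.ExtraspecialThree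

open Subgroup

universe u

variable {G : Type u} [Group G]

/-- The conjugates of `a` under `K` are counted by the index of its centraliser. -/
theorem card_conjSet (K : Subgroup G) (a : G) :
    Nat.card {b : G // ∃ k ∈ K, k * a * k⁻¹ = b} = (centralizer ({a} : Set G)).relIndex K := by
  rw [Subgroup.relIndex, Subgroup.index]
  symm
  have key : ∀ k l : K, (QuotientGroup.leftRel ((centralizer ({a} : Set G)).subgroupOf K)) k l ↔
      (k : G) * a * (k : G)⁻¹ = (l : G) * a * (l : G)⁻¹ := by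
    intro k l
    rw [QuotientGroup.leftRel_apply, mem_subgroupOf, mem_centralizer_singleton_iff]
    simp only [Subgroup.coe_mul, Subgroup.coe_inv]
    refine ⟨fun h => ?_, fun h => ?_⟩
    · calc (k : G) * a * (k : G)⁻¹ = (k : G) * (a * ((k : G)⁻¹ * l)) * (l : G)⁻¹ := by group
        _ = (k : G) * (((k : G)⁻¹ * l) * a) * (l : G)⁻¹ := by rw [h]
        _ = (l : G) * a * (l : G)⁻¹ := by group
    · calc (k : G)⁻¹ * l * a = (k : G)⁻¹ * ((l : G) * a * (l : G)⁻¹) * l := by group
        _ = (k : G)⁻¹ * ((k : G) * a * (k : G)⁻¹) * l := by rw [h]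
        _ = a * ((k : G)⁻¹ * l) := by group
  refine Nat.card_congr (Equiv.ofBijective (Quotient.lift
    (fun k : K => (⟨(k : G) * a * (k : G)⁻¹, k, k.2, rfl⟩ : {b : G // ∃ k ∈ K, k * a * k⁻¹ = b}))
    fun k l h => Subtype.ext ((key k l).1 h)) ⟨?_, ?_⟩)
  · intro x y h
    induction x using Quotient.inductionOn with
    | h k =>
      induction y using Quotient.inductionOn with
      | h l => exact Quotient.sound ((key k l).2 (congrArg Subtype.val h))
  · rintro ⟨b, k, hk, rfl⟩
    exact ⟨Quotient.mk _ ⟨k, hk⟩, rfl⟩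

/-- The normaliser modulo which the inertial quotient is formed. -/
abbrev hsub (P : Sylow 3 G) : Subgroup G :=
  (P : Subgroup G) ⊔ centralizer ((P : Subgroup G) : Set G)

namespace Setting

variable {P : Sylow 3 G} {z : G} (S : Setting P z)
include S

theorem hsub_le_normalizer : hsub P ≤ normalizer ((P : Subgroup G) : Set G) := by
  refine sup_le le_normalizer fun c hc => ?_
  refine mem_normalizer_iff.2 fun a => ⟨fun ha => ?_, fun ha => ?_⟩
  · rw [← mem_centralizer_iff.1 hc a ha, mul_inv_cancel_right]; exact ha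
  · have h := mem_centralizer_iff.1 hc _ ha
    have : a = c * a * c⁻¹ :=
      calc a = c⁻¹ * ((c * a * c⁻¹) * c) := by group
        _ = c⁻¹ * (c * (c * a * c⁻¹)) := by rw [h]
        _ = c * a * c⁻¹ := by group
    rw [this]; exact ha

theorem hsub_le_cosetStab {a : G} (ha : a ∈ (P : Subgroup G)) :
    hsub P ≤ cosetStab (z := z) a := by
  refine sup_le (S.le_cosetStab ha) fun c hc => ?_
  refine ⟨?_, 1, one_mem _, ?_⟩
  · rw [← mem_centralizer_iff.1 hc z S.z_mem, mul_inv_cancel_right]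
  · rw [← mem_centralizer_iff.1 hc a ha, mul_inv_cancel_right, mul_one]

theorem z_fix {n : G} (hn : n ∈ normalizer ((P : Subgroup G) : Set G)) : n * z * n⁻¹ = z := by
  rw [S.norm n hn, mul_inv_cancel_right]

theorem conj_zpowers {n c : G} (hn : n ∈ normalizer ((P : Subgroup G) : Set G))
    (hc : c ∈ zpowers z) : n * c * n⁻¹ = c := by
  obtain ⟨i, rfl⟩ := mem_zpowers_iff.1 hc
  rw [← conj_zpow, S.z_fix hn]

theorem mem_conj {n a : G} (hn : n ∈ normalizer ((P : Subgroup G) : Set G))
    (ha : a ∈ (P : Subgroup G)) : n * a * n⁻¹ ∈ (P : Subgroup G) :=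
  (mem_normalizer_iff.1 hn a).1 ha

theorem not_mem_conj {n a : G} (hn : n ∈ normalizer ((P : Subgroup G) : Set G))
    (ha : a ∉ zpowers z) : n * a * n⁻¹ ∉ zpowers z := fun h => ha (by
  have h1 := S.conj_zpowers (inv_mem hn) h
  rw [show n⁻¹ * (n * a * n⁻¹) * n⁻¹⁻¹ = a by group] at h1
  rwa [← h1] at h)

theorem orderOf_eq_three {a : G} (ha : a ∈ (P : Subgroup G)) (h : a ≠ 1) : orderOf a = 3 := by
  haveI : Fact (Nat.Prime 3) := ⟨Nat.prime_three⟩
  exact orderOf_eq_prime (S.exp a ha) h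

variable [Finite G]

theorem centralizer_setting :
    Setting (P.subtype S.le_centralizer)
      (⟨z, mem_centralizer_singleton_iff.2 rfl⟩ : centralizer ({z} : Set G)) where
  card := by
    exact (Nat.card_congr (Subgroup.subgroupOfEquivOfLe S.le_centralizer).toEquiv).trans S.card
  exp := fun a ha => Subtype.ext (S.exp a ha)
  z_mem := S.z_mem
  z_ne := fun h => S.z_ne (congrArg Subtype.val h)
  z_comm := fun a ha => Subtype.ext (S.z_comm a ha)
  center := fun a ha h => by
    have h1 : (a : G) ∈ zpowers z :=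
      S.center a ha fun b hb => congrArg Subtype.val (h ⟨b, S.le_centralizer hb⟩ hb)
    obtain ⟨i, hi⟩ := mem_zpowers_iff.1 h1
    exact mem_zpowers_iff.2 ⟨i, Subtype.ext (by rw [Subgroup.coe_zpow]; exact hi)⟩
  comm := fun a ha b hb => by
    obtain ⟨i, hi⟩ := mem_zpowers_iff.1 (S.comm a ha b hb)
    exact mem_zpowers_iff.2 ⟨i, Subtype.ext (by rw [Subgroup.coe_zpow]; exact hi)⟩
  norm := fun g _ => Subtype.ext (mem_centralizer_singleton_iff.1 g.2)

/-- An element of `P` that is noncentral stays noncentral in the centraliser. -/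
theorem not_mem_zpowers_sub {a : centralizer ({z} : Set G)} (ha : (a : G) ∉ zpowers z) :
    a ∉ zpowers (⟨z, mem_centralizer_singleton_iff.2 rfl⟩ : centralizer ({z} : Set G)) := by
  intro h
  obtain ⟨i, rfl⟩ := mem_zpowers_iff.1 h
  exact ha (mem_zpowers_iff.2 ⟨i, rfl⟩)

/-- A normalising element fixing a noncentral element lies in `P C(P)`. -/
theorem mem_hsub_of_fix {n a : G} (hn : n ∈ normalizer ((P : Subgroup G) : Set G))
    (ha : a ∈ (P : Subgroup G)) (ha' : a ∉ zpowers z) (hfix : n * a * n⁻¹ = a) : n ∈ hsub P := by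
  haveI : Fact (Nat.Prime 3) := ⟨Nat.prime_three⟩
  obtain ⟨k, m, hm, hnm⟩ := Nat.exists_eq_pow_mul_and_not_dvd (orderOf_pos n).ne' 3 (by norm_num)
  -- the 3-part of `n` lies in `P`, the 3'-part centralises it
  have h3 : n ^ m ∈ (P : Subgroup G) := by
    have hQ : IsPGroup 3 (zpowers (n ^ m)) := IsPGroup.of_card (n := k) (by
      rw [Nat.card_zpowers, orderOf_pow' n (fun h => hm (by rw [h]; exact dvd_zero 3)), hnm,
        Nat.gcd_eq_right (dvd_mul_left m _), Nat.mul_div_cancel _
          (Nat.pos_of_ne_zero fun h => hm (by rw [h]; exact dvd_zero 3))])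
    have hle : zpowers (n ^ m) ≤ normalizer ((P : Subgroup G) : Set G) :=
      Subgroup.zpowers_le.2 (pow_mem hn m)
    have h1 := hQ.to_sup_of_normal_right' P.isPGroup' hle
    exact (P.3 h1 le_sup_right) ▸ (le_sup_left (b := (P : Subgroup G))) (mem_zpowers _)
  have hn' : n ^ (3 ^ k) ∈ centralizer ((P : Subgroup G) : Set G) := by
    set v := n ^ (3 ^ k) with hv
    have hvN : v ∈ normalizer ((P : Subgroup G) : Set G) := pow_mem hn _
    have hvm : v ^ m = 1 := by rw [hv, ← pow_mul, ← hnm, pow_orderOf_eq_one]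
    have hva : v * a * v⁻¹ = a := by
      have h0 : Commute n a := mul_inv_eq_iff_eq_mul.1 hfix
      rw [(h0.pow_left _).eq, mul_inv_cancel_right]
    refine mem_centralizer_iff.2 fun b hb => ?_
    set f := b⁻¹ * (v * b * v⁻¹) with hf
    have hfP : f ∈ (P : Subgroup G) := mul_mem (inv_mem hb) (S.mem_conj hvN hb)
    have hba : b * a * b⁻¹ * a⁻¹ ∈ zpowers z := S.comm b hb a ha
    have hfa : f * a * f⁻¹ = a := by
      have h1 : v * (b * a * b⁻¹ * a⁻¹) * v⁻¹ = b * a * b⁻¹ * a⁻¹ := S.conj_zpowers hvN hba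
      have h2 : (v * b * v⁻¹) * a * (v * b * v⁻¹)⁻¹ = b * a * b⁻¹ := by
        have h3 : v⁻¹ * a * v = a := by
          conv_lhs => rw [← hva]
          group
        calc (v * b * v⁻¹) * a * (v * b * v⁻¹)⁻¹ = v * b * (v⁻¹ * a * v) * b⁻¹ * v⁻¹ := by group
          _ = v * (b * a * b⁻¹ * a⁻¹) * v⁻¹ * (v * a * v⁻¹) := by rw [h3]; group
          _ = b * a * b⁻¹ := by rw [h1, hva]; group
      calc f * a * f⁻¹ = b⁻¹ * ((v * b * v⁻¹) * a * (v * b * v⁻¹)⁻¹) * b := by rw [hf]; group
        _ = a := by rw [h2]; group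
    -- `P ∩ C(a)` is generated by `a` and `z`, both fixed
    have hvf : v * f * v⁻¹ = f := by
      have hfE : f ∈ (P : Subgroup G) ⊓ centralizer ({a} : Set G) :=
        ⟨hfP, mem_centralizer_singleton_iff.2 (mul_inv_eq_iff_eq_mul.1 hfa)⟩
      have hfix : (P : Subgroup G) ⊓ centralizer ({a} : Set G) ≤ centralizer ({v} : Set G) := by
        set E := (P : Subgroup G) ⊓ centralizer ({a} : Set G)
        have hle : E ⊓ centralizer ({v} : Set G) ≤ E := inf_le_left
        refine (Subgroup.eq_of_le_of_card_ge hle ?_).ge.trans inf_le_right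
        rw [S.card_inf ha ha']
        have hz : z ∈ E ⊓ centralizer ({v} : Set G) :=
          ⟨⟨S.z_mem, mem_centralizer_singleton_iff.2 (S.z_comm a ha).symm⟩,
            mem_centralizer_singleton_iff.2 (S.norm v hvN).symm⟩
        have haE : a ∈ E ⊓ centralizer ({v} : Set G) :=
          ⟨⟨ha, mem_centralizer_singleton_iff.2 rfl⟩,
            mem_centralizer_singleton_iff.2 (mul_inv_eq_iff_eq_mul.1 hva).symm⟩
        have h1 : zpowers z < E ⊓ centralizer ({v} : Set G) :=
          lt_of_le_of_ne (Subgroup.zpowers_le.2 hz) fun h => ha' (h ▸ haE)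
        have h2 : Nat.card (zpowers z) < Nat.card ↥(E ⊓ centralizer ({v} : Set G)) := by
          refine lt_of_le_of_ne (Subgroup.card_le_of_le h1.le) fun h => h1.ne ?_
          exact Subgroup.eq_of_le_of_card_ge h1.le h.ge
        rw [Nat.card_zpowers, orderOf_eq_prime S.z_pow S.z_ne] at h2
        have h3 : Nat.card ↥(E ⊓ centralizer ({v} : Set G)) ∣ 3 ^ 2 := by
          have := Subgroup.card_dvd_of_le hle
          rwa [S.card_inf ha ha'] at this
        obtain ⟨j, hj, hje⟩ := (Nat.dvd_prime_pow Nat.prime_three).1 h3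
        interval_cases j <;> simp_all
      rw [← mem_centralizer_singleton_iff.1 (hfix hfE), mul_inv_cancel_right]
    have hpow : ∀ j : ℕ, v ^ j * b * (v ^ j)⁻¹ = b * f ^ j := by
      intro j
      induction j with
      | zero => simp
      | succ j ih =>
        calc v ^ (j + 1) * b * (v ^ (j + 1))⁻¹ = v * (v ^ j * b * (v ^ j)⁻¹) * v⁻¹ := by
              rw [pow_succ']; group
          _ = (v * b * v⁻¹) * (v * f ^ j * v⁻¹) := by rw [ih]; group
          _ = b * f * f ^ j := by rw [← conj_pow, hvf, hf]; group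
          _ = b * f ^ (j + 1) := by rw [pow_succ', mul_assoc]
    have hfm : f ^ m = 1 := by
      have := hpow m
      rw [hvm] at this
      simpa using this.symm
    have hf1 : f = 1 := by
      by_contra hne
      exact hm ((S.orderOf_eq_three hfP hne) ▸ orderOf_dvd_of_pow_eq_one hfm)
    have h := hpow 1
    rw [pow_one, pow_one, hf1, mul_one] at h
    exact (mul_inv_eq_iff_eq_mul.1 h).symm
  have hcop : Nat.Coprime m (3 ^ k) :=
    (Nat.prime_three.coprime_iff_not_dvd.2 hm).symm.pow_right k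
  have hb := Nat.gcd_eq_gcd_ab m (3 ^ k)
  rw [hcop.gcd_eq_one] at hb
  have : n = (n ^ m) ^ Nat.gcdA m (3 ^ k) * (n ^ (3 ^ k)) ^ Nat.gcdB m (3 ^ k) := by
    rw [← zpow_natCast n m, ← zpow_natCast n (3 ^ k), ← zpow_mul, ← zpow_mul, ← zpow_add, ← hb]
    simp
  rw [this]
  exact mul_mem (zpow_mem (le_sup_left (b := centralizer ((P : Subgroup G) : Set G)) h3) _)
    (zpow_mem (le_sup_right (a := (P : Subgroup G)) hn') _)

/-- The order of the inertial quotient. -/
noncomputable def inert (_ : Setting P z) : ℕ :=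
  (hsub P).relIndex (normalizer ((P : Subgroup G) : Set G))

theorem relIndex_centralizer {a : G} (ha : a ∈ (P : Subgroup G)) (ha' : a ∉ zpowers z) :
    Nat.card {b : G // ∃ k ∈ normalizer ((P : Subgroup G) : Set G), k * a * k⁻¹ = b} =
      3 * S.inert := by
  haveI : Fact (Nat.Prime 3) := ⟨Nat.prime_three⟩
  set N := normalizer ((P : Subgroup G) : Set G)
  set C := centralizer ({a} : Set G)
  have hle : C ⊓ N ≤ hsub P := fun n hn => S.mem_hsub_of_fix hn.2 ha ha' (by
    rw [mem_centralizer_singleton_iff.1 hn.1, mul_inv_cancel_right])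
  have h := relIndex_mul_relIndex (C ⊓ N) (hsub P) N hle S.hsub_le_normalizer
  have h1 : (C ⊓ N).relIndex N = C.relIndex N := inf_relIndex_right C N
  have h2 : (C ⊓ N).relIndex (hsub P) = C.relIndex (hsub P) := by
    rw [← inf_relIndex_right (C ⊓ N), ← inf_relIndex_right C (hsub P), inf_assoc,
      inf_eq_right.2 S.hsub_le_normalizer]
  have h3 : C.relIndex (hsub P) = 3 := by
    rw [← card_conjSet]
    have hz3 : Nat.card (zpowers z) = 3 := by
      rw [Nat.card_zpowers, orderOf_eq_prime S.z_pow S.z_ne]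
    rw [← hz3]
    refine (Nat.card_congr (Equiv.ofBijective
      (fun s : zpowers z => (⟨a * (s : G), ?_⟩ : {b : G // ∃ k ∈ hsub P, k * a * k⁻¹ = b}))
      ⟨?_, ?_⟩)).symm
    · obtain ⟨b, hb, hbw⟩ := S.exists_conj_mul ha ha' s.2
      exact ⟨b, le_sup_left (b := centralizer ((P : Subgroup G) : Set G)) hb, hbw⟩
    · intro s t hst
      exact Subtype.ext (mul_left_cancel (congrArg Subtype.val hst))
    · rintro ⟨b, k, hk, rfl⟩
      obtain ⟨-, s, hs, hks⟩ := S.hsub_le_cosetStab ha hk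
      exact ⟨⟨s, hs⟩, Subtype.ext hks.symm⟩
  rw [card_conjSet, ← h1, ← h, h2, h3]
  rfl

/-- The classes of noncentral elements of `P`. -/
abbrev Cls (_ : Setting P z) : Type u :=
  {K : ConjClasses G // ∃ a ∈ (P : Subgroup G), a ∉ zpowers z ∧ ConjClasses.mk a = K}

/-- A representative in `P`. -/
noncomputable def rep (ι : Cls S) : G := ι.2.choose

theorem rep_mem (ι : Cls S) : S.rep ι ∈ (P : Subgroup G) := ι.2.choose_spec.1

theorem rep_not_mem (ι : Cls S) : S.rep ι ∉ zpowers z := ι.2.choose_spec.2.1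

theorem mk_rep (ι : Cls S) : ConjClasses.mk (S.rep ι) = ι.1 := ι.2.choose_spec.2.2

theorem rep_ne_one (ι : Cls S) : S.rep ι ≠ 1 := fun h => S.rep_not_mem ι (h ▸ one_mem _)

theorem orderOf_rep (ι : Cls S) : orderOf (S.rep ι) = 3 :=
  S.orderOf_eq_three (S.rep_mem ι) (S.rep_ne_one ι)

theorem rep_conj {ι κ : Cls S} (h : IsConj (S.rep ι) (S.rep κ)) : ι = κ :=
  Subtype.ext (by rw [← S.mk_rep ι, ← S.mk_rep κ]; exact ConjClasses.mk_eq_mk_iff_isConj.2 h)

theorem not_isConj_central {s : G} (hs : s ∈ zpowers z) (ι : Cls S) : ¬ IsConj s (S.rep ι) := by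
  intro h
  obtain ⟨g, hg⟩ := isConj_iff.1 h
  refine S.rep_not_mem ι ?_
  rw [← hg, S.conj_central hs (by rw [hg]; exact S.rep_mem ι)]
  exact hs

theorem z_ne_inv : z ≠ z⁻¹ := fun h => S.z_ne (by
  have h2 : z * z = 1 := by
    nth_rewrite 2 [h]
    exact mul_inv_cancel z
  calc z = z ^ 3 * (z * z)⁻¹ := by group
    _ = 1 := by rw [S.z_pow, h2]; simp)

theorem not_isConj_z_inv : ¬ IsConj z z⁻¹ := by
  intro h
  obtain ⟨g, hg⟩ := isConj_iff.1 h
  exact S.z_ne_inv ((S.conj_eq (by rw [hg]; exact inv_mem S.z_mem)).symm.trans hg)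

/-- The classes of 3-elements. -/
theorem exists_class {x : G} (hx : ∃ k, orderOf x = 3 ^ k) :
    x = 1 ∨ IsConj x z ∨ IsConj x z⁻¹ ∨ ∃ ι : Cls S, IsConj x (S.rep ι) := by
  haveI : Fact (Nat.Prime 3) := ⟨Nat.prime_three⟩
  obtain ⟨k, hk⟩ := hx
  obtain ⟨Q, hQ⟩ := (IsPGroup.of_card (p := 3) (G := zpowers x) (n := k)
    (by rw [Nat.card_zpowers, hk])).exists_le_sylow
  obtain ⟨g, hg⟩ := MulAction.exists_smul_eq G Q P
  have hgx : g * x * g⁻¹ ∈ (P : Subgroup G) :=
    hg ▸ (⟨x, hQ (mem_zpowers x), rfl⟩ : g * x * g⁻¹ ∈ ((g • Q : Sylow 3 G) : Subgroup G))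
  have hc : IsConj x (g * x * g⁻¹) := isConj_iff.2 ⟨g, rfl⟩
  by_cases hz : g * x * g⁻¹ ∈ zpowers z
  · rcases mem_zpowers_three S.z_pow hz with h | h | h
    · left
      rw [h] at hc
      exact isConj_one_left.1 hc
    · exact Or.inr (Or.inl (h ▸ hc))
    · exact Or.inr (Or.inr (Or.inl (h ▸ hc)))
  · refine Or.inr (Or.inr (Or.inr ⟨⟨_, _, hgx, hz, rfl⟩, hc.trans ?_⟩))
    exact (ConjClasses.mk_eq_mk_iff_isConj.1 (S.mk_rep ⟨_, _, hgx, hz, rfl⟩)).symm

/-- The classes of noncentral elements number `8 / e`. -/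
theorem card_cls_mul : Nat.card (Cls S) * S.inert = 8 := by
  classical
  haveI : Fact (Nat.Prime 3) := ⟨Nat.prime_three⟩
  haveI := Fintype.ofFinite G
  haveI := Fintype.ofFinite (Cls S)
  set Ω := Finset.univ.filter fun a : G => a ∈ (P : Subgroup G) ∧ a ∉ zpowers z with hΩ
  have hΩc : Ω.card + 3 = 27 := by
    have h1 : (Finset.univ.filter fun a : G => a ∈ zpowers z).card = 3 := by
      rw [← Fintype.card_subtype, ← Nat.card_eq_fintype_card, Nat.card_zpowers,
        orderOf_eq_prime S.z_pow S.z_ne]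
    have h2 : (Finset.univ.filter fun a : G => a ∈ (P : Subgroup G)).card = 27 := by
      rw [← Fintype.card_subtype, ← Nat.card_eq_fintype_card]
      exact S.card
    rw [← h1, ← h2, hΩ, ← Finset.card_union_of_disjoint (Finset.disjoint_filter.2
      fun a _ ha hz => ha.2 hz)]
    congr 1
    ext a
    simp only [Finset.mem_union, Finset.mem_filter, Finset.mem_univ, true_and]
    exact ⟨fun h => h.elim And.left fun hz => S.zpowers_le hz,
      fun ha => (em (a ∈ zpowers z)).symm.imp (fun hz => ⟨ha, hz⟩) id⟩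
  set T : Finset (ConjClasses G) :=
    Finset.univ.filter fun K => ∃ a ∈ (P : Subgroup G), a ∉ zpowers z ∧ ConjClasses.mk a = K
  have hmaps : Set.MapsTo ConjClasses.mk (Ω : Set G) (T : Set (ConjClasses G)) := by
    intro a ha
    simp only [hΩ, Finset.coe_filter, Finset.mem_univ, true_and, Set.mem_ofPred_eq] at ha
    simp only [T, Finset.coe_filter, Finset.mem_univ, true_and, Set.mem_ofPred_eq]
    exact ⟨a, ha.1, ha.2, rfl⟩
  have hfib : ∀ K ∈ T, (Ω.filter fun a => ConjClasses.mk a = K).card = 3 * S.inert := by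
    intro K hK
    obtain ⟨a, ha, ha', rfl⟩ := (Finset.mem_filter.1 hK).2
    rw [← S.relIndex_centralizer ha ha', Nat.card_eq_fintype_card, Fintype.card_subtype]
    congr 1
    ext b
    simp only [hΩ, Finset.mem_filter, Finset.mem_univ, true_and,
      ConjClasses.mk_eq_mk_iff_isConj]
    constructor
    · rintro ⟨⟨hb, -⟩, hab⟩
      obtain ⟨g, hg⟩ := isConj_iff.1 hab.symm
      exact S.exists_normalizer_conj ha hb hg
    · rintro ⟨n, hn, rfl⟩
      exact ⟨⟨S.mem_conj hn ha, S.not_mem_conj hn ha'⟩, (isConj_iff.2 ⟨n, rfl⟩).symm⟩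
  have h := Finset.card_eq_sum_card_fiberwise hmaps
  rw [Finset.sum_congr rfl hfib, Finset.sum_const, smul_eq_mul,
    show T.card = Nat.card (Cls S) by rw [Nat.card_eq_fintype_card, Fintype.card_subtype]] at h
  rw [show Ω.card = 24 by omega] at h
  linarith

/-- For even `e` the noncentral elements of `P` are real. -/
theorem isConj_inv (he : 2 ∣ S.inert) {a : G} (ha : a ∈ (P : Subgroup G))
    (ha' : a ∉ zpowers z) : IsConj a a⁻¹ := by
  haveI : Fact (Nat.Prime 2) := ⟨Nat.prime_two⟩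
  set N := normalizer ((P : Subgroup G) : Set G)
  haveI hnorm : ((hsub P).subgroupOf N).Normal := by
    refine ⟨fun h hh g => ?_⟩
    rw [mem_subgroupOf] at hh ⊢
    simp only [Subgroup.coe_mul, Subgroup.coe_inv]
    have hle : hsub P ≤ (hsub P).comap (MulAut.conj (g : G)).toMonoidHom := by
      refine sup_le (fun x hx => ?_) fun x hx => ?_
      · exact le_sup_left (b := centralizer ((P : Subgroup G) : Set G)) (S.mem_conj g.2 hx)
      · refine le_sup_right (a := (P : Subgroup G)) (mem_centralizer_iff.2 fun b hb => ?_)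
        show b * ((g : G) * x * (g : G)⁻¹) = (g : G) * x * (g : G)⁻¹ * b
        have hb' : (g : G)⁻¹ * b * (g : G) ∈ (P : Subgroup G) := by
          simpa using S.mem_conj (inv_mem g.2) hb
        calc b * ((g : G) * x * (g : G)⁻¹)
            = (g : G) * (((g : G)⁻¹ * b * (g : G)) * x) * (g : G)⁻¹ := by group
          _ = (g : G) * (x * ((g : G)⁻¹ * b * (g : G))) * (g : G)⁻¹ := by
            rw [mem_centralizer_iff.1 hx _ hb']
          _ = _ := by group
    exact hle hh
  obtain ⟨q, hq⟩ := exists_prime_orderOf_dvd_card' (G := N ⧸ (hsub P).subgroupOf N) 2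
    (by rw [← Subgroup.index_eq_card]; exact he)
  obtain ⟨n, rfl⟩ := QuotientGroup.mk_surjective q
  have hn1 : (n : G) ∉ hsub P := by
    intro h
    rw [(QuotientGroup.eq_one_iff n).2 (mem_subgroupOf.2 h), orderOf_one] at hq
    omega
  have hn2 : (n : G) * n ∈ hsub P := by
    have h : ((n * n : N) : N ⧸ (hsub P).subgroupOf N) = 1 := by
      rw [QuotientGroup.mk_mul, ← pow_two, ← hq, pow_orderOf_eq_one]
    exact mem_subgroupOf.1 ((QuotientGroup.eq_one_iff _).1 h)
  set c := (n : G) * a * (n : G)⁻¹ with hc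
  have hcP : c ∈ (P : Subgroup G) := S.mem_conj n.2 ha
  obtain ⟨-, s, hs, hns⟩ := S.hsub_le_cosetStab ha hn2
  have hnc : (n : G) * c * (n : G)⁻¹ = a * s := by rw [← hns, hc]; group
  by_cases hw : c * a ∈ zpowers z
  · obtain ⟨b, hb, hbw⟩ := S.exists_conj_mul (inv_mem ha) (fun h => ha' (by simpa using inv_mem h)) hw
    refine (isConj_iff.2 ⟨(n : G), rfl⟩ : IsConj a c).trans (IsConj.symm ?_)
    refine isConj_iff.2 ⟨b, ?_⟩
    rw [hbw, S.comm_zpowers hw (inv_mem ha), mul_inv_cancel_right]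
  -- the coset of `c * a` is fixed, so some `p * n` fixes it
  exfalso
  have hwP : c * a ∈ (P : Subgroup G) := mul_mem hcP ha
  obtain ⟨s', hs', hnw⟩ : ∃ s' ∈ zpowers z, (n : G) * (c * a) * (n : G)⁻¹ = c * a * s' := by
    refine ⟨(c * a)⁻¹ * (a * c * s), ?_, ?_⟩
    · rw [show (c * a)⁻¹ * (a * c * s) = (a⁻¹ * c⁻¹ * a⁻¹⁻¹ * c⁻¹⁻¹) * s by group]
      exact mul_mem (S.comm _ (inv_mem ha) _ (inv_mem hcP)) hs
    · rw [mul_inv_cancel_left]
      calc (n : G) * (c * a) * (n : G)⁻¹ = ((n : G) * c * (n : G)⁻¹) * c := by rw [hc]; group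
        _ = a * (s * c) := by rw [hnc, mul_assoc]
        _ = a * c * s := by rw [mul_assoc a c s, S.comm_zpowers hs hcP]
  obtain ⟨b, hb, hbw⟩ := S.exists_conj_mul hwP hw (inv_mem hs')
  have hbn : b * n ∈ hsub P := S.mem_hsub_of_fix (mul_mem (le_normalizer hb) n.2) hwP hw (by
    calc b * n * (c * a) * (b * n)⁻¹ = b * ((n : G) * (c * a) * (n : G)⁻¹) * b⁻¹ := by group
      _ = (b * (c * a) * b⁻¹) * (b * s' * b⁻¹) := by rw [hnw]; group
      _ = c * a := by
        rw [hbw, show b * s' * b⁻¹ = s' by rw [S.comm_zpowers hs' hb, mul_inv_cancel_right],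
          inv_mul_cancel_right])
  refine hn1 ?_
  have := mul_mem (inv_mem (le_sup_left (b := centralizer ((P : Subgroup G) : Set G)) hb)) hbn
  rwa [inv_mul_cancel_left] at this

/-- For trivial inertial quotient there is a normal 3-complement. -/
theorem hasNormalPComplement (he : S.inert = 1) : Cfsg.HasNormalPComplement 3 G := by
  haveI : Fact (Nat.Prime 3) := ⟨Nat.prime_three⟩
  refine Transfer.hasNormalPComplement_of_controlsFusion_self P fun a ha g hg => ?_
  by_cases ha' : a ∈ zpowers z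
  · refine ⟨1, one_mem _, ?_⟩
    rw [S.conj_central ha' hg, one_mul, inv_one, mul_one]
  obtain ⟨n, hn, hna⟩ := S.exists_normalizer_conj ha hg rfl
  obtain ⟨-, s, hs, hns⟩ := S.hsub_le_cosetStab ha (Subgroup.relIndex_eq_one.1 he hn)
  obtain ⟨b, hb, hbw⟩ := S.exists_conj_mul ha ha' hs
  exact ⟨b, hb, by rw [hbw, ← hna, hns]⟩

end Setting

end CfsgLib.ExtraspecialThree
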