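import Cfsg.Agent.ExtraspecialThree.Classes
import Cfsg.Agent.SmallPrincipal.Count
import Cfsg.Agent.BlocksCharsC.ElementarySixteenRanks
import Cfsg.Agent.BlockPairing.MajorBound
import Cfsg.Agent.Characters.Rational

/-!
# The columns at the noncentral classes

For even inertial index the values of principal block characters at `S.rep ι` are integers
congruent to the degree modulo 3; the columns have norm 9, are orthogonal to each other and to
the degrees, and the values are constant on the sections.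
-/

set_option autoImplicit false
set_option linter.unusedSectionVars false
set_option linter.style.haveILetI false

namespace CfsgLib.ExtraspecialThree

open Cfsg CfsgLib.Blocks CfsgLib.PrincipalBlock
open scoped ComplexConjugate

universe u

variable {G : Type u} [Group G]

/-- The trivial character in the principal block. -/
noncomputable def blockOne (M : Ideal AlgInt) [M.IsPrime] [Fintype G] : ↥(Cfsg.principalBlock M G) :=
  ⟨trivChar G, trivChar_mem⟩

open Classical in
theorem sum_ite_mem {X : Type*} [Fintype X] (B : Set X) [Fintype B] {R : Type*} [AddCommMonoid R]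
    (f : X → R) : ∑ χ : X, (if χ ∈ B then f χ else 0) = ∑ χ : B, f χ := by
  rw [← Finset.sum_filter]
  exact Finset.sum_subtype _ (by simp) f

/-- An element of order a power of 3 is its own 3-part. -/
theorem isPPart_self {x : G} (hx : ∃ k, orderOf x = 3 ^ k) : Cfsg.IsPPart 3 x x :=
  ⟨1, mul_one x, Commute.one_right x, hx, by simp⟩

theorem isPPart_regular {y : G} (hy : ¬ 3 ∣ orderOf y) : Cfsg.IsPPart 3 y 1 :=
  ⟨y, one_mul y, Commute.one_left y, ⟨0, by simp⟩, hy⟩

variable [Fintype G] {P : Sylow 3 G} {z : G} {M : Ideal AlgInt} [M.IsPrime]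
variable [Fintype ↥(Cfsg.principalBlock M G)]

namespace Setting

variable (S : Setting P z)
include S

theorem pow_rep (ι : Cls S) : ∃ k, orderOf (S.rep ι) = 3 ^ k :=
  ⟨1, by rw [S.orderOf_rep, pow_one]⟩

theorem rank_rep (hM : Cfsg.IsPModular 3 M) (ι : Cls S) :
    Cfsg.blockRank 3
      (Cfsg.principalBlock M (Subgroup.centralizer ({S.rep ι} : Set G))) = 1 := by
  haveI : Fact (Nat.Prime 3) := ⟨Nat.prime_three⟩
  obtain ⟨K, hKn, hK, hj⟩ := S.exists_complement (S.rep_mem ι) (S.rep_not_mem ι)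
  haveI := Fintype.ofFinite (Subgroup.centralizer ({S.rep ι} : Set G))
  exact BlocksCharsC.Sixteen.blockRank_complement hM K hK hj

theorem value_section (hM : Cfsg.IsPModular 3 M) (ι : Cls S)
    (χ : ↥(Cfsg.principalBlock M G)) {c : G} (hc : Commute (S.rep ι) c)
    (hc' : ¬ 3 ∣ orderOf c) :
    (χ.1 : G → ℂ) (S.rep ι * c) = (χ.1 : G → ℂ) (S.rep ι) := by
  haveI : Fact (Nat.Prime 3) := ⟨Nat.prime_three⟩
  haveI := Fintype.ofFinite (Subgroup.centralizer ({S.rep ι} : Set G))
  exact SmallPrincipal.value_eq hM (S.pow_rep ι) (S.rank_rep hM ι) χ.2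
    (c := ⟨c, Subgroup.mem_centralizer_singleton_iff.2 hc.eq.symm⟩)
    (by rwa [← Subgroup.orderOf_coe])

open Classical in
/-- The integer value at the representative. -/
noncomputable def col (ι : Cls S) (χ : ↥(Cfsg.principalBlock M G)) : ℤ :=
  if h : ∃ n : ℤ, (χ.1 : G → ℂ) (S.rep ι) = n then h.choose else 0

theorem exists_int_rep (he : 2 ∣ S.inert) (ι : Cls S) (χ : IrrCharacter G) :
    ∃ n : ℤ, (χ : G → ℂ) (S.rep ι) = n := by
  obtain ⟨c, hc⟩ := isConj_iff.1 (S.isConj_inv he (S.rep_mem ι) (S.rep_not_mem ι))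
  have hch := Characters.isCharacter_of_isIrr χ.2
  obtain ⟨q, hq⟩ := Characters.rat_of_pow_invariant hch (S.rep ι) fun k hk => by
    have h3 : ¬ 3 ∣ k := fun h => (Nat.prime_three.coprime_iff_not_dvd.1
      (Nat.Coprime.coprime_dvd_left h hk))
      ((S.orderOf_rep ι) ▸ orderOf_dvd_natCard (S.rep ι))
    rw [← pow_mod_orderOf, S.orderOf_rep]
    rcases (show k % 3 = 1 ∨ k % 3 = 2 by omega) with h | h <;> rw [h]
    · rw [pow_one]
    · have : S.rep ι ^ 2 = (S.rep ι)⁻¹ := eq_inv_of_mul_eq_one_left (by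
        rw [← pow_succ]; exact S.exp _ (S.rep_mem ι))
      rw [this, ← hc, Characters.isClassFunction_of_isIrr χ.2]
  have hint := Characters.character_isIntegral hch (S.rep ι)
  rw [hq] at hint
  obtain ⟨n, hn⟩ := IsIntegrallyClosed.isIntegral_iff.1
    ((isIntegral_algHom_iff (Algebra.ofId ℚ ℂ |>.restrictScalars ℤ)
      (RingHom.injective _)).1 hint)
  exact ⟨n, by rw [hq, ← hn]; simp⟩

theorem cast_col (he : 2 ∣ S.inert) (ι : Cls S) (χ : ↥(Cfsg.principalBlock M G)) :
    (S.col ι χ : ℂ) = (χ.1 : G → ℂ) (S.rep ι) := by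
  have h := S.exists_int_rep he ι χ.1
  rw [col, dif_pos h]
  exact h.choose_spec.symm

theorem col_one (he : 2 ∣ S.inert) (ι : Cls S) :
    S.col ι (blockOne (G := G) M) = 1 := by
  refine Int.cast_injective (α := ℂ) ?_
  rw [S.cast_col he]
  exact (trivChar_apply _).trans Int.cast_one.symm

theorem col_sq (hM : Cfsg.IsPModular 3 M) (he : 2 ∣ S.inert) (ι : Cls S) :
    ∑ χ : ↥(Cfsg.principalBlock M G), S.col ι χ ^ 2 = 9 := by
  classical
  haveI : Fact (Nat.Prime 3) := ⟨Nat.prime_three⟩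
  haveI := Fintype.ofFinite (Subgroup.centralizer ({S.rep ι} : Set G))
  have h := SmallPrincipal.col_norm hM (S.pow_rep ι) (S.rank_rep hM ι)
  rw [S.factorization_centralizer (S.rep_mem ι) (S.rep_not_mem ι), sum_ite_mem] at h
  simp only [← S.cast_col he, Complex.normSq_intCast] at h
  refine Int.cast_injective (α := ℝ) ?_
  push_cast at h ⊢
  rw [← h]
  exact Finset.sum_congr rfl fun χ _ => by ring

theorem col_orth (hM : Cfsg.IsPModular 3 M) (he : 2 ∣ S.inert) {ι κ : Cls S} (hne : ι ≠ κ) :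
    ∑ χ : ↥(Cfsg.principalBlock M G), S.col ι χ * S.col κ χ = 0 := by
  classical
  haveI : Fact (Nat.Prime 3) := ⟨Nat.prime_three⟩
  have hinv : IsConj (S.rep κ) (S.rep κ)⁻¹ := S.isConj_inv he (S.rep_mem κ) (S.rep_not_mem κ)
  have h := sum_block_mul_inv_eq_zero hM (g := S.rep ι) (h := (S.rep κ)⁻¹)
    (isPPart_self (S.pow_rep ι))
    (isPPart_self (x := (S.rep κ)⁻¹) ⟨1, by rw [orderOf_inv, S.orderOf_rep, pow_one]⟩)
    (fun h => hne (S.rep_conj (h.trans hinv.symm)))
    (isPBlock_principalBlock (G := G) (M := M))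
  rw [inv_inv, sum_ite_mem] at h
  simp only [← S.cast_col he] at h
  exact_mod_cast h

theorem col_degree (hM : Cfsg.IsPModular 3 M) (he : 2 ∣ S.inert) (ι : Cls S) :
    ∑ χ : ↥(Cfsg.principalBlock M G),
      (Cfsg.charDegree (χ.1 : G → ℂ) : ℤ) * S.col ι χ = 0 := by
  classical
  haveI : Fact (Nat.Prime 3) := ⟨Nat.prime_three⟩
  have h := SmallPrincipal.degree_orth (G := G) hM (x := S.rep ι)
    (by rw [S.orderOf_rep ι])
  rw [sum_ite_mem] at h
  simp only [← S.cast_col he, ← charDegree_cast] at h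
  exact_mod_cast h

theorem col_congr (hM : Cfsg.IsPModular 3 M) (he : 2 ∣ S.inert) (ι : Cls S)
    (χ : ↥(Cfsg.principalBlock M G)) :
    (3 : ℤ) ∣ S.col ι χ - (Cfsg.charDegree (χ.1 : G → ℂ) : ℤ) := by
  haveI : Fact (Nat.Prime 3) := ⟨Nat.prime_three⟩
  have h := memLocalIdeal_char_mul_sub hM χ.1 (Commute.one_right (S.rep ι)) (S.pow_rep ι)
    (by simp)
  rw [mul_one, ← S.cast_col he, ← charDegree_cast] at h
  have h' := (MajorSubsection.memLocalIdeal_intCast_iff (p := 3) hM
    (S.col ι χ - (Cfsg.charDegree (χ.1 : G → ℂ) : ℤ))).1 (by push_cast; exact h)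
  exact_mod_cast h'

end Setting

end CfsgLib.ExtraspecialThree
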