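import Cfsg.Agent.ExtraspecialThree.Shape

/-!
# The decomposition pattern

Integral vectors `A ψ`, `V ψ` of norms 2 and 3, orthogonal to positive degrees, with the inner
products of the local situation: the pairs of the `A ψ` avoid the support of the columns, which
has six elements.
-/

set_option autoImplicit false
set_option linter.unusedSectionVars false

namespace CfsgLib.ExtraspecialThree

open Finset

variable {B I Ψ : Type*} [Fintype B] [Fintype I] [Fintype Ψ]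

theorem abs_le_one_of_sum_sq {v : B → ℤ} {n : ℤ} (h : ∑ χ, v χ ^ 2 = n) (hn : n ≤ 3) (χ : B) :
    v χ = 0 ∨ v χ = 1 ∨ v χ = -1 := by
  have h1 := single_le_sum (f := fun χ => v χ ^ 2) (fun x _ => sq_nonneg (v x)) (mem_univ χ)
  rw [h] at h1
  have h2 : -1 ≤ v χ := by nlinarith
  have h3 : v χ ≤ 1 := by nlinarith
  omega

theorem card_supp_eq {v : B → ℤ} {n : ℕ} (h : ∑ χ, v χ ^ 2 = n) (hn : n ≤ 3) :
    (univ.filter fun χ => v χ ≠ 0).card = n := by
  have h1 : ((univ.filter fun χ => v χ ≠ 0).card : ℤ) = n := by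
    rw [← h, card_filter]
    push_cast
    refine sum_congr rfl fun χ _ => ?_
    rcases abs_le_one_of_sum_sq h (by exact_mod_cast hn) χ with e | e | e <;> simp [e]
  exact_mod_cast h1

theorem sum_eq_pair [DecidableEq B] {v : B → ℤ} {a b : B} (hab : a ≠ b)
    (h : ∀ χ, v χ ≠ 0 → χ = a ∨ χ = b) (f : B → ℤ) :
    ∑ χ, v χ * f χ = v a * f a + v b * f b := by
  rw [← sum_pair (f := fun χ => v χ * f χ) hab]
  refine (sum_subset (subset_univ _) fun χ _ hχ => ?_).symm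
  by_contra hne
  exact hχ (by simpa using h χ fun h0 => hne (by simp [h0]))

theorem sum_eq_three [DecidableEq B] {v : B → ℤ} {a b c : B} (hab : a ≠ b) (hac : a ≠ c)
    (hbc : b ≠ c) (h : ∀ χ, v χ ≠ 0 → χ = a ∨ χ = b ∨ χ = c) (f : B → ℤ) :
    ∑ χ, v χ * f χ = v a * f a + (v b * f b + v c * f c) := by
  rw [← sum_pair (f := fun χ => v χ * f χ) hbc,
    ← sum_insert (f := fun χ => v χ * f χ) (show a ∉ ({b, c} : Finset B) by simp [hab, hac])]
  refine (sum_subset (subset_univ _) fun χ _ hχ => ?_).symm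
  by_contra hne
  exact hχ (by simpa using h χ fun h0 => hne (by simp [h0]))

/-- Three known elements of the support of a vector of norm three are all. -/
theorem supp_three {v : B → ℤ} (h : ∑ χ, v χ ^ 2 = 3) {a b c : B} (hab : a ≠ b) (hac : a ≠ c)
    (hbc : b ≠ c) (ha : v a ≠ 0) (hb : v b ≠ 0) (hc : v c ≠ 0) {x : B} (hx : v x ≠ 0) :
    x = a ∨ x = b ∨ x = c := by
  classical
  by_contra hcon
  push Not at hcon
  have hsub : ({x, a, b, c} : Finset B) ⊆ univ.filter fun χ => v χ ≠ 0 := by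
    intro y hy
    simp only [mem_insert, mem_singleton] at hy
    rcases hy with rfl | rfl | rfl | rfl <;> simpa
  have h4 := card_le_card hsub
  rw [card_supp_eq (n := 3) (by exact_mod_cast h) le_rfl,
    card_insert_of_notMem (by simp [hcon.1, hcon.2.1, hcon.2.2]),
    card_insert_of_notMem (by simp [hab, hac]), card_pair hbc] at h4
  omega

/-- Two known elements of the support of a vector of norm three: there is one more. -/
theorem exists_third {v : B → ℤ} (h : ∑ χ, v χ ^ 2 = 3) {a b : B} (hab : a ≠ b)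
    (_ha : v a ≠ 0) (_hb : v b ≠ 0) : ∃ c, c ≠ a ∧ c ≠ b ∧ v c ≠ 0 := by
  classical
  by_contra hcon
  push Not at hcon
  have hsub : (univ.filter fun χ => v χ ≠ 0) ⊆ {a, b} := fun y hy => by
    by_contra hy'
    simp only [mem_insert, mem_singleton, not_or] at hy'
    exact (mem_filter.1 hy).2 (hcon y hy'.1 hy'.2)
  have h4 := card_le_card hsub
  rw [card_supp_eq (n := 3) (by exact_mod_cast h) le_rfl, card_pair hab] at h4
  omega

theorem mul_cases {x y : ℤ} (hx : x = 0 ∨ x = 1 ∨ x = -1) (hy : y = 0 ∨ y = 1 ∨ y = -1) :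
    x * y = 0 ∨ x * y = 1 ∨ x * y = -1 := by
  rcases hx with rfl | rfl | rfl <;> rcases hy with rfl | rfl | rfl <;> decide

theorem eq_of_mul_eq_one' {x y : ℤ} (hx : x = 0 ∨ x = 1 ∨ x = -1) (h : x * y = 1) : y = x := by
  rcases hx with rfl | rfl | rfl <;> omega

variable {d : I → B → ℤ} {o : B}

/-- A unit times a column entry. -/
theorem Shape.mul_entry (S : Shape d o) {v : ℤ} (hv : v = 0 ∨ v = 1 ∨ v = -1) (ι : I) (χ : B) :
    (S.two ι = some χ ∧ (v * d ι χ = 0 ∨ v * d ι χ = 2 ∨ v * d ι χ = -2)) ∨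
    (S.two ι ≠ some χ ∧ (v * d ι χ = 0 ∨ v * d ι χ = 1 ∨ v * d ι χ = -1)) := by
  have h := mul_cases hv (S.sq χ)
  rcases S.eq ι χ with ⟨e, he⟩ | ⟨e, he⟩
  · refine Or.inl ⟨e, ?_⟩
    rw [he, show v * (-2 * S.sign χ) = -2 * (v * S.sign χ) by ring]
    omega
  · exact Or.inr ⟨e, he ▸ h⟩

theorem endgame [DecidableEq I] [DecidableEq Ψ] (S : Shape d o) (ι₀ : I) (ψ₀ : Ψ) (D : B → ℤ)
    (hD : ∀ χ, 0 < D χ) (A V : Ψ → B → ℤ)
    (hAA : ∀ ψ φ, ∑ χ, A ψ χ * A φ χ = if ψ = φ then 2 else 0)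
    (hVV : ∀ ψ φ, ∑ χ, V ψ χ * V φ χ = if ψ = φ then 3 else 1)
    (hVA : ∀ ψ φ, ∑ χ, V ψ χ * A φ χ = if ψ = φ then 1 else 0)
    (hAd : ∀ ψ ι, ∑ χ, A ψ χ * d ι χ = 0)
    (hVd : ∀ ψ ι, ∑ χ, V ψ χ * d ι χ = if ι = ι₀ then 3 else 0)
    (hAD : ∀ ψ, ∑ χ, A ψ χ * D χ = 0) (hAo : ∀ ψ, A ψ o = 0)
    (hVo : ∀ ψ, V ψ o = if ψ = ψ₀ then 1 else 0)
    (hcard : Fintype.card Ψ + Fintype.card I = 6) :
    (univ.filter fun χ => S.sign χ ≠ 0).card = 6 ∧
      Nat.card {χ // S.sign χ ≠ 0 ∨ (∃ ψ, A ψ χ ≠ 0) ∨ ∃ ψ, V ψ χ ≠ 0} = 6 + 2 * Fintype.card Ψ := by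
  classical
  set T := univ.filter fun χ => S.sign χ ≠ 0 with hT
  have hsqA : ∀ ψ, ∑ χ, A ψ χ ^ 2 = 2 := fun ψ => by simp only [sq, hAA, if_true]
  have hsqV : ∀ ψ, ∑ χ, V ψ χ ^ 2 = 3 := fun ψ => by simp only [sq, hVV, if_true]
  have hv3 : ∀ ψ χ, V ψ χ = 0 ∨ V ψ χ = 1 ∨ V ψ χ = -1 := fun ψ χ =>
    abs_le_one_of_sum_sq (hsqV ψ) le_rfl χ
  -- the pairs
  have hpair : ∀ ψ, ∃ a b, a ≠ b ∧ A ψ a = 1 ∧ A ψ b = -1 ∧
      ∀ χ, A ψ χ ≠ 0 → χ = a ∨ χ = b := by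
    intro ψ
    obtain ⟨a, b, hab, he⟩ := card_eq_two.1 (card_supp_eq (v := A ψ) (n := 2)
      (by exact_mod_cast hsqA ψ) (by norm_num))
    have hmem : ∀ χ, A ψ χ ≠ 0 ↔ χ = a ∨ χ = b := fun χ => by
      have := congrArg (χ ∈ ·) he
      simpa using this
    have h := hAD ψ
    rw [sum_eq_pair hab fun χ hχ => (hmem χ).1 hχ] at h
    have hpa := hD a
    have hpb := hD b
    rcases abs_le_one_of_sum_sq (hsqA ψ) (by norm_num) a with ea | ea | ea
    · exact absurd ea ((hmem a).2 (Or.inl rfl))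
    all_goals rcases abs_le_one_of_sum_sq (hsqA ψ) (by norm_num) b with eb | eb | eb
    all_goals try exact absurd eb ((hmem b).2 (Or.inr rfl))
    · rw [ea, eb] at h; omega
    · exact ⟨a, b, hab, ea, eb, fun χ hχ => (hmem χ).1 hχ⟩
    · exact ⟨b, a, hab.symm, eb, ea, fun χ hχ => ((hmem χ).1 hχ).symm⟩
    · rw [ea, eb] at h; omega
  choose a b hab ha hb hAsupp using hpair
  have hAf : ∀ ψ (f : B → ℤ), ∑ χ, A ψ χ * f χ = f (a ψ) - f (b ψ) := by
    intro ψ f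
    rw [sum_eq_pair (hab ψ) (hAsupp ψ), ha, hb]
    ring
  have hoP : ∀ ψ, o ≠ a ψ ∧ o ≠ b ψ := fun ψ => by
    constructor <;> intro h <;> have := hAo ψ <;> rw [h] at this
    · rw [ha] at this; omega
    · rw [hb] at this; omega
  have hdisj : ∀ ψ φ, ψ ≠ φ → a ψ ≠ a φ ∧ a ψ ≠ b φ ∧ b ψ ≠ a φ ∧ b ψ ≠ b φ := by
    intro ψ φ hne
    have h := hAA ψ φ
    rw [hAf, if_neg hne] at h
    refine ⟨fun e => ?_, fun e => ?_, fun e => ?_, fun e => ?_⟩
    all_goals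
      by_cases h0 : A φ (a ψ) = 0
      · first
          | (rw [e, ha] at h0; omega)
          | (rw [e, hb] at h0; omega)
          | (rw [h0, e, ha] at h; omega)
          | (rw [h0, e, hb] at h; omega)
      · rcases hAsupp φ _ h0 with e' | e' <;>
          rcases hAsupp φ _ (show A φ (b ψ) ≠ 0 by omega) with e'' | e'' <;>
          (rw [e', e''] at h; simp only [ha, hb] at h; try omega) <;>
          exact hab ψ (e'.trans e''.symm)
  have hσab : ∀ ψ, S.sign (b ψ) = S.sign (a ψ) ∧ ∀ ι, S.two ι ≠ some (a ψ) ∧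
      S.two ι ≠ some (b ψ) ∧ d ι (a ψ) = S.sign (a ψ) ∧ d ι (b ψ) = S.sign (a ψ) := by
    intro ψ
    have key : ∀ ι, S.two ι ≠ some (a ψ) ∧ S.two ι ≠ some (b ψ) ∧
        S.sign (b ψ) = S.sign (a ψ) ∧ d ι (a ψ) = S.sign (a ψ) ∧ d ι (b ψ) = S.sign (a ψ) := by
      intro ι
      have h := hAd ψ ι
      rw [hAf] at h
      rcases S.eq ι (a ψ) with ⟨ea, da⟩ | ⟨ea, da⟩ <;> rcases S.eq ι (b ψ) with ⟨eb, db⟩ | ⟨eb, db⟩
      · exact absurd (Option.some.inj (ea.symm.trans eb)) (hab ψ)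
      · have := (S.two_ne ι _ ea).1
        rcases S.sq (a ψ) with e | e | e <;> rcases S.sq (b ψ) with e' | e' | e' <;> omega
      · have := (S.two_ne ι _ eb).1
        rcases S.sq (a ψ) with e | e | e <;> rcases S.sq (b ψ) with e' | e' | e' <;> omega
      · exact ⟨ea, eb, by omega, da, by omega⟩
    exact ⟨(key ι₀).2.2.1, fun ι => ⟨(key ι).1, (key ι).2.1, (key ι).2.2.2.1, (key ι).2.2.2.2⟩⟩
  have hVab : ∀ ψ φ, ψ ≠ φ → V ψ (a φ) = V ψ (b φ) := by
    intro ψ φ hne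
    have h := hVA ψ φ
    rw [if_neg hne, sum_congr rfl (g := fun χ => A φ χ * V ψ χ) fun χ _ => mul_comm _ _, hAf] at h
    omega
  have hown : ∀ ψ, ∃ u, (u = a ψ ∨ u = b ψ) ∧ V ψ u ≠ 0 ∧
      ∀ χ, (χ = a ψ ∨ χ = b ψ) → V ψ χ ≠ 0 → χ = u := by
    intro ψ
    have h := hVA ψ ψ
    rw [if_pos rfl, sum_congr rfl (g := fun χ => A ψ χ * V ψ χ) fun χ _ => mul_comm _ _, hAf] at h
    by_cases h0 : V ψ (a ψ) = 0
    · refine ⟨b ψ, Or.inr rfl, by omega, fun χ hχ hne => hχ.resolve_left fun e => ?_⟩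
      exact hne (e ▸ h0)
    · refine ⟨a ψ, Or.inl rfl, h0, fun χ hχ hne => hχ.resolve_right fun e => ?_⟩
      rcases hv3 ψ (a ψ) with e1 | e1 | e1 <;> rcases hv3 ψ (b ψ) with e2 | e2 | e2
      all_goals first | omega | exact hne (e ▸ e2)
  choose u hu hu0 huown using hown
  have hud : ∀ ψ ι, d ι (u ψ) = S.sign (a ψ) := fun ψ ι => by
    obtain ⟨-, -, e1, e2⟩ := (hσab ψ).2 ι
    rcases hu ψ with e | e <;> rw [e] <;> assumption
  have huo : ∀ ψ, u ψ ≠ o := fun ψ => by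
    rcases hu ψ with e | e <;> rw [e]
    exacts [(hoP ψ).1.symm, (hoP ψ).2.symm]
  have hune : ∀ ψ φ, ψ ≠ φ → u ψ ≠ a φ ∧ u ψ ≠ b φ := fun ψ φ hne => by
    obtain ⟨h1, h2, h3, h4⟩ := hdisj ψ φ hne
    rcases hu ψ with e | e <;> rw [e]
    exacts [⟨h1, h2⟩, ⟨h3, h4⟩]
  have hbd : ∀ ι χ, -2 ≤ d ι χ ∧ d ι χ ≤ 2 := fun ι χ => by
    rcases S.eq ι χ with ⟨-, e⟩ | ⟨-, e⟩ <;> rcases S.sq χ with e' | e' | e' <;> omega
  -- a third position of `V ψ` is outside all pairs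
  have houtside : ∀ ψ x w, u ψ ≠ x → u ψ ≠ w → x ≠ w → V ψ x ≠ 0 → V ψ w ≠ 0 →
      (∀ φ, φ ≠ ψ → x ≠ a φ ∧ x ≠ b φ) → ∀ φ, w ≠ a φ ∧ w ≠ b φ := by
    intro ψ x w hux huw hxw hx hw hxp φ
    by_cases hφ : φ = ψ
    · subst hφ
      exact ⟨fun e => huw (huown φ w (Or.inl e) hw).symm,
        fun e => huw (huown φ w (Or.inr e) hw).symm⟩
    · have h := hVab ψ φ (Ne.symm hφ)
      constructor <;> intro e
      · rcases supp_three (hsqV ψ) hux huw hxw (hu0 ψ) hx hw (x := b φ)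
          (by rw [← h, ← e]; exact hw) with e' | e' | e'
        · exact (hune ψ φ (Ne.symm hφ)).2 e'.symm
        · exact (hxp φ hφ).2 e'.symm
        · exact hab φ (e.symm.trans e'.symm)
      · rcases supp_three (hsqV ψ) hux huw hxw (hu0 ψ) hx hw (x := a φ)
          (by rw [h, ← e]; exact hw) with e' | e' | e'
        · exact (hune ψ φ (Ne.symm hφ)).1 e'.symm
        · exact (hxp φ hφ).1 e'.symm
        · exact hab φ (e'.trans e)
  -- the vector with trivial coefficient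
  have hVo0 : V ψ₀ o = 1 := by rw [hVo, if_pos rfl]
  obtain ⟨X, hXu, hXo, hX0⟩ := exists_third (hsqV ψ₀) (huo ψ₀) (hu0 ψ₀)
    (show V ψ₀ o ≠ 0 by rw [hVo0]; exact one_ne_zero)
  have hXP : ∀ φ, X ≠ a φ ∧ X ≠ b φ :=
    houtside ψ₀ o X (huo ψ₀) hXu.symm hXo.symm (by rw [hVo0]; exact one_ne_zero) hX0
      fun φ _ => hoP φ
  have hV0f : ∀ f : B → ℤ, ∑ χ, V ψ₀ χ * f χ =
      V ψ₀ (u ψ₀) * f (u ψ₀) + (f o + V ψ₀ X * f X) := by
    intro f
    rw [sum_eq_three (huo ψ₀) hXu.symm hXo.symm (fun χ hχ => supp_three (hsqV ψ₀) (huo ψ₀) hXu.symm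
      hXo.symm (hu0 ψ₀) (by rw [hVo0]; exact one_ne_zero) hX0 hχ) f, hVo0, one_mul]
  have huX : ∀ ψ, u ψ ≠ X := fun ψ => by
    rcases hu ψ with e | e <;> rw [e]
    exacts [(hXP ψ).1.symm, (hXP ψ).2.symm]
  have hE0 : ∀ ι, V ψ₀ (u ψ₀) * S.sign (a ψ₀) + (1 + V ψ₀ X * d ι X) =
      if ι = ι₀ then 3 else 0 := fun ι => by
    rw [← hVd ψ₀ ι, hV0f, hud, S.d_one]
  -- the other vectors
  have hdich : ∀ ψ, ψ ≠ ψ₀ →
      (∀ f : B → ℤ, ∑ χ, V ψ χ * f χ = V ψ (u ψ) * f (u ψ) +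
        (V ψ₀ (u ψ₀) * f (a ψ₀) + V ψ₀ (u ψ₀) * f (b ψ₀))) ∨
      (V ψ X = V ψ₀ X ∧ ∃ W, W ≠ u ψ ∧ W ≠ X ∧ W ≠ o ∧ V ψ W ≠ 0 ∧
        ∀ φ, W ≠ a φ ∧ W ≠ b φ) := by
    intro ψ hψ
    have h := hVV ψ₀ ψ
    rw [if_neg (Ne.symm hψ), hV0f, hVo, if_neg hψ, zero_add] at h
    have h0 := hVab ψ ψ₀ hψ
    have huu := hune ψ ψ₀ hψ
    by_cases hc : V ψ (u ψ₀) = 0
    · rw [hc, mul_zero, zero_add] at h
      have hX : V ψ X ≠ 0 := fun e => by rw [e] at h; omega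
      obtain ⟨W, hWu, hWX, hW0⟩ := exists_third (hsqV ψ) (huX ψ) (hu0 ψ) hX
      refine Or.inr ⟨?_, W, hWu, hWX, ?_, hW0,
        houtside ψ X W (huX ψ) hWu.symm hWX.symm hX hW0 fun φ _ => hXP φ⟩
      · exact eq_of_mul_eq_one' (hv3 ψ₀ X) h
      · intro e
        rw [e, hVo, if_neg hψ] at hW0
        exact hW0 rfl
    · have hval : V ψ (a ψ₀) = V ψ (u ψ₀) := by
        rcases hu ψ₀ with e | e <;> rw [e]
        exact h0
      have hca : V ψ (a ψ₀) ≠ 0 := by rw [hval]; exact hc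
      have hcb : V ψ (b ψ₀) ≠ 0 := by rw [← h0]; exact hca
      have hsupp : ∀ χ, V ψ χ ≠ 0 → χ = u ψ ∨ χ = a ψ₀ ∨ χ = b ψ₀ := fun χ hχ =>
        supp_three (hsqV ψ) huu.1 huu.2 (hab ψ₀) (hu0 ψ) hca hcb hχ
      have hXz : V ψ X = 0 := by
        by_contra hne
        rcases hsupp X hne with e | e | e
        exacts [huX ψ e.symm, (hXP ψ₀).1 e, (hXP ψ₀).2 e]
      rw [hXz, mul_zero, add_zero] at h
      have heq : V ψ (u ψ₀) = V ψ₀ (u ψ₀) := eq_of_mul_eq_one' (hv3 ψ₀ (u ψ₀)) h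
      refine Or.inl fun f => ?_
      rw [sum_eq_three huu.1 huu.2 (hab ψ₀) hsupp f, ← h0, hval, heq]
  have hWeq : ∀ ψ W, W ≠ u ψ → W ≠ X → V ψ X = V ψ₀ X → V ψ W ≠ 0 → ∀ f : B → ℤ,
      ∑ χ, V ψ χ * f χ = V ψ (u ψ) * f (u ψ) + (V ψ₀ X * f X + V ψ W * f W) := by
    intro ψ W hWu hWX hX hW f
    rw [sum_eq_three (huX ψ) hWu.symm hWX.symm (fun χ hχ => supp_three (hsqV ψ) (huX ψ) hWu.symm
      hWX.symm (hu0 ψ) (by rw [hX]; exact hX0) hW hχ) f, hX]
  -- two vectors sharing both outside positions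
  have hshare : ∀ ψ φ W, ψ ≠ φ → W ≠ u ψ → W ≠ u φ → W ≠ X → V ψ X = V ψ₀ X → V φ X = V ψ₀ X →
      V ψ W ≠ 0 → V φ W ≠ 0 → False := by
    intro ψ φ W hne hWψ hWφ hWX hXψ hXφ hψW hφW
    have h := hVV ψ φ
    have hz : V φ (u ψ) = 0 := by
      by_contra hz
      rcases supp_three (hsqV φ) (huX φ) hWφ.symm hWX.symm (hu0 φ) (by rw [hXφ]; exact hX0) hφW hz
        with e | e | e
      · rcases hu φ with e' | e' <;> rw [e'] at e
        exacts [(hune ψ φ hne).1 e, (hune ψ φ hne).2 e]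
      exacts [huX ψ e, hWψ e.symm]
    rw [if_neg hne, hWeq ψ W hWψ hWX hXψ hψW, hz, hXφ, mul_zero, zero_add] at h
    have h1 : V ψ₀ X * V ψ₀ X = 1 := by
      rcases hv3 ψ₀ X with e | e | e
      · exact absurd e hX0
      all_goals rw [e]; norm_num
    have h2 : V ψ W * V φ W ≠ 0 := mul_ne_zero hψW hφW
    omega
  set p : Ψ × Bool → B := fun x => if x.2 then a x.1 else b x.1 with hp
  have hpi : Function.Injective p := by
    rintro ⟨ψ, c⟩ ⟨φ, c'⟩ h
    simp only [hp] at h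
    by_cases hne : ψ = φ
    · subst hne
      cases c <;> cases c' <;> simp only [Bool.false_eq_true, if_true, if_false] at h
      · rfl
      · exact absurd h.symm (hab ψ)
      · exact absurd h (hab ψ)
      · rfl
    · obtain ⟨h1, h2, h3, h4⟩ := hdisj ψ φ hne
      cases c <;> cases c' <;> simp only [Bool.false_eq_true, if_true, if_false] at h
      exacts [absurd h h4, absurd h h3, absurd h h2, absurd h h1]
  have hpσ : ∀ x, S.sign (p x) = S.sign (a x.1) := fun x => by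
    simp only [hp]; split_ifs
    exacts [rfl, (hσab x.1).1]
  have hσ0 : S.sign (a ψ₀) = 0 := by
    by_contra hne
    have h1 := hE0 ι₀
    rw [if_pos rfl] at h1
    have he : V ψ₀ (u ψ₀) * S.sign (a ψ₀) = 1 ∧ V ψ₀ X * d ι₀ X = 1 := by
      have h2 := mul_cases (hv3 ψ₀ (u ψ₀)) (S.sq (a ψ₀))
      have h3 := mul_ne_zero (hu0 ψ₀) hne
      rcases S.mul_entry (hv3 ψ₀ X) ι₀ X with ⟨-, h4⟩ | ⟨-, h4⟩ <;> constructor <;> omega
    have hκ : ∀ κ, κ ≠ ι₀ → S.two κ = some X := fun κ hκ => by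
      have h2 := hE0 κ
      rw [if_neg hκ, he.1] at h2
      rcases S.mul_entry (hv3 ψ₀ X) κ X with ⟨e, -⟩ | ⟨-, e⟩
      · exact e
      · omega
    have hI : Fintype.card I ≤ 2 := by
      have h2 : (univ.erase ι₀).card ≤ 1 := card_le_one.2 fun κ hκ' μ hμ =>
        S.two_inj κ μ X (hκ κ (ne_of_mem_erase hκ')) (hκ μ (ne_of_mem_erase hμ))
      rw [card_erase_of_mem (mem_univ _), card_univ] at h2
      omega
    have hXT : S.sign X ≠ 0 := fun h0 => by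
      rw [S.d_eq_zero h0, mul_zero] at he
      omega
    set E := univ.filter fun ψ => S.sign (a ψ) = 0 with hE
    have hEw : ∀ ψ ∈ E, ψ ≠ ψ₀ ∧ V ψ X = V ψ₀ X ∧ ∃ W, W ≠ u ψ ∧ W ≠ X ∧ V ψ W ≠ 0 ∧
        S.two ι₀ = some W := by
      intro ψ hψ
      have hs : S.sign (a ψ) = 0 := (mem_filter.1 hψ).2
      have hψ0 : ψ ≠ ψ₀ := fun e => hne (e ▸ hs)
      have h2 := hVd ψ ι₀
      rw [if_pos rfl] at h2
      rcases hdich ψ hψ0 with hf | ⟨hX, W, hWu, hWX, -, hW0, -⟩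
      · obtain ⟨-, -, e1, e2⟩ := (hσab ψ₀).2 ι₀
        rw [hf, hud, hs, e1, e2, he.1] at h2
        omega
      · refine ⟨hψ0, hX, W, hWu, hWX, hW0, ?_⟩
        rw [hWeq ψ W hWu hWX hX hW0, hud, hs, he.2] at h2
        rcases S.mul_entry (hv3 ψ W) ι₀ W with ⟨e, -⟩ | ⟨-, e⟩
        · exact e
        · omega
    have hEc : E.card ≤ 1 := card_le_one.2 fun ψ hψ φ hφ => by
      by_contra hne'
      obtain ⟨-, hXψ, W, hWu, hWX, hW, hq⟩ := hEw ψ hψ
      obtain ⟨-, hXφ, W', hWu', -, hW', hq'⟩ := hEw φ hφ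
      obtain rfl : W = W' := Option.some.inj (hq.symm.trans hq')
      exact hshare ψ φ W hne' hWu hWu' hWX hXψ hXφ hW hW'
    have hsub : insert o (insert X (((univ \ E) ×ˢ (univ : Finset Bool)).image p)) ⊆ T := by
      intro χ hχ
      simp only [mem_insert, mem_image, mem_product, mem_sdiff, mem_univ, true_and, and_true,
        hE, mem_filter] at hχ
      refine mem_filter.2 ⟨mem_univ _, ?_⟩
      rcases hχ with rfl | rfl | ⟨x, hx, rfl⟩
      · rw [S.one]; exact one_ne_zero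
      · exact hXT
      · rw [hpσ]; exact hx
    have h3 := card_le_card hsub
    rw [card_insert_of_notMem, card_insert_of_notMem, card_image_of_injective _ hpi, card_product,
      card_univ, Fintype.card_bool, card_sdiff_of_subset (subset_univ _), card_univ] at h3
    · rcases S.card with ⟨h9, hI1, -⟩ | ⟨h6, -⟩
      · rw [← hT] at h9; omega
      · rw [← hT] at h6; omega
    · simp only [mem_image, not_exists, not_and]
      intro x _ e
      simp only [hp] at e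
      split_ifs at e
      exacts [(hXP x.1).1 e.symm, (hXP x.1).2 e.symm]
    · simp only [mem_insert, mem_image, not_or, not_exists, not_and]
      refine ⟨hXo.symm, fun x _ e => ?_⟩
      simp only [hp] at e
      split_ifs at e
      exacts [(hoP x.1).1 e.symm, (hoP x.1).2 e.symm]
  -- now the column vanishes on the pair of `ψ₀`
  have hEX : ∀ ι, V ψ₀ X * d ι X = if ι = ι₀ then 2 else -1 := fun ι => by
    have h := hE0 ι
    rw [hσ0, mul_zero, zero_add] at h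
    split_ifs at h ⊢ <;> omega
  have hX2 : S.two ι₀ = some X := by
    have h := hEX ι₀
    rw [if_pos rfl] at h
    rcases S.mul_entry (hv3 ψ₀ X) ι₀ X with ⟨e, -⟩ | ⟨-, e⟩
    · exact e
    · omega
  obtain ⟨hT6, hq⟩ : T.card = 6 ∧ ∀ ι, ∃ χ, S.two ι = some χ := by
    rcases S.card with ⟨-, -, hnone⟩ | h
    · rw [hnone] at hX2
      exact absurd hX2 (by simp)
    · exact h
  choose q hq using hq
  have hY : ∀ ψ, ∃ Y, V ψ X = V ψ₀ X ∧ Y ≠ u ψ ∧ Y ≠ X ∧ V ψ Y ≠ 0 ∧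
      ∀ φ, Y ≠ a φ ∧ Y ≠ b φ := by
    intro ψ
    by_cases hψ : ψ = ψ₀
    · subst hψ
      exact ⟨o, rfl, (huo ψ).symm, hXo.symm, by rw [hVo0]; exact one_ne_zero, hoP⟩
    · rcases hdich ψ hψ with hf | ⟨hX, W, h1, h2, -, h4, h5⟩
      · exfalso
        have h2 := hVd ψ ι₀
        obtain ⟨-, -, e1, e2⟩ := (hσab ψ₀).2 ι₀
        rw [if_pos rfl, hf, hud, e1, e2, hσ0] at h2
        have := mul_cases (hv3 ψ (u ψ)) (S.sq (a ψ))
        omega
      · exact ⟨W, hX, h1, h2, h4, h5⟩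
  choose Y hYX hYu hYne hY0 hYP using hY
  have hEY : ∀ ψ ι, V ψ (u ψ) * S.sign (a ψ) + V ψ (Y ψ) * d ι (Y ψ) = 1 := fun ψ ι => by
    have h := hVd ψ ι
    rw [hWeq ψ _ (hYu ψ) (hYne ψ) (hYX ψ) (hY0 ψ), hud, hEX] at h
    split_ifs at h <;> omega
  have hYi : Function.Injective Y := fun ψ φ e => by
    by_contra hne
    exact hshare ψ φ (Y ψ) hne (hYu ψ) (by rw [e]; exact hYu φ) (hYne ψ) (hYX ψ) (hYX φ) (hY0 ψ)
      (by rw [e]; exact hY0 φ)
  have hqi : Function.Injective q := fun ι κ e => S.two_inj ι κ _ (hq ι) (e ▸ hq κ)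
  have hqX : q ι₀ = X := Option.some.inj ((hq ι₀).symm.trans hX2)
  have hYσ : ∀ ψ, S.sign (a ψ) = 0 → S.sign (Y ψ) ≠ 0 ∧ ∀ ι, q ι ≠ Y ψ := by
    intro ψ hs
    refine ⟨fun h0 => ?_, fun ι e => ?_⟩
    · have h := hEY ψ ι₀
      rw [hs, S.d_eq_zero h0, mul_zero, mul_zero] at h
      omega
    · have h := hEY ψ ι
      rw [hs] at h
      rcases S.mul_entry (hv3 ψ (Y ψ)) ι (Y ψ) with ⟨-, ed⟩ | ⟨ne, -⟩
      · omega
      · exact ne (e ▸ hq ι)
  have hall : ∀ ψ, S.sign (a ψ) = 0 := by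
    set N := univ.filter fun ψ => S.sign (a ψ) ≠ 0 with hN
    set Z := univ.filter fun ψ => S.sign (a ψ) = 0 with hZ
    suffices hN0 : N.card = 0 by
      intro ψ
      by_contra hne
      have : ψ ∈ N := mem_filter.2 ⟨mem_univ _, hne⟩
      rw [card_eq_zero.1 hN0] at this
      simp at this
    have hsub : (univ.image q) ∪ ((Z.image Y) ∪ ((N ×ˢ (univ : Finset Bool)).image p)) ⊆ T := by
      intro χ hχ
      simp only [mem_union, mem_image, mem_product, mem_univ, true_and, and_true, hZ, hN,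
        mem_filter] at hχ
      refine mem_filter.2 ⟨mem_univ _, ?_⟩
      rcases hχ with ⟨ι, rfl⟩ | ⟨ψ, hψ, rfl⟩ | ⟨x, hx, rfl⟩
      · exact (S.two_ne ι _ (hq ι)).1
      · exact (hYσ ψ hψ).1
      · rw [hpσ]; exact hx
    have h3 := card_le_card hsub
    have hNZ : Z.card + N.card = Fintype.card Ψ := by
      rw [hZ, hN, ← card_univ]
      exact card_filter_add_card_filter_not _
    rw [card_union_of_disjoint, card_union_of_disjoint, card_image_of_injective _ hqi,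
      card_image_of_injective _ hYi, card_image_of_injective _ hpi, card_product, card_univ,
      card_univ, Fintype.card_bool, hT6] at h3
    · omega
    · simp only [disjoint_left, mem_image, mem_product, not_exists, not_and]
      rintro _ ⟨ψ, -, rfl⟩ x - e
      simp only [hp] at e
      split_ifs at e
      exacts [(hYP ψ x.1).1 e.symm, (hYP ψ x.1).2 e.symm]
    · simp only [disjoint_left, mem_union, mem_image, mem_product, not_or, not_exists, not_and]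
      rintro _ ⟨ι, -, rfl⟩
      refine ⟨fun ψ hψ e => (hYσ ψ (mem_filter.1 hψ).2).2 ι e.symm, fun x _ e => ?_⟩
      simp only [hp] at e
      split_ifs at e
      exacts [((hσab x.1).2 ι).1 (e ▸ hq ι), ((hσab x.1).2 ι).2.1 (e ▸ hq ι)]
  refine ⟨hT6, ?_⟩
  have hset : (univ.filter fun χ => S.sign χ ≠ 0 ∨ (∃ ψ, A ψ χ ≠ 0) ∨ ∃ ψ, V ψ χ ≠ 0) =
      T ∪ (univ : Finset (Ψ × Bool)).image p := by
    ext χ
    simp only [mem_union, mem_filter, mem_univ, true_and, hT, mem_image]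
    constructor
    · rintro (h | ⟨ψ, h⟩ | ⟨ψ, h⟩)
      · exact Or.inl h
      · rcases hAsupp ψ χ h with e | e
        exacts [Or.inr ⟨(ψ, true), e.symm⟩, Or.inr ⟨(ψ, false), e.symm⟩]
      · rcases supp_three (hsqV ψ) (huX ψ) (hYu ψ).symm (hYne ψ).symm (hu0 ψ)
          (by rw [hYX]; exact hX0) (hY0 ψ) h with e | e | e
        · rcases hu ψ with e' | e'
          exacts [Or.inr ⟨(ψ, true), (e.trans e').symm⟩, Or.inr ⟨(ψ, false), (e.trans e').symm⟩]
        · subst e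
          exact Or.inl (S.two_ne ι₀ _ hX2).1
        · subst e
          exact Or.inl (hYσ ψ (hall ψ)).1
    · rintro (h | ⟨⟨ψ, c⟩, rfl⟩)
      · exact Or.inl h
      · refine Or.inr (Or.inl ⟨ψ, ?_⟩)
        cases c <;> simp [hp, ha, hb]
  rw [Nat.card_eq_fintype_card, Fintype.card_subtype, hset, card_union_of_disjoint,
    card_image_of_injective _ hpi, card_univ, Fintype.card_prod, Fintype.card_bool, hT6, mul_comm]
  simp only [disjoint_left, mem_image, mem_univ, true_and, not_exists]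
  intro χ hχ x e
  exact (mem_filter.1 hχ).2 (by rw [← e, hpσ, hall])

end CfsgLib.ExtraspecialThree
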