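import Cfsg.Prelude.Def_Transfer
import Cfsg.Agent.ExtraspecialBasic.Order
import Cfsg.Agent.Transfer.Frobenius
import Mathlib.GroupTheory.Transfer

/-!
# Extraspecial Sylow subgroups of order 27 and exponent 3 whose normaliser fixes the centre

A generator `z` of the centre of `P` is weakly closed (`conj_eq`), fusion of 3-elements is that of
`C(z)` (`exists_conj_mem`), and the elements of `P` conjugate in `C(z)` are conjugate in `N(P)`
(`exists_normalizer_conj`).
-/

set_option autoImplicit false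
set_option linter.unusedSectionVars false
set_option linter.style.haveILetI false

namespace CfsgLib.ExtraspecialThree

open Subgroup

universe u

variable {G : Type u} [Group G]

/-- The local hypothesis. -/
structure Setting (P : Sylow 3 G) (z : G) : Prop where
  card : Nat.card ↥(P : Subgroup G) = 27
  exp : ∀ a ∈ (P : Subgroup G), a ^ 3 = 1
  z_mem : z ∈ (P : Subgroup G)
  z_ne : z ≠ 1
  z_comm : ∀ a ∈ (P : Subgroup G), a * z = z * a
  center : ∀ a ∈ (P : Subgroup G), (∀ b ∈ (P : Subgroup G), a * b = b * a) → a ∈ zpowers z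
  comm : ∀ a ∈ (P : Subgroup G), ∀ b ∈ (P : Subgroup G), a * b * a⁻¹ * b⁻¹ ∈ zpowers z
  norm : ∀ g ∈ normalizer ((P : Subgroup G) : Set G), g * z = z * g

/-- An element of order 3 generates the subgroup `{1, z, z²}`. -/
theorem mem_zpowers_three {z a : G} (hz : z ^ 3 = 1) (ha : a ∈ zpowers z) :
    a = 1 ∨ a = z ∨ a = z⁻¹ := by
  obtain ⟨i, rfl⟩ := mem_zpowers_iff.1 ha
  have hz' : z ^ (3 : ℤ) = 1 := by exact_mod_cast hz
  have h : z ^ i = z ^ (i % 3) := by
    conv_lhs => rw [← Int.emod_add_mul_ediv i 3, zpow_add, zpow_mul, hz', one_zpow, mul_one]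
  rw [h]
  rcases (show i % 3 = 0 ∨ i % 3 = 1 ∨ i % 3 = 2 by omega) with h | h | h <;> rw [h]
  · exact Or.inl (zpow_zero z)
  · exact Or.inr (Or.inl (zpow_one z))
  · refine Or.inr (Or.inr (eq_inv_of_mul_eq_one_left ?_))
    rw [show z ^ (2 : ℤ) * z = z ^ (3 : ℤ) by rw [← zpow_add_one]; norm_num, hz']

/-- Two Sylow subgroups inside `K` are conjugate by an element of `K`. -/
theorem exists_mul_mem_normalizer [Finite G] (P : Sylow 3 G) {K : Subgroup G}
    (hP : (P : Subgroup G) ≤ K) {g : G} (hg : ∀ a ∈ (P : Subgroup G), g * a * g⁻¹ ∈ K) :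
    ∃ h ∈ K, h * g ∈ normalizer ((P : Subgroup G) : Set G) := by
  set Q : Sylow 3 G := MulAut.conj g • P
  have hQ : (Q : Subgroup G) ≤ K := by
    rintro _ ⟨a, ha, rfl⟩
    exact hg a ha
  obtain ⟨k, hk⟩ := MulAction.exists_smul_eq K (Q.subtype hQ) (P.subtype hP)
  refine ⟨k, k.2, ?_⟩
  have key : ∀ a ∈ (P : Subgroup G), ((k : G) * g) * a * ((k : G) * g)⁻¹ ∈ (P : Subgroup G) := by
    intro a ha
    have hgK : g * a * g⁻¹ ∈ K := hg a ha
    have h1 : k * ⟨g * a * g⁻¹, hgK⟩ * k⁻¹ ∈ ((k • Q.subtype hQ : Sylow 3 K) : Subgroup K) :=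
      ⟨⟨g * a * g⁻¹, hgK⟩, (show g * a * g⁻¹ ∈ (Q : Subgroup G) from ⟨a, ha, rfl⟩), rfl⟩
    rw [hk] at h1
    have h2 : (k : G) * (g * a * g⁻¹) * (k : G)⁻¹ ∈ (P : Subgroup G) := h1
    simpa [mul_assoc] using h2
  refine mem_normalizer_iff.2 fun a => ⟨key a, fun ha => ?_⟩
  have hinj : Function.Injective
      (fun b : ↥(P : Subgroup G) => (⟨_, key b b.2⟩ : ↥(P : Subgroup G))) := fun b c h => by
    simpa using congrArg Subtype.val h
  obtain ⟨b, hb⟩ := (Finite.injective_iff_surjective.1 hinj) ⟨_, ha⟩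
  have : (b : G) = a := by simpa using congrArg Subtype.val hb
  exact this ▸ b.2

namespace Setting

variable {P : Sylow 3 G} {z : G} (S : Setting P z)
include S

theorem z_pow : z ^ 3 = 1 := S.exp z S.z_mem

theorem zpowers_le : zpowers z ≤ (P : Subgroup G) := Subgroup.zpowers_le.2 S.z_mem

theorem le_centralizer : (P : Subgroup G) ≤ centralizer ({z} : Set G) :=
  fun a ha => mem_centralizer_singleton_iff.2 (S.z_comm a ha)

theorem normalizer_le : normalizer ((P : Subgroup G) : Set G) ≤ centralizer ({z} : Set G) :=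
  fun a ha => mem_centralizer_singleton_iff.2 (S.norm a ha)

theorem comm_zpowers {c : G} (hc : c ∈ zpowers z) {a : G} (ha : a ∈ (P : Subgroup G)) :
    a * c = c * a := by
  obtain ⟨i, rfl⟩ := mem_zpowers_iff.1 hc
  exact (Commute.zpow_right (S.z_comm a ha) i).eq

/-- A noncentral element is conjugate in `P` to all elements of its coset. -/
theorem exists_conj_mul {w s : G} (hw : w ∈ (P : Subgroup G)) (hw' : w ∉ zpowers z)
    (hs : s ∈ zpowers z) : ∃ b ∈ (P : Subgroup G), b * w * b⁻¹ = w * s := by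
  obtain ⟨b, hb, hne⟩ : ∃ b ∈ (P : Subgroup G), b * w * b⁻¹ * w⁻¹ ≠ 1 := by
    by_contra hcon
    push Not at hcon
    refine hw' (S.center w hw fun b hb => ?_)
    have h := hcon b hb
    rw [mul_inv_eq_one, mul_inv_eq_iff_eq_mul] at h
    exact h.symm
  set c := b * w * b⁻¹ * w⁻¹ with hc
  have hcz : c ∈ zpowers z := S.comm b hb w hw
  have hbw : b * w * b⁻¹ = w * c := by
    rw [S.comm_zpowers hcz hw, hc]; group
  have hpow : ∀ n : ℕ, b ^ n * w * (b ^ n)⁻¹ = w * c ^ n := by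
    intro n
    induction n with
    | zero => simp
    | succ n ih =>
      have h2 : b * c ^ n * b⁻¹ = c ^ n := by
        rw [S.comm_zpowers (pow_mem hcz n) hb]; group
      calc b ^ (n + 1) * w * (b ^ (n + 1))⁻¹ = b * (b ^ n * w * (b ^ n)⁻¹) * b⁻¹ := by
            rw [pow_succ']; group
        _ = (b * w * b⁻¹) * (b * c ^ n * b⁻¹) := by rw [ih]; group
        _ = w * c ^ (n + 1) := by rw [h2, hbw, pow_succ' c n, mul_assoc]
  obtain ⟨n, rfl⟩ : ∃ n : ℕ, s = c ^ n := by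
    rcases mem_zpowers_three S.z_pow hcz with h | h | h
    · exact absurd h hne
    all_goals rcases mem_zpowers_three S.z_pow hs with hs' | hs' | hs'
    all_goals subst hs'
    · exact ⟨0, (pow_zero _).symm⟩
    · exact ⟨1, by rw [h, pow_one]⟩
    · refine ⟨2, ?_⟩
      rw [h, inv_eq_iff_mul_eq_one]
      rw [← pow_succ']; exact S.z_pow
    · exact ⟨0, (pow_zero _).symm⟩
    · refine ⟨2, ?_⟩
      rw [h, inv_pow, eq_inv_iff_mul_eq_one, ← pow_succ']; exact S.z_pow
    · exact ⟨1, by rw [h, pow_one]⟩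
  exact ⟨b ^ n, pow_mem hb n, hpow n⟩

theorem card_inf [Finite G] {a : G} (ha : a ∈ (P : Subgroup G)) (ha' : a ∉ zpowers z) :
    Nat.card ↥((P : Subgroup G) ⊓ centralizer ({a} : Set G)) = 9 := by
  set E := (P : Subgroup G) ⊓ centralizer ({a} : Set G)
  have hz : z ∈ E := ⟨S.z_mem, mem_centralizer_singleton_iff.2 (S.z_comm a ha).symm⟩
  have haE : a ∈ E := ⟨ha, mem_centralizer_singleton_iff.2 rfl⟩
  have h27 := S.card
  have hdvd : Nat.card E ∣ 3 ^ 3 := by
    have := Subgroup.card_dvd_of_le (inf_le_left : E ≤ (P : Subgroup G))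
    rwa [h27] at this
  obtain ⟨j, hj, hjE⟩ := (Nat.dvd_prime_pow Nat.prime_three).1 hdvd
  have hlt : E < (P : Subgroup G) := lt_of_le_of_ne inf_le_left fun h => ha' (S.center a ha fun b hb => by
    have hb' : b ∈ E := h.symm ▸ hb
    exact (mem_centralizer_singleton_iff.1 hb'.2).symm)
  have hlt' : Nat.card E < 27 := by
    rw [← h27]
    refine lt_of_le_of_ne (Subgroup.card_le_of_le hlt.le) fun h => hlt.ne ?_
    exact Subgroup.eq_of_le_of_card_ge hlt.le h.ge
  have hgt : zpowers z < E := lt_of_le_of_ne (Subgroup.zpowers_le.2 hz) fun h => ha' (h ▸ haE)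
  have hgt' : Nat.card (zpowers z) < Nat.card E := by
    refine lt_of_le_of_ne (Subgroup.card_le_of_le hgt.le) fun h => hgt.ne ?_
    exact Subgroup.eq_of_le_of_card_ge hgt.le h.ge
  rw [Nat.card_zpowers, orderOf_eq_prime S.z_pow S.z_ne] at hgt'
  interval_cases j <;> simp_all

theorem comm_of_mem_inf [Finite G] {a e f : G} (ha : a ∈ (P : Subgroup G)) (ha' : a ∉ zpowers z)
    (he : e ∈ (P : Subgroup G) ⊓ centralizer ({a} : Set G))
    (hf : f ∈ (P : Subgroup G) ⊓ centralizer ({a} : Set G)) : e * f = f * e := by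
  haveI : Fact (Nat.Prime 3) := ⟨Nat.prime_three⟩
  have h := IsPGroup.isMulCommutative_of_card_eq_prime_sq (p := 3)
    (G := ↥((P : Subgroup G) ⊓ centralizer ({a} : Set G))) (by rw [S.card_inf ha ha']; norm_num)
  exact congrArg Subtype.val (h.is_comm.comm ⟨e, he⟩ ⟨f, hf⟩)

theorem conj_mem_inf {a b e : G} (ha : a ∈ (P : Subgroup G)) (hb : b ∈ (P : Subgroup G))
    (he : e ∈ (P : Subgroup G) ⊓ centralizer ({a} : Set G)) :
    b * e * b⁻¹ ∈ (P : Subgroup G) ⊓ centralizer ({a} : Set G) := by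
  have h : b * e * b⁻¹ * e⁻¹ ∈ zpowers z := S.comm b hb e he.1
  have h' : b * e * b⁻¹ * e⁻¹ ∈ (P : Subgroup G) ⊓ centralizer ({a} : Set G) :=
    ⟨S.zpowers_le h, mem_centralizer_singleton_iff.2 (S.comm_zpowers h ha).symm⟩
  have := mul_mem h' he
  simpa using this

/-- The elements fixing `z` and the coset of `a`. -/
def cosetStab (a : G) : Subgroup G where
  carrier := {h | h * z * h⁻¹ = z ∧ ∃ s ∈ zpowers z, h * a * h⁻¹ = a * s}
  one_mem' := ⟨by simp, 1, one_mem _, by simp⟩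
  mul_mem' := by
    rintro g h ⟨hg, s, hs, hga⟩ ⟨hh, t, ht, hha⟩
    refine ⟨?_, s * t, mul_mem hs ht, ?_⟩
    · calc g * h * z * (g * h)⁻¹ = g * (h * z * h⁻¹) * g⁻¹ := by group
        _ = z := by rw [hh, hg]
    · obtain ⟨i, rfl⟩ := mem_zpowers_iff.1 ht
      have hgz : g * z ^ i * g⁻¹ = z ^ i := by
        rw [← conj_zpow, hg]
      calc g * h * a * (g * h)⁻¹ = g * (h * a * h⁻¹) * g⁻¹ := by group
        _ = (g * a * g⁻¹) * (g * z ^ i * g⁻¹) := by rw [hha]; group
        _ = a * (s * z ^ i) := by rw [hga, hgz, mul_assoc]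
  inv_mem' := by
    rintro g ⟨hg, s, hs, hga⟩
    have hg' : g⁻¹ * z * g⁻¹⁻¹ = z := by
      conv_lhs => rw [← hg]
      group
    refine ⟨hg', s⁻¹, inv_mem hs, ?_⟩
    obtain ⟨i, rfl⟩ := mem_zpowers_iff.1 hs
    have hgz : g⁻¹ * z ^ i * g⁻¹⁻¹ = z ^ i := by rw [← conj_zpow, hg']
    have h2 : a = g⁻¹ * a * g⁻¹⁻¹ * z ^ i :=
      calc a = g⁻¹ * (g * a * g⁻¹) * g := by group
        _ = g⁻¹ * a * g⁻¹⁻¹ * (g⁻¹ * z ^ i * g⁻¹⁻¹) := by rw [hga]; group
        _ = g⁻¹ * a * g⁻¹⁻¹ * z ^ i := by rw [hgz]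
    exact eq_mul_inv_of_mul_eq h2.symm

theorem le_cosetStab {a : G} (ha : a ∈ (P : Subgroup G)) :
    (P : Subgroup G) ≤ cosetStab (z := z) a := fun b hb =>
  ⟨by rw [S.z_comm b hb]; group, b * a * b⁻¹ * a⁻¹, S.comm b hb a ha,
    by rw [S.comm_zpowers (S.comm b hb a ha) ha]; group⟩

variable [Finite G]

/-- `z` is weakly closed in `P`. -/
theorem conj_eq {g : G} (hg : g * z * g⁻¹ ∈ (P : Subgroup G)) : g * z * g⁻¹ = z := by
  haveI : Fact (Nat.Prime 3) := ⟨Nat.prime_three⟩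
  set y := g * z * g⁻¹ with hy
  by_cases hyz : y ∈ zpowers z
  · rcases mem_zpowers_three S.z_pow hyz with h | h | h
    · exact absurd (by rw [hy, mul_inv_eq_one, mul_eq_left] at h; exact h) S.z_ne
    · exact h
    exfalso
    -- conjugate Sylow subgroups of the centraliser of `z`
    have hgz : g⁻¹ * z * g = z⁻¹ := by
      have : z = g * z⁻¹ * g⁻¹ := by
        rw [show g * z⁻¹ * g⁻¹ = (g * z * g⁻¹)⁻¹ by group, ← hy, h, inv_inv]
      conv_lhs => rw [this]
      group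
    obtain ⟨c, hc, hn⟩ := exists_mul_mem_normalizer P S.le_centralizer (g := g⁻¹) (fun a ha => by
      have hgi : g⁻¹ * z⁻¹ * g = z := by
        have := congrArg (·⁻¹) hgz
        simpa [mul_assoc] using this
      refine mem_centralizer_singleton_iff.2 ?_
      have h1 : a * z⁻¹ = z⁻¹ * a := (Commute.inv_right (S.z_comm a ha)).eq
      calc g⁻¹ * a * g⁻¹⁻¹ * z = g⁻¹ * a * g * (g⁻¹ * z⁻¹ * g) := by rw [hgi]; group
        _ = g⁻¹ * (a * z⁻¹) * g := by group
        _ = (g⁻¹ * z⁻¹ * g) * (g⁻¹ * a * g) := by rw [h1]; group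
        _ = z * (g⁻¹ * a * g⁻¹⁻¹) := by rw [hgi]; group)
    have h2 := S.norm _ hn
    have h3 : c * g⁻¹ * z = z⁻¹ * (c * g⁻¹) := by
      calc c * g⁻¹ * z = c * (g⁻¹ * z * g) * g⁻¹ := by group
        _ = c * z⁻¹ * g⁻¹ := by rw [hgz]
        _ = z⁻¹ * (c * g⁻¹) := by
          rw [(Commute.inv_right (mem_centralizer_singleton_iff.1 hc)).eq, mul_assoc]
    have h4 : z = z⁻¹ := mul_right_cancel (h2.symm.trans h3)
    exact S.z_ne (by
      have : z ^ 2 = 1 := by rw [pow_two]; nth_rewrite 2 [h4]; exact mul_inv_cancel z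
      calc z = z ^ 3 * (z ^ 2)⁻¹ := by group
        _ = 1 := by rw [S.z_pow, this]; simp)
  exfalso
  -- a Sylow subgroup of the centraliser of `y` containing `P ∩ C(y)`
  set E := (P : Subgroup G) ⊓ centralizer ({y} : Set G) with hE
  have hzE : z ∈ E := ⟨S.z_mem, mem_centralizer_singleton_iff.2 (S.z_comm y hg).symm⟩
  set Q : Sylow 3 G := MulAut.conj g • P with hQdef
  have hQ : (Q : Subgroup G) ≤ centralizer ({y} : Set G) := by
    rintro _ ⟨a, ha, rfl⟩
    refine mem_centralizer_singleton_iff.2 ?_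
    show g * a * g⁻¹ * y = y * (g * a * g⁻¹)
    rw [hy]
    calc g * a * g⁻¹ * (g * z * g⁻¹) = g * (a * z) * g⁻¹ := by group
      _ = g * (z * a) * g⁻¹ := by rw [S.z_comm a ha]
      _ = g * z * g⁻¹ * (g * a * g⁻¹) := by group
  obtain ⟨T, hT⟩ := (((P.isPGroup'.to_le (inf_le_left : E ≤ _)).comap_subtype
    (K := centralizer ({y} : Set G)))).exists_le_sylow
  obtain ⟨c, hc⟩ := MulAction.exists_smul_eq (centralizer ({y} : Set G)) (Q.subtype hQ) T
  set k := (c : G) * g with hk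
  have hky : k * z * k⁻¹ = y := by
    calc k * z * k⁻¹ = (c : G) * y * (c : G)⁻¹ := by
          show (c : G) * g * z * ((c : G) * g)⁻¹ = (c : G) * (g * z * g⁻¹) * (c : G)⁻¹
          group
      _ = y := by rw [mem_centralizer_singleton_iff.1 c.2]; group
  have hEk : ∀ e ∈ E, k⁻¹ * e * k ∈ (P : Subgroup G) := by
    intro e he
    have h1 : (⟨e, he.2⟩ : centralizer ({y} : Set G)) ∈
        ((c • Q.subtype hQ : Sylow 3 _) : Subgroup _) := by
      rw [hc]; exact hT (show ((⟨e, he.2⟩ : centralizer ({y} : Set G)) : G) ∈ E from he)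
    obtain ⟨q, hq, hqe⟩ := h1
    obtain ⟨a, ha, haq⟩ : (q : G) ∈ (Q : Subgroup G) := hq
    have : e = k * a * k⁻¹ := by
      have h2 := congrArg Subtype.val hqe
      change (c : G) * (q : G) * (c : G)⁻¹ = e at h2
      rw [← h2, ← haq, hk]
      show (c : G) * (g * a * g⁻¹) * (c : G)⁻¹ = _
      group
    rw [this, show k⁻¹ * (k * a * k⁻¹) * k = a by group]
    exact ha
  set w := k⁻¹ * z * k with hw
  have hwP := hEk z hzE
  have hwz : w ∉ zpowers z := by
    intro h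
    obtain ⟨i, hi⟩ := mem_zpowers_iff.1 h
    have h1 : z = y ^ i := by
      rw [← hky, conj_zpow, hi, hw]; group
    refine hyz ?_
    rcases mem_zpowers_three (z := y) (by rw [hy, conj_pow, S.z_pow]; group)
      (h1 ▸ zpow_mem (mem_zpowers y) i) with h2 | h2 | h2
    · exact absurd h2 S.z_ne
    · rw [← h2]; exact mem_zpowers z
    · rw [← inv_inv y, ← h2]; exact inv_mem (mem_zpowers z)
  obtain ⟨b, hb, hbw⟩ := S.exists_conj_mul hg hyz (mem_zpowers z)
  obtain ⟨d', hd', hdw⟩ := S.exists_conj_mul hwP hwz (inv_mem (mem_zpowers z))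
  set d := k * d' * k⁻¹ with hd
  have hdy : d * y * d⁻¹ = y := by
    calc d * y * d⁻¹ = k * (d' * z * d'⁻¹) * k⁻¹ := by rw [hd, ← hky]; group
      _ = y := by rw [S.z_comm d' hd', ← hky]; group
  have hdz : d * z * d⁻¹ = z * y⁻¹ := by
    calc d * z * d⁻¹ = k * (d' * w * d'⁻¹) * k⁻¹ := by rw [hd, hw]; group
      _ = z * y⁻¹ := by rw [hdw, ← hky]; group
  have hbz : b * z * b⁻¹ = z := by rw [S.z_comm b hb]; group
  have hcy : z * y = y * z := (S.z_comm y hg).symm
  set u := b * d * b with hu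
  have huz : u * z * u⁻¹ = y⁻¹ := by
    calc u * z * u⁻¹ = b * (d * (b * z * b⁻¹) * d⁻¹) * b⁻¹ := by rw [hu]; group
      _ = b * (z * y⁻¹) * b⁻¹ := by rw [hbz, hdz]
      _ = (b * z * b⁻¹) * (b * y * b⁻¹)⁻¹ := by group
      _ = z * (z⁻¹ * y⁻¹) := by rw [hbz, hbw, mul_inv_rev]
      _ = y⁻¹ := by group
  have huy : u * y * u⁻¹ = z := by
    calc u * y * u⁻¹ = b * (d * (b * y * b⁻¹) * d⁻¹) * b⁻¹ := by rw [hu]; group
      _ = b * ((d * y * d⁻¹) * (d * z * d⁻¹)) * b⁻¹ := by rw [hbw]; group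
      _ = b * (y * (z * y⁻¹)) * b⁻¹ := by rw [hdy, hdz]
      _ = b * z * b⁻¹ := by
        rw [← mul_assoc y, ← hcy]; group
      _ = z := hbz
  set v := u * u with hv
  have hvz : v * z * v⁻¹ = z⁻¹ := by
    calc v * z * v⁻¹ = u * (u * z * u⁻¹) * u⁻¹ := by rw [hv]; group
      _ = (u * y * u⁻¹)⁻¹ := by rw [huz]; group
      _ = z⁻¹ := by rw [huy]
  have hvy : v * y * v⁻¹ = y⁻¹ := by
    calc v * y * v⁻¹ = u * (u * y * u⁻¹) * u⁻¹ := by rw [hv]; group
      _ = y⁻¹ := by rw [huy, huz]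
  -- adjust `v` into the normaliser of `P`
  obtain ⟨h, ⟨hhz, -⟩, hn⟩ := exists_mul_mem_normalizer P (S.le_cosetStab hg) (g := v)
    (fun a ha => by
      obtain ⟨ha1, s, hs, ha2⟩ := S.le_cosetStab hg ha
      refine ⟨?_, ?_⟩
      · have h1 : v⁻¹ * z * v = z⁻¹ := by
          conv_lhs => rw [show z = v * z⁻¹ * v⁻¹ by
            rw [show v * z⁻¹ * v⁻¹ = (v * z * v⁻¹)⁻¹ by group, hvz, inv_inv]]
          group
        calc v * a * v⁻¹ * z * (v * a * v⁻¹)⁻¹ = v * (a * (v⁻¹ * z * v) * a⁻¹) * v⁻¹ := by group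
          _ = v * (a * z * a⁻¹)⁻¹ * v⁻¹ := by rw [h1]; group
          _ = (v * z * v⁻¹)⁻¹ := by rw [ha1]; group
          _ = z := by rw [hvz, inv_inv]
      · obtain ⟨i, rfl⟩ := mem_zpowers_iff.1 hs
        refine ⟨z ^ i, hs, ?_⟩
        have h1 : v⁻¹ * y * v = y⁻¹ := by
          conv_lhs => rw [show y = v * y⁻¹ * v⁻¹ by
            rw [show v * y⁻¹ * v⁻¹ = (v * y * v⁻¹)⁻¹ by group, hvy, inv_inv]]
          group
        calc v * a * v⁻¹ * y * (v * a * v⁻¹)⁻¹ = v * (a * (v⁻¹ * y * v) * a⁻¹) * v⁻¹ := by group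
          _ = v * (a * y * a⁻¹)⁻¹ * v⁻¹ := by rw [h1]; group
          _ = (v * z ^ i * v⁻¹)⁻¹ * (v * y * v⁻¹)⁻¹ := by rw [ha2]; group
          _ = z ^ i * y := by rw [← conj_zpow, hvz, hvy, inv_zpow, inv_inv, inv_inv]
          _ = y * z ^ i := (Commute.zpow_left hcy i).eq)
  have h2 := S.norm _ hn
  have h3 : h * v * z = z⁻¹ * (h * v) := by
    have hh : h * z = z * h := mul_inv_eq_iff_eq_mul.1 hhz
    calc h * v * z = h * (v * z * v⁻¹) * v := by group
      _ = z⁻¹ * (h * v) := by rw [hvz, (Commute.inv_right hh).eq, mul_assoc]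
  have h4 : z = z⁻¹ := mul_right_cancel (h2.symm.trans h3)
  exact S.z_ne (by
    have : z ^ 2 = 1 := by rw [pow_two]; nth_rewrite 2 [h4]; exact mul_inv_cancel z
    calc z = z ^ 3 * (z ^ 2)⁻¹ := by group
      _ = 1 := by rw [S.z_pow, this]; simp)

theorem mem_centralizer_of_conj_mem {g : G} (hg : g * z * g⁻¹ ∈ (P : Subgroup G)) :
    g ∈ centralizer ({z} : Set G) :=
  mem_centralizer_singleton_iff.2 (mul_inv_eq_iff_eq_mul.1 (S.conj_eq hg))

/-- A central element conjugate into `P` stays put. -/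
theorem conj_central {g s : G} (hs : s ∈ zpowers z) (hg : g * s * g⁻¹ ∈ (P : Subgroup G)) :
    g * s * g⁻¹ = s := by
  rcases mem_zpowers_three S.z_pow hs with rfl | rfl | rfl
  · simp
  · exact S.conj_eq hg
  · have h1 : g * z * g⁻¹ ∈ (P : Subgroup G) := by
      simpa [mul_assoc] using inv_mem hg
    calc g * z⁻¹ * g⁻¹ = (g * z * g⁻¹)⁻¹ := by group
      _ = z⁻¹ := by rw [S.conj_eq h1]

/-- Only central elements of `P` are centralised by a Sylow subgroup. -/
theorem not_dvd_centralizer {a : G} (ha : a ∈ (P : Subgroup G)) (ha' : a ∉ zpowers z) :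
    ¬ 27 ∣ Nat.card (centralizer ({a} : Set G)) := by
  haveI : Fact (Nat.Prime 3) := ⟨Nat.prime_three⟩
  intro hd
  obtain ⟨Q, hQ⟩ := Sylow.exists_subgroup_card_pow_prime 3 (n := 3)
    (G := centralizer ({a} : Set G)) (by norm_num; exact hd)
  obtain ⟨R, hR⟩ := ((IsPGroup.of_card hQ).map (centralizer ({a} : Set G)).subtype).exists_le_sylow
  obtain ⟨g, hg⟩ := MulAction.exists_smul_eq G R P
  have hRc : Nat.card ↥(R : Subgroup G) = 27 := by
    rw [R.card_eq_multiplicity, ← P.card_eq_multiplicity, S.card]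
  have hRQ : Q.map (centralizer ({a} : Set G)).subtype = (R : Subgroup G) := by
    refine Subgroup.eq_of_le_of_card_ge hR ?_
    rw [hRc, Subgroup.card_map_of_injective Subtype.val_injective, hQ]; norm_num
  have hcen : ∀ r ∈ (R : Subgroup G), r * a = a * r := by
    intro r hr
    rw [← hRQ] at hr
    obtain ⟨q, -, rfl⟩ := hr
    exact mem_centralizer_singleton_iff.1 q.2
  obtain ⟨r₀, hr₀, hr₀'⟩ : ∃ r ∈ (R : Subgroup G), g * r * g⁻¹ = z := by
    have : z ∈ ((g • R : Sylow 3 G) : Subgroup G) := hg.symm ▸ S.z_mem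
    obtain ⟨r, hr, he⟩ := this
    exact ⟨r, hr, he⟩
  have haR : a ∈ (R : Subgroup G) := by
    have hzp : IsPGroup 3 (zpowers a) :=
      P.isPGroup'.to_le (Subgroup.zpowers_le.2 ha)
    have hle : zpowers a ≤ normalizer ((R : Subgroup G) : Set G) := by
      refine (Subgroup.zpowers_le).2 (mem_normalizer_iff.2 fun x => ⟨fun hx => ?_, fun hx => ?_⟩)
      · rwa [← hcen x hx, mul_inv_cancel_right]
      · have h1 := hcen _ hx
        have : a * x * a⁻¹ = x := by
          have h2 : a * (a * x * a⁻¹) = a * x := by rw [← h1]; group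
          exact mul_left_cancel h2
        rwa [this] at hx
    have h1 := (hzp.to_sup_of_normal_right' R.isPGroup' hle)
    exact (R.3 h1 le_sup_right) ▸ (le_sup_left (b := (R : Subgroup G))) (mem_zpowers a)
  have hgP : ∀ r ∈ (R : Subgroup G), g * r * g⁻¹ ∈ (P : Subgroup G) := fun r hr =>
    hg ▸ (⟨r, hr, rfl⟩ : g * r * g⁻¹ ∈ ((g • R : Sylow 3 G) : Subgroup G))
  have hga : g * a * g⁻¹ ∈ zpowers z := by
    refine S.center _ (hgP a haR) fun b hb => ?_
    obtain ⟨r, hr, rfl⟩ : b ∈ ((g • R : Sylow 3 G) : Subgroup G) := hg.symm ▸ hb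
    show g * a * g⁻¹ * (g * r * g⁻¹) = g * r * g⁻¹ * (g * a * g⁻¹)
    calc g * a * g⁻¹ * (g * r * g⁻¹) = g * (a * r) * g⁻¹ := by group
      _ = g * (r * a) * g⁻¹ := by rw [hcen r hr]
      _ = _ := by group
  refine ha' ?_
  have h := S.conj_central hga (g := g⁻¹) (by simpa [mul_assoc] using ha)
  rw [← h] at hga
  simpa [mul_assoc] using hga

theorem factorization_centralizer {a : G} (ha : a ∈ (P : Subgroup G)) (ha' : a ∉ zpowers z) :
    (Nat.card (centralizer ({a} : Set G))).factorization 3 = 2 := by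
  have h9 : 3 ^ 2 ∣ Nat.card (centralizer ({a} : Set G)) := by
    have h := Subgroup.card_dvd_of_le
      (inf_le_right : (P : Subgroup G) ⊓ centralizer ({a} : Set G) ≤ centralizer ({a} : Set G))
    rwa [S.card_inf ha ha'] at h
  refine le_antisymm ?_ ((Nat.prime_three.pow_dvd_iff_le_factorization Nat.card_pos.ne').1 h9)
  by_contra h
  exact S.not_dvd_centralizer ha ha'
    (by simpa using (Nat.prime_three.pow_dvd_iff_le_factorization Nat.card_pos.ne').2 (not_le.1 h))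

/-- `P ∩ C(a)` is a Sylow subgroup of `C(a)`. -/
theorem exists_sylow {a : G} (ha : a ∈ (P : Subgroup G)) (ha' : a ∉ zpowers z) :
    ∃ Q : Sylow 3 (centralizer ({a} : Set G)),
      (Q : Subgroup _).map (centralizer ({a} : Set G)).subtype =
        (P : Subgroup G) ⊓ centralizer ({a} : Set G) := by
  haveI : Fact (Nat.Prime 3) := ⟨Nat.prime_three⟩
  set E := (P : Subgroup G) ⊓ centralizer ({a} : Set G)
  obtain ⟨Q, hQ⟩ := ((P.isPGroup'.to_le (inf_le_left : E ≤ _)).comap_subtype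
    (K := centralizer ({a} : Set G))).exists_le_sylow
  refine ⟨Q, (Subgroup.eq_of_le_of_card_ge (H := E) (fun e he =>
    Subgroup.mem_map.2 ⟨⟨e, he.2⟩, hQ he, rfl⟩) ?_).symm⟩
  rw [Subgroup.card_map_of_injective Subtype.val_injective, Q.card_eq_multiplicity,
    S.factorization_centralizer ha ha', S.card_inf ha ha']
  norm_num

/-- Conjugation between noncentral elements carries `z` to itself, up to the centraliser. -/
theorem exists_adjust {a b g : G} (ha : a ∈ (P : Subgroup G)) (hb : b ∈ (P : Subgroup G))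
    (ha' : a ∉ zpowers z) (hg : g * a * g⁻¹ = b) :
    ∃ h ∈ centralizer ({b} : Set G), h * g ∈ centralizer ({z} : Set G) ∧ b ∉ zpowers z := by
  haveI : Fact (Nat.Prime 3) := ⟨Nat.prime_three⟩
  have hb' : b ∉ zpowers z := by
    intro h
    refine ha' ?_
    have hga : g⁻¹ * b * g⁻¹⁻¹ = a := by rw [← hg]; group
    have h1 := S.conj_central h (g := g⁻¹) (hga ▸ ha)
    rw [hga] at h1
    rwa [h1]
  have hzb : g * z * g⁻¹ ∈ centralizer ({b} : Set G) := by
    refine mem_centralizer_singleton_iff.2 ?_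
    rw [← hg]
    calc g * z * g⁻¹ * (g * a * g⁻¹) = g * (z * a) * g⁻¹ := by group
      _ = g * (a * z) * g⁻¹ := by rw [S.z_comm a ha]
      _ = g * a * g⁻¹ * (g * z * g⁻¹) := by group
  obtain ⟨R, hR⟩ := (IsPGroup.of_card (p := 3) (n := 1)
    (G := zpowers (⟨g * z * g⁻¹, hzb⟩ : centralizer ({b} : Set G))) (by
      rw [Nat.card_zpowers, pow_one, ← Subgroup.orderOf_coe]
      show orderOf (g * z * g⁻¹) = 3
      rw [show g * z * g⁻¹ = MulAut.conj g z from rfl, MulEquiv.orderOf_eq,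
        orderOf_eq_prime S.z_pow S.z_ne])).exists_le_sylow
  obtain ⟨Q, hQ⟩ := S.exists_sylow hb hb'
  obtain ⟨c, hc⟩ := MulAction.exists_smul_eq (centralizer ({b} : Set G)) R Q
  refine ⟨c, c.2, S.mem_centralizer_of_conj_mem ?_, hb'⟩
  have h1 : c * ⟨g * z * g⁻¹, hzb⟩ * c⁻¹ ∈ (Q : Subgroup _) :=
    hc ▸ (⟨⟨g * z * g⁻¹, hzb⟩, hR (mem_zpowers _), rfl⟩ :
      c * ⟨g * z * g⁻¹, hzb⟩ * c⁻¹ ∈ ((c • R : Sylow 3 _) : Subgroup _))
  have h2 : (c : G) * (g * z * g⁻¹) * (c : G)⁻¹ ∈ (P : Subgroup G) := by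
    have : (c : G) * (g * z * g⁻¹) * (c : G)⁻¹ ∈
        (Q : Subgroup _).map (centralizer ({b} : Set G)).subtype := ⟨_, h1, rfl⟩
    rw [hQ] at this
    exact this.1
  simpa [mul_assoc] using h2

/-- Fusion in `P` is realised in `C(z)`. -/
theorem exists_conj_mem {a b g : G} (ha : a ∈ (P : Subgroup G)) (hb : b ∈ (P : Subgroup G))
    (hg : g * a * g⁻¹ = b) : ∃ h ∈ centralizer ({z} : Set G), h * a * h⁻¹ = b := by
  by_cases ha' : a ∈ zpowers z
  · refine ⟨1, one_mem _, ?_⟩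
    rw [← hg, S.conj_central ha' (g := g) (by rw [hg]; exact hb)]
    simp
  obtain ⟨c, hc, hcg, -⟩ := S.exists_adjust ha hb ha' hg
  refine ⟨c * g, hcg, ?_⟩
  calc c * g * a * (c * g)⁻¹ = c * b * c⁻¹ := by rw [← hg]; group
    _ = b := by rw [mem_centralizer_singleton_iff.1 hc]; group

/-- Elements of `P` conjugate in `C(z)` are conjugate in `N(P)`. -/
theorem exists_normalizer_conj {a b g : G} (ha : a ∈ (P : Subgroup G))
    (hb : b ∈ (P : Subgroup G)) (hg : g * a * g⁻¹ = b) :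
    ∃ n ∈ normalizer ((P : Subgroup G) : Set G), n * a * n⁻¹ = b := by
  by_cases ha' : a ∈ zpowers z
  · refine ⟨1, one_mem _, ?_⟩
    rw [← hg, S.conj_central ha' (g := g) (by rw [hg]; exact hb)]
    simp
  obtain ⟨c, hc, hcz, hb'⟩ := S.exists_adjust ha hb ha' hg
  set k := c * g with hk
  have hka : k * a * k⁻¹ = b := by
    calc c * g * a * (c * g)⁻¹ = c * b * c⁻¹ := by rw [← hg]; group
      _ = b := by rw [mem_centralizer_singleton_iff.1 hc]; group
  have hkz : k * z * k⁻¹ = z := by rw [mem_centralizer_singleton_iff.1 hcz]; group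
  have hkz' : k⁻¹ * z * k = z := by
    conv_lhs => rw [← hkz]
    group
  have hkb : k⁻¹ * b * k = a := by rw [← hka]; group
  obtain ⟨h, ⟨-, s, hs, hhb⟩, hn⟩ := exists_mul_mem_normalizer P (S.le_cosetStab hb) (g := k)
    (fun p hp => by
      obtain ⟨hp1, s, hs, hp2⟩ := S.le_cosetStab ha hp
      refine ⟨?_, ?_⟩
      · calc k * p * k⁻¹ * z * (k * p * k⁻¹)⁻¹ = k * (p * (k⁻¹ * z * k) * p⁻¹) * k⁻¹ := by group
          _ = z := by rw [hkz', hp1, hkz]
      · obtain ⟨i, rfl⟩ := mem_zpowers_iff.1 hs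
        refine ⟨z ^ i, hs, ?_⟩
        calc k * p * k⁻¹ * b * (k * p * k⁻¹)⁻¹ = k * (p * (k⁻¹ * b * k) * p⁻¹) * k⁻¹ := by group
          _ = (k * a * k⁻¹) * (k * z ^ i * k⁻¹) := by rw [hkb, hp2]; group
          _ = b * z ^ i := by rw [hka, ← conj_zpow, hkz])
  obtain ⟨q, hq, hqb⟩ := S.exists_conj_mul hb hb' (inv_mem hs)
  refine ⟨q * (h * k), mul_mem (le_normalizer hq) hn, ?_⟩
  calc q * (h * k) * a * (q * (h * k))⁻¹ = q * (h * (k * a * k⁻¹) * h⁻¹) * q⁻¹ := by group
    _ = (q * b * q⁻¹) * (q * s * q⁻¹) := by rw [hka, hhb]; group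
    _ = b := by
      rw [hqb, show q * s * q⁻¹ = s by rw [S.comm_zpowers hs hq]; group, inv_mul_cancel_right]

/-- The centraliser of a noncentral element has a normal 3-complement. -/
theorem normalizer_le_centralizer_sylow {a : G} (ha : a ∈ (P : Subgroup G))
    (ha' : a ∉ zpowers z) (Q : Sylow 3 (centralizer ({a} : Set G)))
    (hQ : (Q : Subgroup _).map (centralizer ({a} : Set G)).subtype =
      (P : Subgroup G) ⊓ centralizer ({a} : Set G)) :
    normalizer (((Q : Subgroup (centralizer ({a} : Set G)))) : Set (centralizer ({a} : Set G))) ≤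
      centralizer ((Q : Subgroup (centralizer ({a} : Set G))) : Set _) := by
  set E := (P : Subgroup G) ⊓ centralizer ({a} : Set G)
  have hQE : ∀ e, e ∈ (Q : Subgroup (centralizer ({a} : Set G))) ↔ (e : G) ∈ E := fun e => by
    rw [← hQ]
    exact ⟨fun h => ⟨e, h, rfl⟩, fun ⟨e', he', hee⟩ => (Subtype.ext hee : e' = e) ▸ he'⟩
  intro g hg
  have hzE : z ∈ E := ⟨S.z_mem, mem_centralizer_singleton_iff.2 (S.z_comm a ha).symm⟩
  have haE : a ∈ E := ⟨ha, mem_centralizer_singleton_iff.2 rfl⟩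
  have hgz : (g : G) * z * (g : G)⁻¹ = z := by
    refine S.conj_eq ?_
    have := (mem_normalizer_iff.1 hg ⟨z, hzE.2⟩).1 ((hQE _).2 hzE)
    exact ((hQE _).1 this).1
  -- `E` is generated by `a` and `z`
  have hgen : E ≤ Subgroup.closure {a, z} := by
    have hle : Subgroup.closure {a, z} ≤ E := by
      rw [Subgroup.closure_le]; rintro x (rfl | rfl)
      exacts [haE, hzE]
    refine (Subgroup.eq_of_le_of_card_ge hle ?_).ge
    rw [S.card_inf ha ha']
    have h1 : zpowers z < Subgroup.closure {a, z} :=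
      lt_of_le_of_ne (Subgroup.zpowers_le.2 (Subgroup.subset_closure (by simp))) fun h =>
        ha' (h ▸ Subgroup.subset_closure (by simp))
    have h2 : Nat.card (zpowers z) < Nat.card (Subgroup.closure {a, z}) := by
      refine lt_of_le_of_ne (Subgroup.card_le_of_le h1.le) fun h => h1.ne ?_
      exact Subgroup.eq_of_le_of_card_ge h1.le h.ge
    rw [Nat.card_zpowers, orderOf_eq_prime S.z_pow S.z_ne] at h2
    have h3 : Nat.card (Subgroup.closure {a, z}) ∣ 3 ^ 2 := by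
      have := Subgroup.card_dvd_of_le hle
      rwa [S.card_inf ha ha'] at this
    obtain ⟨j, hj, hje⟩ := (Nat.dvd_prime_pow Nat.prime_three).1 h3
    interval_cases j <;> simp_all
  refine mem_centralizer_iff.2 fun e he => Subtype.ext ?_
  have he' : (e : G) ∈ E := (hQE e).1 he
  have hfix : E ≤ centralizer ({(g : G)} : Set G) := hgen.trans (by
    rw [Subgroup.closure_le]
    rintro x (rfl | rfl)
    · exact mem_centralizer_singleton_iff.2 (mem_centralizer_singleton_iff.1 g.2).symm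
    · exact mem_centralizer_singleton_iff.2 (mul_inv_eq_iff_eq_mul.1 hgz).symm)
  exact mem_centralizer_singleton_iff.1 (hfix he')

theorem exists_complement {a : G} (ha : a ∈ (P : Subgroup G)) (ha' : a ∉ zpowers z) :
    ∃ K : Subgroup (centralizer ({a} : Set G)), K.Normal ∧ ¬ 3 ∣ Nat.card K ∧
      ∃ j, K.index = 3 ^ j := by
  haveI : Fact (Nat.Prime 3) := ⟨Nat.prime_three⟩
  obtain ⟨Q, hQ⟩ := S.exists_sylow ha ha'
  have hc := MonoidHom.ker_transferSylow_isComplement' Q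
    (S.normalizer_le_centralizer_sylow ha ha' Q hQ)
  refine ⟨_, MonoidHom.normal_ker _, ?_, _, hc.symm.index_eq_card.trans Q.card_eq_multiplicity⟩
  rw [← hc.index_eq_card]
  exact Q.not_dvd_index

end Setting

end CfsgLib.ExtraspecialThree
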