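import Cfsg.Agent.BlocksRational.DecompositionSurj
import Cfsg.Agent.Characters.BrauerInduction

/-!
# Composition with the p'-part

`isGen_comp_regP`: for a generalized character `θ` also `g ↦ θ (g_{p'})` is one, by Brauer's
characterisation, as the p'-part is a homomorphism on an elementary group.
-/

set_option autoImplicit false
set_option linter.unusedSectionVars false
set_option linter.style.haveILetI false

namespace CfsgLib.ExtraspecialThree

open Cfsg CfsgLib.BlocksRational

universe u

variable {G : Type u} [Group G] {p : ℕ} [Fact p.Prime]

theorem regP_conj [Finite G] (g h : G) : regP p (h * g * h⁻¹) = h * regP p g * h⁻¹ :=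
  regP_map (p := p) (MulAut.conj h).toMonoidHom (MulAut.conj h).injective g

theorem isGen_comp_regP [Fintype G] {θ : G → ℂ} (hθ : Cfsg.IsGeneralizedCharacter G θ) :
    Cfsg.IsGeneralizedCharacter G (fun g => θ (regP p g)) := by
  refine Characters.isGen_of_elementary (fun g h => ?_) fun E q hq hE => ?_
  · show θ (regP p (h * g * h⁻¹)) = θ (regP p g)
    rw [regP_conj, Characters.isClassFunction_of_isGen hθ]
  · haveI : Group.IsNilpotent E := isNilpotent_of_elementary hq hE
    have hres : (fun e : E => θ (regP p (e : G))) = fun e : E => θ ((regP p e : E) : G) :=
      funext fun e => congrArg θ (regP_map (p := p) E.subtype E.subtype_injective e)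
    rw [hres]
    exact Characters.isGen_comp (MonoidHom.mk' (regP p) (regP_mul hq hE))
      (Characters.isGen_restrict E hθ)

end CfsgLib.ExtraspecialThree
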