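import Cfsg.Agent.ExtraspecialThree.Columns
import Cfsg.Agent.ExtraspecialThree.RegPart
import Cfsg.Agent.ExtraspecialThree.Endgame
import Cfsg.Agent.BlocksCharsC.CliffordInvariant
import Cfsg.Agent.BlocksLocal.PrincipalColumn
import Mathlib.RingTheory.RootsOfUnity.Complex

/-!
# The local relations

`z` central in `H`.  Every element is regular, `z^{±1}` times regular or in the section of a
noncentral class; so the inner products over the regular elements of principal block characters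
are given by the central characters and the columns (`relation`).
-/

set_option autoImplicit false
set_option linter.unusedSectionVars false
set_option linter.style.haveILetI false

namespace CfsgLib.ExtraspecialThree

open Cfsg CfsgLib.Blocks CfsgLib.PrincipalBlock CfsgLib.BlockPairing
open scoped ComplexConjugate

universe u

/-- A primitive cube root of unity. -/
noncomputable def w3 : ℂ := Complex.exp (2 * Real.pi * Complex.I / (3 : ℕ))

theorem w3_prim : IsPrimitiveRoot w3 3 := Complex.isPrimitiveRoot_exp 3 (by norm_num)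

theorem w3_cube : w3 ^ 3 = 1 := w3_prim.pow_eq_one

theorem w3_ne : w3 ≠ 1 := w3_prim.ne_one (by norm_num)

theorem w3_sum : 1 + w3 + w3 * w3 = 0 :=
  mul_left_cancel₀ (sub_ne_zero.2 w3_ne) (by linear_combination w3_cube)

theorem w3_sq_ne : w3 * w3 ≠ 1 := fun h => w3_ne (by
  calc w3 = w3 ^ 3 := by rw [pow_succ, pow_two, h, one_mul]
    _ = 1 := w3_cube)

theorem conj_w3 : conj w3 = w3 * w3 := by
  have h1 : ‖w3‖ = 1 := Complex.norm_eq_one_of_pow_eq_one w3_cube (by norm_num)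
  have h : w3 * conj w3 = 1 := by
    rw [Complex.mul_conj, Complex.normSq_eq_norm_sq, h1]
    norm_num
  calc conj w3 = w3 ^ 3 * conj w3 := by rw [w3_cube, one_mul]
    _ = w3 * w3 * (w3 * conj w3) := by ring
    _ = w3 * w3 := by rw [h, mul_one]

theorem cube_cases {c : ℂ} (h : c ^ 3 = 1) : c = 1 ∨ c = w3 ∨ c = w3 * w3 := by
  have : (c - 1) * ((c - w3) * (c - w3 * w3)) = 0 := by
    linear_combination h + (c - c ^ 2) * w3_sum + (c - 1) * w3_cube
  rcases mul_eq_zero.1 this with h1 | h1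
  · exact Or.inl (sub_eq_zero.1 h1)
  rcases mul_eq_zero.1 h1 with h1 | h1
  · exact Or.inr (Or.inl (sub_eq_zero.1 h1))
  · exact Or.inr (Or.inr (sub_eq_zero.1 h1))

variable {H : Type u} [Group H]

/-- The central character at `z`. -/
noncomputable def zval (z : H) (ξ : H → ℂ) : ℂ := ξ z / ξ 1

theorem apply_z_mul {z : H} (hzc : z ∈ Subgroup.center H) (ξ : IrrCharacter H) (g : H) :
    (ξ : H → ℂ) (z * g) = zval z (ξ : H → ℂ) * (ξ : H → ℂ) g := by
  have h := BlocksCharsC.irr_central_mul ξ.2 hzc g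
  rw [zval, div_mul_eq_mul_div, eq_div_iff (Characters.irr_one_ne_zero ξ.2), h]

variable [Fintype H] {P : Sylow 3 H} {z : H} {M : Ideal AlgInt} [M.IsPrime]
variable [Fintype ↥(Cfsg.principalBlock M H)]

theorem zval_cube {z : H} (hzc : z ∈ Subgroup.center H) (hz : z ^ 3 = 1) (ξ : IrrCharacter H) :
    zval z (ξ : H → ℂ) ^ 3 = 1 := by
  have h1 := apply_z_mul hzc ξ (z * z)
  have h2 := apply_z_mul hzc ξ z
  have h3 := apply_z_mul hzc ξ (1 : H)
  rw [mul_one] at h3
  have h4 : z * (z * z) = 1 := by rw [← mul_assoc, ← pow_two, ← pow_succ, hz]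
  rw [h4, h2, h3] at h1
  exact mul_right_cancel₀ (Characters.irr_one_ne_zero ξ.2)
    (show zval z (ξ : H → ℂ) ^ 3 * (ξ : H → ℂ) 1 = 1 * (ξ : H → ℂ) 1 by
      conv_rhs => rw [one_mul, h1]
      ring)

theorem conj_zval {z : H} (hzc : z ∈ Subgroup.center H) (hz : z ^ 3 = 1) (ξ : IrrCharacter H) :
    conj (zval z (ξ : H → ℂ)) = zval z (ξ : H → ℂ) * zval z (ξ : H → ℂ) := by
  rcases cube_cases (zval_cube hzc hz ξ) with h | h | h <;> rw [h]
  · simp
  · exact conj_w3
  · rw [map_mul, conj_w3]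

theorem zval_mul_conj {z : H} (hzc : z ∈ Subgroup.center H) (hz : z ^ 3 = 1) (ξ : IrrCharacter H) :
    zval z (ξ : H → ℂ) * conj (zval z (ξ : H → ℂ)) = 1 := by
  rw [conj_zval hzc hz ξ, ← mul_assoc, ← pow_two, ← pow_succ]
  exact zval_cube hzc hz ξ

/-- The coefficient of `R` in the orthogonality relation. -/
noncomputable def zco (z : H) (ξ η : H → ℂ) : ℂ :=
  1 + zval z ξ * conj (zval z η) + conj (zval z ξ) * zval z η

namespace Setting

variable (S : Setting P z)
include S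

/-- The class function of a column. -/
noncomputable def colFn (ι : Cls S) (g : H) : ℂ :=
  ∑ ξ : ↥(Cfsg.principalBlock M H), (S.col ι ξ : ℂ) * (ξ.1 : H → ℂ) g

theorem value_of_isConj (hM : Cfsg.IsPModular 3 M) (he : 2 ∣ S.inert) {g a : H}
    (ha : Cfsg.IsPPart 3 g a) (ι : Cls S) (h : IsConj a (S.rep ι))
    (ξ : ↥(Cfsg.principalBlock M H)) : (ξ.1 : H → ℂ) g = S.col ι ξ := by
  obtain ⟨c, hc⟩ := isConj_iff.1 h
  have h1 := isPPart_conj ha c
  rw [hc] at h1
  obtain ⟨y, hy, hcomm, -, hy'⟩ := h1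
  rw [← Characters.isClassFunction_of_isIrr ξ.1.2 g c, ← hy, S.value_section hM ι ξ hcomm hy',
    ← S.cast_col he]

theorem colFn_eq (hM : Cfsg.IsPModular 3 M) (he : 2 ∣ S.inert) {g a : H}
    (ha : Cfsg.IsPPart 3 g a) (ι : Cls S) :
    (IsConj a (S.rep ι) → S.colFn (M := M) ι g = 9) ∧
      (¬ IsConj a (S.rep ι) → S.colFn (M := M) ι g = 0) := by
  constructor <;> intro h
  · rw [colFn, Finset.sum_congr rfl fun ξ _ => by rw [S.value_of_isConj hM he ha ι h ξ]]
    rw [show (9 : ℂ) = ((9 : ℤ) : ℂ) by norm_num, ← S.col_sq (M := M) hM he ι]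
    push_cast
    exact Finset.sum_congr rfl fun ξ _ => by rw [pow_two]
  · haveI : Fact (Nat.Prime 3) := ⟨Nat.prime_three⟩
    classical
    have hinv : IsConj (S.rep ι) (S.rep ι)⁻¹ := S.isConj_inv he (S.rep_mem ι) (S.rep_not_mem ι)
    have h1 := sum_block_mul_inv_eq_zero hM (h := (S.rep ι)⁻¹) ha
      (isPPart_self (x := (S.rep ι)⁻¹) ⟨1, by rw [orderOf_inv, S.orderOf_rep, pow_one]⟩)
      (fun h' => h (h'.trans hinv.symm)) (isPBlock_principalBlock (G := H) (M := M))
    rw [inv_inv, sum_ite_mem] at h1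
    rw [colFn, ← h1]
    exact Finset.sum_congr rfl fun ξ _ => by rw [S.cast_col he, mul_comm]

theorem colFn_regular (hM : Cfsg.IsPModular 3 M) (he : 2 ∣ S.inert) {g : H}
    (hg : ¬ 3 ∣ orderOf g) (ι : Cls S) : S.colFn (M := M) ι g = 0 :=
  (S.colFn_eq hM he (isPPart_regular hg) ι).2 fun h =>
    S.not_isConj_central (one_mem _) ι h

theorem part_z_mul (hzc : z ∈ Subgroup.center H) {s : H} (hs : s ∈ Subgroup.zpowers z) {y : H}
    (hy : ¬ 3 ∣ orderOf y) : Cfsg.IsPPart 3 (s * y) s := by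
  refine isPPart_of_mul ((Subgroup.mem_center_iff.1
    (Subgroup.zpowers_le.2 hzc hs) y).symm) ?_ hy
  by_cases h : s = 1
  · exact ⟨0, by rw [h, orderOf_one, pow_zero]⟩
  · exact ⟨1, by rw [S.orderOf_eq_three (S.zpowers_le hs) h, pow_one]⟩

open Classical in
/-- The three central sections and the sections of the noncentral classes. -/
theorem partition (hzc : z ∈ Subgroup.center H) (hM : Cfsg.IsPModular 3 M) (he : 2 ∣ S.inert)
    [Fintype (Cls S)] (g : H) :
    (if 3 ∣ orderOf g then (0 : ℂ) else 1) + (if 3 ∣ orderOf (z⁻¹ * g) then (0 : ℂ) else 1) +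
      (if 3 ∣ orderOf (z * g) then (0 : ℂ) else 1) + (∑ ι, S.colFn (M := M) ι g) / 9 = 1 := by
  haveI : Fact (Nat.Prime 3) := ⟨Nat.prime_three⟩
  obtain ⟨a, ha⟩ := exists_isPPart Nat.prime_three g
  have key : ∀ s ∈ Subgroup.zpowers z, (¬ 3 ∣ orderOf (s⁻¹ * g) ↔ a = s) := by
    intro s hs
    constructor
    · intro hy
      have := S.part_z_mul hzc hs hy
      rw [mul_inv_cancel_left] at this
      exact isPPart_unique Nat.prime_three ha this
    · rintro rfl
      obtain ⟨y, rfl, -, -, hy⟩ := ha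
      rwa [inv_mul_cancel_left]
  have k0 := key 1 (one_mem _)
  have k1 := key z (Subgroup.mem_zpowers z)
  have k2 := key z⁻¹ (inv_mem (Subgroup.mem_zpowers z))
  rw [inv_one, one_mul] at k0
  rw [inv_inv] at k2
  have hz1 : z ≠ 1 := S.z_ne
  have hz2 : z ≠ z⁻¹ := S.z_ne_inv
  have hz3 : z⁻¹ ≠ 1 := inv_ne_one.2 hz1
  have hcen : ∀ s ∈ Subgroup.zpowers z, IsConj a s → a = s := by
    intro s hs h
    obtain ⟨c, hc⟩ := isConj_iff.1 h.symm
    rw [← hc, Subgroup.mem_center_iff.1 (Subgroup.zpowers_le.2 hzc hs) c, mul_inv_cancel_right]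
  have hcol : ∀ s ∈ Subgroup.zpowers z, a = s → ∑ ι, S.colFn (M := M) ι g = 0 := fun s hs h =>
    Finset.sum_eq_zero fun ι _ => (S.colFn_eq hM he ha ι).2 (h ▸ S.not_isConj_central hs ι)
  rcases S.exists_class (x := a) ha.choose_spec.2.2.1 with h | h | h | ⟨ι, hι⟩
  · rw [if_neg (k0.2 h), if_pos (not_not.1 fun e => hz1 ((k1.1 e).symm.trans h)),
      if_pos (not_not.1 fun e => hz3 ((k2.1 e).symm.trans h)), hcol 1 (one_mem _) h]
    ring
  · have h := hcen z (Subgroup.mem_zpowers z) h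
    rw [if_pos (not_not.1 fun e => hz1 (h.symm.trans (k0.1 e))), if_neg (k1.2 h),
      if_pos (not_not.1 fun e => hz2 (h.symm.trans (k2.1 e))),
      hcol z (Subgroup.mem_zpowers z) h]
    ring
  · have h := hcen z⁻¹ (inv_mem (Subgroup.mem_zpowers z)) h
    rw [if_pos (not_not.1 fun e => hz3 (h.symm.trans (k0.1 e))),
      if_pos (not_not.1 fun e => hz2 ((k1.1 e).symm.trans h)), if_neg (k2.2 h),
      hcol z⁻¹ (inv_mem (Subgroup.mem_zpowers z)) h]
    ring
  · have hne : ∀ s ∈ Subgroup.zpowers z, a ≠ s := fun s hs e =>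
      S.not_isConj_central hs ι (e ▸ hι)
    rw [if_pos (not_not.1 fun e => hne 1 (one_mem _) (k0.1 e)),
      if_pos (not_not.1 fun e => hne z (Subgroup.mem_zpowers z) (k1.1 e)),
      if_pos (not_not.1 fun e => hne z⁻¹ (inv_mem (Subgroup.mem_zpowers z)) (k2.1 e)),
      Finset.sum_eq_single ι (fun κ _ hκ => (S.colFn_eq hM he ha κ).2
        fun h => hκ (S.rep_conj (h.symm.trans hι))) (fun h => absurd (Finset.mem_univ ι) h),
      (S.colFn_eq hM he ha ι).1 hι]
    norm_num

/-- The column times a character. -/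
theorem colFn_mul (hM : Cfsg.IsPModular 3 M) (he : 2 ∣ S.inert) (ι : Cls S)
    (ξ : ↥(Cfsg.principalBlock M H)) (g : H) :
    S.colFn (M := M) ι g * (ξ.1 : H → ℂ) g = (S.col ι ξ : ℂ) * S.colFn (M := M) ι g := by
  haveI : Fact (Nat.Prime 3) := ⟨Nat.prime_three⟩
  obtain ⟨a, ha⟩ := exists_isPPart Nat.prime_three g
  by_cases h : IsConj a (S.rep ι)
  · rw [S.value_of_isConj hM he ha ι h ξ, mul_comm]
  · rw [(S.colFn_eq hM he ha ι).2 h, zero_mul, mul_zero]

open Classical in
theorem sum_colFn_conj (ι : Cls S) (η : ↥(Cfsg.principalBlock M H)) :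
    (Nat.card H : ℂ)⁻¹ * ∑ g : H, S.colFn (M := M) ι g * conj ((η.1 : H → ℂ) g) =
      S.col ι η := by
  simp only [colFn, Finset.sum_mul]
  rw [Finset.sum_comm, Finset.mul_sum, Finset.sum_eq_single η]
  · rw [← mul_one ((S.col ι η : ℂ))]
    conv_rhs => rw [← if_pos (t := (1 : ℂ)) (e := 0) (rfl : η.1 = η.1),
      ← Characters.classInner_irr η.1 η.1, Cfsg.classInner, Finset.mul_sum, Finset.mul_sum]
    rw [Finset.mul_sum]
    exact Finset.sum_congr rfl fun g _ => by rw [mul_one]; ring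
  · intro ξ _ hne
    have h := Characters.classInner_irr ξ.1 η.1
    rw [if_neg fun e => hne (Subtype.ext e), Cfsg.classInner] at h
    simp only [mul_assoc, ← Finset.mul_sum]
    rw [mul_left_comm, h, mul_zero]
  · exact fun h => absurd (Finset.mem_univ η) h

open Classical in
/-- The orthogonality relation over the sections. -/
theorem relation (hzc : z ∈ Subgroup.center H) (hM : Cfsg.IsPModular 3 M) (he : 2 ∣ S.inert)
    [Fintype (Cls S)] (ξ η : ↥(Cfsg.principalBlock M H)) :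
    (if ξ = η then (1 : ℂ) else 0) =
      zco z (ξ.1 : H → ℂ) (η.1 : H → ℂ) * regInner 3 (ξ.1 : H → ℂ) (η.1 : H → ℂ) +
        (∑ ι, (S.col ι ξ : ℂ) * (S.col ι η : ℂ)) / 9 := by
  have h := Characters.classInner_irr ξ.1 η.1
  rw [Cfsg.classInner] at h
  rw [show (if ξ = η then (1 : ℂ) else 0) = if ξ.1 = η.1 then (1 : ℂ) else 0 from
    if_congr Subtype.ext_iff rfl rfl, ← h]
  set F : H → ℂ := fun g => (ξ.1 : H → ℂ) g * conj ((η.1 : H → ℂ) g) with hF
  set i : H → ℂ := fun g => if 3 ∣ orderOf g then (0 : ℂ) else 1 with hi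
  have hF1 : ∀ g, F g = i g * F g + i (z⁻¹ * g) * F g + i (z * g) * F g +
      (∑ ι, S.colFn (M := M) ι g * F g) / 9 := fun g => by
    rw [← Finset.sum_mul, mul_div_right_comm, ← add_mul, ← add_mul, ← add_mul,
      S.partition hzc hM he g, one_mul]
  have hR : regInner 3 (ξ.1 : H → ℂ) (η.1 : H → ℂ) =
      (Nat.card H : ℂ)⁻¹ * ∑ g, i g * F g := by
    rw [regInner]
    congr 1
    exact Finset.sum_congr rfl fun g _ => by simp only [hi, hF]; split_ifs <;> ring
  have hzF : ∀ (ξ' : IrrCharacter H) (g : H), (ξ' : H → ℂ) (z⁻¹ * g) =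
      conj (zval z (ξ' : H → ℂ)) * (ξ' : H → ℂ) g := by
    intro ξ' g
    have h3 : z⁻¹ = z * z := inv_eq_of_mul_eq_one_right (by
      rw [← mul_assoc, ← pow_two, ← pow_succ]; exact S.z_pow)
    rw [h3, mul_assoc, apply_z_mul hzc, apply_z_mul hzc, conj_zval hzc S.z_pow, mul_assoc]
  have h1 : ∑ g, i (z⁻¹ * g) * F g = zval z (ξ.1 : H → ℂ) * conj (zval z (η.1 : H → ℂ)) *
      ∑ g, i g * F g := by
    rw [Finset.mul_sum, ← Equiv.sum_comp (Equiv.mulLeft z)]
    refine Finset.sum_congr rfl fun g _ => ?_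
    simp only [Equiv.coe_mulLeft, inv_mul_cancel_left, hF, apply_z_mul hzc, map_mul]
    ring
  have h2 : ∑ g, i (z * g) * F g = conj (zval z (ξ.1 : H → ℂ)) * zval z (η.1 : H → ℂ) *
      ∑ g, i g * F g := by
    rw [Finset.mul_sum, ← Equiv.sum_comp (Equiv.mulLeft z⁻¹)]
    refine Finset.sum_congr rfl fun g _ => ?_
    simp only [Equiv.coe_mulLeft, mul_inv_cancel_left, hF, hzF, map_mul, Complex.conj_conj]
    ring
  have h3 : ∀ ι, (Nat.card H : ℂ)⁻¹ * ∑ g, S.colFn (M := M) ι g * F g =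
      (S.col ι ξ : ℂ) * (S.col ι η : ℂ) := by
    intro ι
    rw [← S.sum_colFn_conj ι η, Finset.mul_sum, Finset.mul_sum, Finset.mul_sum]
    refine Finset.sum_congr rfl fun g _ => ?_
    rw [hF, ← mul_assoc (S.colFn ι g), S.colFn_mul hM he ι ξ g]
    ring
  rw [show ∑ g, F g = _ from Finset.sum_congr rfl fun g _ => hF1 g, hR]
  simp only [Finset.sum_add_distrib, ← Finset.sum_div]
  rw [h1, h2, Finset.sum_comm, Finset.sum_congr rfl fun ι _ => (h3 ι).symm, ← Finset.mul_sum, zco]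
  ring

end Setting

end CfsgLib.ExtraspecialThree
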