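import Cfsg.Agent.ExtraspecialThree.Local

/-!
# The vectors vanishing on the regular elements, locally

`z` central in `H`.  The principal block characters with central character `ω` are, on the regular
elements, differences of two characters trivial at `z`, and the second one runs through the
positions outside the exceptional ones.  This gives a basis of the integral vectors vanishing on
the regular elements with a fixed matrix of inner products (`exists_frame`).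
-/

set_option autoImplicit false
set_option linter.unusedSectionVars false
set_option linter.style.haveILetI false
set_option maxHeartbeats 1000000

namespace CfsgLib.ExtraspecialThree

open Cfsg CfsgLib.Blocks CfsgLib.PrincipalBlock CfsgLib.BlockPairing
open scoped ComplexConjugate

universe u

variable {H : Type u} [Group H] [Fintype H] {P : Sylow 3 H} {z : H} {M : Ideal AlgInt} [M.IsPrime]
variable [Fintype ↥(Cfsg.principalBlock M H)]

/-- The combination of the principal block characters. -/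
noncomputable def comb (v : ↥(Cfsg.principalBlock M H) → ℂ) (g : H) : ℂ :=
  ∑ ξ : ↥(Cfsg.principalBlock M H), v ξ * (ξ.1 : H → ℂ) g

theorem regInner_congr {f f' η η' : H → ℂ} (h : ∀ g, ¬ 3 ∣ orderOf g → f g = f' g)
    (h' : ∀ g, ¬ 3 ∣ orderOf g → η g = η' g) : regInner 3 f η = regInner 3 f' η' := by
  simp only [regInner]
  congr 1
  refine Finset.sum_congr rfl fun g _ => ?_
  split_ifs with hg
  · rfl
  · rw [h g hg, h' g hg]

theorem regInner_comb (v : ↥(Cfsg.principalBlock M H) → ℂ) (η : H → ℂ) :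
    regInner 3 (comb v) η =
      ∑ ξ : ↥(Cfsg.principalBlock M H), v ξ * regInner 3 (ξ.1 : H → ℂ) η := by
  simp only [regInner, comb, Finset.mul_sum]
  rw [Finset.sum_comm]
  refine Finset.sum_congr rfl fun g _ => ?_
  split_ifs
  · simp
  · rw [Finset.sum_mul, Finset.mul_sum]
    exact Finset.sum_congr rfl fun ξ _ => by ring

theorem regInner_conj (f η : H → ℂ) : regInner 3 f η = conj (regInner 3 η f) := by
  simp only [regInner, map_mul, map_inv₀, map_natCast, map_sum]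
  congr 1
  refine Finset.sum_congr rfl fun g _ => ?_
  split_ifs <;> simp [mul_comm]

theorem comb_regular_zero {f : ↥(Cfsg.principalBlock M H) → ℂ} {η : H → ℂ}
    (hf : ∀ g, ¬ 3 ∣ orderOf g → comb f g = 0) : regInner 3 (comb f) η = 0 := by
  rw [regInner_congr (f' := fun _ => 0) hf fun _ _ => rfl, regInner]
  simp

/-- A twist fixing the values at the regular elements and inverting `z`. -/
theorem exists_star (hM : Cfsg.IsPModular 3 M) (hz : orderOf z = 3) :
    ∃ st : ↥(Cfsg.principalBlock M H) → ↥(Cfsg.principalBlock M H),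
      Function.Involutive st ∧
      (∀ ξ g, ¬ 3 ∣ orderOf g → ((st ξ).1 : H → ℂ) g = (ξ.1 : H → ℂ) g) ∧
      (∀ ξ, ((st ξ).1 : H → ℂ) z = (ξ.1 : H → ℂ) z⁻¹ ∧
        ((st ξ).1 : H → ℂ) 1 = (ξ.1 : H → ℂ) 1) := by
  haveI : Fact (Nat.Prime 3) := ⟨Nat.prime_three⟩
  set n := Nat.card H with hn
  set a := n.factorization 3
  have hn0 : n ≠ 0 := Nat.card_pos.ne'
  have hm : ¬ 3 ∣ n / 3 ^ a := Nat.not_dvd_ordCompl Nat.prime_three hn0
  have hna : 3 ^ a * (n / 3 ^ a) = n := Nat.ordProj_mul_ordCompl_eq_self n 3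
  have hcop : (3 ^ a).Coprime (n / 3 ^ a) :=
    (Nat.prime_three.coprime_iff_not_dvd.2 hm).pow_left _
  have ha : 3 ∣ 3 ^ a := dvd_pow_self 3 (by
    have := Nat.prime_three.factorization_pos_of_dvd hn0 (hz ▸ orderOf_dvd_natCard z)
    omega)
  obtain ⟨k, hk1, hk2⟩ := Nat.chineseRemainder hcop (3 ^ a - 1) 1
  have hk1' : k + 1 ≡ 0 [MOD 3 ^ a] := by
    have := hk1.add_right 1
    rw [Nat.sub_add_cancel (Nat.one_le_pow _ _ (by norm_num))] at this
    exact this.trans (by simp [Nat.ModEq])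
  have hkk1 : k * k ≡ 1 [MOD 3 ^ a] := by
    have e1 : (k + 1) * (k + 1) ≡ 0 [MOD 3 ^ a] := by simpa using hk1'.mul hk1'
    have e2 : (k + 1) + (k + 1) ≡ 0 [MOD 3 ^ a] := by simpa using hk1'.add hk1'
    have e3 : k * k + (2 * k + 1) ≡ 1 + (2 * k + 1) [MOD 3 ^ a] := by
      rw [show k * k + (2 * k + 1) = (k + 1) * (k + 1) by ring,
        show 1 + (2 * k + 1) = (k + 1) + (k + 1) by ring]
      exact e1.trans e2.symm
    exact Nat.ModEq.add_right_cancel' _ e3
  have hkk2 : k * k ≡ 1 [MOD n / 3 ^ a] := by simpa using hk2.mul hk2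
  have hkk : k * k ≡ 1 [MOD n] := by
    rw [← hna]
    exact (Nat.modEq_and_modEq_iff_modEq_mul hcop).1 ⟨hkk1, hkk2⟩
  have hkcop : k.Coprime n := by
    have h := hkk.gcd_eq
    rw [Nat.gcd_one_left] at h
    exact Nat.Coprime.coprime_dvd_left (dvd_mul_right k k) h
  have hreg : ∀ g : H, ¬ 3 ∣ orderOf g → g ^ k = g := by
    intro g hg
    have hdvd : orderOf g ∣ n / 3 ^ a :=
      ((Nat.prime_three.coprime_iff_not_dvd.2 hg).pow_left a).symm.dvd_of_dvd_mul_left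
        (hna.symm ▸ orderOf_dvd_natCard g)
    conv_rhs => rw [← pow_one g]
    exact pow_eq_pow_iff_modEq.2 (hk2.of_dvd hdvd)
  have hzk : z ^ k = z⁻¹ := eq_inv_of_mul_eq_one_left (by
    rw [← pow_succ, ← pow_zero z]
    exact pow_eq_pow_iff_modEq.2 (hk1'.of_dvd (hz ▸ ha)))
  refine ⟨fun ξ => ⟨⟨fun g => (ξ.1 : H → ℂ) (g ^ k), GaloisConj.isIrrCharacter_pow ξ.1.2 hkcop⟩,
    PrincipalColumn.pow_mem_principalBlock hM hkcop (fun _ => rfl) ξ.2⟩, fun ξ => ?_,
    fun ξ g hg => ?_, fun ξ => ⟨?_, ?_⟩⟩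
  · refine Subtype.ext (Subtype.ext (funext fun g => ?_))
    show (ξ.1 : H → ℂ) ((g ^ k) ^ k) = _
    rw [← pow_mul]
    refine congrArg (ξ.1 : H → ℂ) ?_
    conv_rhs => rw [← pow_one g]
    exact pow_eq_pow_iff_modEq.2 (hkk.of_dvd (orderOf_dvd_natCard g))
  · show (ξ.1 : H → ℂ) (g ^ k) = _
    rw [hreg g hg]
  · show (ξ.1 : H → ℂ) (z ^ k) = _
    rw [hzk]
  · show (ξ.1 : H → ℂ) (1 ^ k) = _
    rw [one_pow]

open Classical in
/-- Weak orthogonality between the regular elements and the section of `z`. -/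
theorem sum_weighted (hzc : z ∈ Subgroup.center H) (hM : Cfsg.IsPModular 3 M) (hz : orderOf z = 3)
    (f : H → ℂ) :
    ∑ ξ : ↥(Cfsg.principalBlock M H), conj (zval z (ξ.1 : H → ℂ)) *
      (regInner 3 f (ξ.1 : H → ℂ) * conj (regInner 3 f (ξ.1 : H → ℂ))) = 0 := by
  haveI : Fact (Nat.Prime 3) := ⟨Nat.prime_three⟩
  have hpair : ∀ y c : H, ¬ 3 ∣ orderOf y → ¬ 3 ∣ orderOf c →
      ∑ ξ : ↥(Cfsg.principalBlock M H),
        conj (zval z (ξ.1 : H → ℂ)) * ((ξ.1 : H → ℂ) c * conj ((ξ.1 : H → ℂ) y)) = 0 := by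
    intro y c hy hc
    have hne : ¬ IsConj (1 : H) z := fun h => by
      rw [isConj_one_right.1 h, orderOf_one] at hz
      omega
    have h := sum_block_mul_inv_eq_zero hM (isPPart_regular hc)
      (h := z * y) (y := z) (isPPart_of_mul (Subgroup.mem_center_iff.1 hzc y).symm
        ⟨1, by rw [hz, pow_one]⟩ hy) hne (isPBlock_principalBlock (G := H) (M := M))
    rw [sum_ite_mem] at h
    rw [← h]
    refine Finset.sum_congr rfl fun ξ _ => ?_
    rw [Characters.character_inv (Characters.isCharacter_of_isIrr ξ.1.2), apply_z_mul hzc, map_mul]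
    ring
  have e : ∀ ξ : ↥(Cfsg.principalBlock M H), conj (zval z (ξ.1 : H → ℂ)) *
      (regInner 3 f (ξ.1 : H → ℂ) * conj (regInner 3 f (ξ.1 : H → ℂ))) =
      (Nat.card H : ℂ)⁻¹ * (Nat.card H : ℂ)⁻¹ * ∑ y : H, ∑ c : H,
        if 3 ∣ orderOf y ∨ 3 ∣ orderOf c then 0 else f y * conj (f c) *
          (conj (zval z (ξ.1 : H → ℂ)) * ((ξ.1 : H → ℂ) c * conj ((ξ.1 : H → ℂ) y))) := by
    intro ξ
    simp only [regInner, map_mul, map_inv₀, map_natCast, map_sum]
    rw [mul_mul_mul_comm, Finset.sum_mul_sum, mul_left_comm, Finset.mul_sum]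
    congr 1
    refine Finset.sum_congr rfl fun y _ => ?_
    rw [Finset.mul_sum]
    refine Finset.sum_congr rfl fun c _ => ?_
    by_cases hy : 3 ∣ orderOf y
    · simp [hy]
    by_cases hc : 3 ∣ orderOf c
    · simp [hc]
    simp only [hy, hc, or_self, if_false, map_mul, Complex.conj_conj]
    ring
  simp only [e, ← Finset.mul_sum]
  rw [Finset.sum_comm, mul_eq_zero]
  refine Or.inr (Finset.sum_eq_zero fun y _ => ?_)
  rw [Finset.sum_comm]
  refine Finset.sum_eq_zero fun c _ => ?_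
  by_cases hyc : 3 ∣ orderOf y ∨ 3 ∣ orderOf c
  · simp [hyc]
  · simp only [hyc, if_false, ← Finset.mul_sum]
    push Not at hyc
    rw [hpair y c hyc.1 hyc.2, mul_zero]

namespace Setting

variable (S : Setting P z)
include S

open Classical in
theorem col_central (hzc : z ∈ Subgroup.center H) (hM : Cfsg.IsPModular 3 M) (he : 2 ∣ S.inert)
    (ι : Cls S) {ξ : ↥(Cfsg.principalBlock M H)} (hξ : zval z (ξ.1 : H → ℂ) ≠ 1) :
    S.col ι ξ = 0 := by
  obtain ⟨b, -, hb⟩ := S.exists_conj_mul (S.rep_mem ι) (S.rep_not_mem ι)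
    (Subgroup.mem_zpowers z)
  have h1 : (ξ.1 : H → ℂ) (z * S.rep ι) = (ξ.1 : H → ℂ) (S.rep ι) := by
    rw [show z * S.rep ι = b * S.rep ι * b⁻¹ by rw [hb, S.z_comm _ (S.rep_mem ι)],
      Characters.isClassFunction_of_isIrr ξ.1.2]
  rw [apply_z_mul hzc, ← S.cast_col he] at h1
  by_contra h0
  exact hξ ((mul_eq_right₀ (Int.cast_ne_zero.2 h0)).1 h1)

open Classical in
/-- The form over the regular elements on the characters trivial at `z`. -/
theorem relation_one (hzc : z ∈ Subgroup.center H) (hM : Cfsg.IsPModular 3 M) (he : 2 ∣ S.inert)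
    [Fintype (Cls S)] {ξ η : ↥(Cfsg.principalBlock M H)}
    (h : zval z (ξ.1 : H → ℂ) = zval z (η.1 : H → ℂ)) :
    regInner 3 (ξ.1 : H → ℂ) (η.1 : H → ℂ) =
      ((if ξ = η then (1 : ℂ) else 0) - (∑ ι, (S.col ι ξ : ℂ) * (S.col ι η : ℂ)) / 9) / 3 := by
  rw [S.relation hzc hM he ξ η, zco, h, zval_mul_conj hzc S.z_pow,
    mul_comm (conj _) (zval z _), zval_mul_conj hzc S.z_pow]
  ring

open Classical in
theorem regInner_supported (hzc : z ∈ Subgroup.center H) (hM : Cfsg.IsPModular 3 M)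
    (he : 2 ∣ S.inert) [Fintype (Cls S)] {v : ↥(Cfsg.principalBlock M H) → ℂ}
    (hv : ∀ ξ, zval z (ξ.1 : H → ℂ) ≠ 1 → v ξ = 0) {η : ↥(Cfsg.principalBlock M H)}
    (hη : zval z (η.1 : H → ℂ) = 1) :
    regInner 3 (comb v) (η.1 : H → ℂ) =
      (v η - ∑ ι, (∑ ξ, v ξ * (S.col ι ξ : ℂ)) * (S.col ι η : ℂ) / 9) / 3 := by
  rw [regInner_comb, Finset.sum_congr rfl (g := fun ξ => v ξ * (if ξ = η then (1 : ℂ) else 0) / 3 -
    v ξ * (∑ ι, (S.col ι ξ : ℂ) * (S.col ι η : ℂ)) / 27) fun ξ _ => ?_]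
  · simp only [Finset.sum_sub_distrib, ← Finset.sum_div, mul_ite, mul_one, mul_zero,
      Finset.sum_ite_eq', Finset.mem_univ, if_true, Finset.mul_sum, Finset.sum_mul]
    rw [Finset.sum_comm]
    simp only [← mul_assoc]
    ring
  · by_cases h : zval z (ξ.1 : H → ℂ) = 1
    · rw [S.relation_one hzc hM he (h.trans hη.symm)]
      ring
    · rw [hv ξ h]
      ring

/-- The vectors of the local situation. -/
structure Frame (M : Ideal AlgInt) [Fintype ↥(Cfsg.principalBlock M H)] [Fintype (Cls S)]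
    (one : ↥(Cfsg.principalBlock M H)) where
  /-- The index type of the faithful characters up to the twist. -/
  idx : Type u
  /-- Finiteness. -/
  fin : Fintype idx
  /-- The distinguished class. -/
  cls : Cls S
  /-- The index whose leaf is trivial. -/
  top : idx
  /-- The vectors of norm two. -/
  A : idx → ↥(Cfsg.principalBlock M H) → ℤ
  /-- The vectors of norm three. -/
  V : idx → ↥(Cfsg.principalBlock M H) → ℤ
  hAA : ∀ ψ φ, (ψ = φ → ∑ ξ, A ψ ξ * A φ ξ = 2) ∧ (ψ ≠ φ → ∑ ξ, A ψ ξ * A φ ξ = 0)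
  hVV : ∀ ψ φ, (ψ = φ → ∑ ξ, V ψ ξ * V φ ξ = 3) ∧ (ψ ≠ φ → ∑ ξ, V ψ ξ * V φ ξ = 1)
  hVA : ∀ ψ φ, (ψ = φ → ∑ ξ, V ψ ξ * A φ ξ = 1) ∧ (ψ ≠ φ → ∑ ξ, V ψ ξ * A φ ξ = 0)
  hAd : ∀ ψ ι, ∑ ξ, A ψ ξ * S.col ι ξ = 0
  hVd : ∀ ψ ι, (ι = cls → ∑ ξ, V ψ ξ * S.col ι ξ = 3) ∧ (ι ≠ cls → ∑ ξ, V ψ ξ * S.col ι ξ = 0)
  hAo : ∀ ψ, A ψ one = 0
  hVo : ∀ ψ, (ψ = top → V ψ one = 1) ∧ (ψ ≠ top → V ψ one = 0)
  hA : ∀ ψ g, ¬ 3 ∣ orderOf g → comb (fun ξ => (A ψ ξ : ℂ)) g = 0
  hV : ∀ ψ g, ¬ 3 ∣ orderOf g → comb (fun ξ => (V ψ ξ : ℂ)) g = 0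
  card : Nat.card idx + Nat.card (Cls S) = 6
  span : ∀ v : ↥(Cfsg.principalBlock M H) → ℂ, (∀ g, ¬ 3 ∣ orderOf g → comb v g = 0) →
    ∃ (α β : idx → ℂ) (γ : Cls S → ℂ), ∀ ξ,
      v ξ = ∑ ψ, α ψ * (A ψ ξ : ℂ) + ∑ ψ, β ψ * (V ψ ξ : ℂ) + ∑ ι, γ ι * (S.col ι ξ : ℂ)
  indep : ∀ (α β : idx → ℂ) (γ : Cls S → ℂ),
    (∀ ξ, ∑ ψ, α ψ * (A ψ ξ : ℂ) + ∑ ψ, β ψ * (V ψ ξ : ℂ) + ∑ ι, γ ι * (S.col ι ξ : ℂ) = 0) →
    α = 0 ∧ β = 0 ∧ γ = 0

open Classical in
theorem exists_frame (hzc : z ∈ Subgroup.center H) (hM : Cfsg.IsPModular 3 M) (he : 2 ∣ S.inert)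
    [Fintype (Cls S)] : Nonempty (S.Frame M (blockOne (G := H) M)) := by
  haveI : Fact (Nat.Prime 3) := ⟨Nat.prime_three⟩
  have hz3 : orderOf z = 3 := S.orderOf_eq_three S.z_mem S.z_ne
  have hcu : ∀ ξ : ↥(Cfsg.principalBlock M H),
      zval z (ξ.1 : H → ℂ) = 1 ∨ zval z (ξ.1 : H → ℂ) = w3 ∨ zval z (ξ.1 : H → ℂ) = w3 * w3 :=
    fun ξ => cube_cases (zval_cube hzc S.z_pow ξ.1)
  set o := blockOne (G := H) M with ho
  have hov : ∀ g : H, (o.1 : H → ℂ) g = 1 := fun g => trivChar_apply g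
  have hoz : zval z (o.1 : H → ℂ) = 1 := by rw [zval, hov, hov, div_one]
  haveI : Nonempty (Cls S) := by
    by_contra h
    rw [not_nonempty_iff] at h
    have := S.card_cls_mul
    rw [Nat.card_of_isEmpty, zero_mul] at this
    omega
  have hI3 : ¬ 3 ∣ Fintype.card (Cls S) := fun h => by
    have h8 := S.card_cls_mul
    rw [Nat.card_eq_fintype_card] at h8
    have := Dvd.dvd.mul_right h S.inert
    rw [h8] at this
    omega
  obtain ⟨Sh, hSh⟩ := shape_of_columns (fun ι ξ => S.col (M := M) ι ξ)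
    (fun ξ => (Cfsg.charDegree (ξ.1 : H → ℂ) : ℤ)) o (S.col_sq hM he)
    (fun ι κ h => S.col_orth hM he h) (S.col_degree hM he) (S.col_congr hM he)
    (S.col_one he) (by
      have h := charDegree_cast o.1
      rw [hov] at h
      exact_mod_cast h)
  have hcT : ∀ ξ : ↥(Cfsg.principalBlock M H), zval z (ξ.1 : H → ℂ) = 1 ↔ Sh.sign ξ ≠ 0 := by
    intro ξ
    refine ⟨fun h1 hs => ?_, fun hs => by_contra fun h => ?_⟩
    · have hno : ξ ≠ o := fun e => by
        rw [e, Sh.one] at hs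
        exact one_ne_zero hs
      have h := S.relation_one hzc hM he (h1.trans hoz.symm)
      rw [if_neg hno, Finset.sum_eq_zero (fun ι _ => by
        rw [Sh.d_eq_zero hs, Int.cast_zero, zero_mul]), zero_div, sub_zero, zero_div] at h
      exact (PrincipalColumn.mem_principalBlock_iff_regInner hM ξ.1).1 ξ.2 h
    · obtain ⟨ι⟩ := ‹Nonempty (Cls S)›
      exact hs (Sh.sign_eq_zero (S.col_central hzc hM he ι h))
  obtain ⟨st, hst2, hstreg, hstz⟩ := exists_star (M := M) hM hz3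
  have hstc : ∀ ξ, zval z ((st ξ).1 : H → ℂ) = conj (zval z (ξ.1 : H → ℂ)) := by
    intro ξ
    rw [zval, (hstz ξ).1, (hstz ξ).2, zval, map_div₀,
      Characters.character_inv (Characters.isCharacter_of_isIrr ξ.1.2)]
    congr 1
    rw [← charDegree_cast, map_natCast]
  have hstw : ∀ ξ : ↥(Cfsg.principalBlock M H),
      zval z (ξ.1 : H → ℂ) = w3 * w3 → zval z ((st ξ).1 : H → ℂ) = w3 := fun ξ h => by
    rw [hstc, h, map_mul, conj_w3]
    linear_combination w3 * w3_cube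
  have hstw' : ∀ ξ : ↥(Cfsg.principalBlock M H),
      zval z (ξ.1 : H → ℂ) = w3 → zval z ((st ξ).1 : H → ℂ) = w3 * w3 := fun ξ h => by
    rw [hstc, h, conj_w3]
  -- the integral expansion
  have hexp : ∀ ψ : ↥(Cfsg.principalBlock M H), ∃ n : ↥(Cfsg.principalBlock M H) → ℤ,
      (∀ ξ, Sh.sign ξ = 0 → n ξ = 0) ∧
        ∀ g, ¬ 3 ∣ orderOf g → (ψ.1 : H → ℂ) g = comb (fun ξ => (n ξ : ℂ)) g := by
    intro ψ
    have hθ := isGen_comp_regP (p := 3)
      (Characters.isGen_of_isIrr ψ.1.2 : Cfsg.IsGeneralizedCharacter H (ψ.1 : H → ℂ))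
    obtain ⟨m, hm, hmi⟩ := Characters.exists_int_coeff hθ
    refine ⟨fun ξ => m ξ.1, fun ξ hs => ?_, fun g hg => ?_⟩
    · have hne : zval z (ξ.1 : H → ℂ) ≠ 1 := fun h => (hcT ξ).1 h hs
      set θ : H → ℂ := fun g => (ψ.1 : H → ℂ) (BlocksRational.regP 3 g)
      have hinv : ∀ g, θ (z * g) = θ g := by
        intro g
        refine congrArg (ψ.1 : H → ℂ) ?_
        obtain ⟨a, hag, hca, ⟨j, hj⟩, hy⟩ := BlocksRational.exists_regP (p := 3) g
        conv_lhs => rw [← hag, ← mul_assoc]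
        refine BlocksRational.regP_eq
          (Commute.mul_left (Subgroup.mem_center_iff.1 hzc _).symm hca) ?_ hy
        have hd : orderOf (z * a) ∣ 3 ^ (1 + j) := by
          refine (Commute.orderOf_mul_dvd_mul_orderOf (Subgroup.mem_center_iff.1 hzc a).symm).trans ?_
          rw [hz3, hj, pow_add, pow_one]
        obtain ⟨i, -, hi⟩ := (Nat.dvd_prime_pow Nat.prime_three).1 hd
        exact ⟨i, hi⟩
      have h : Cfsg.classInner θ (ξ.1 : H → ℂ) =
          conj (zval z (ξ.1 : H → ℂ)) * Cfsg.classInner θ (ξ.1 : H → ℂ) := by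
        rw [Cfsg.classInner, mul_left_comm, Finset.mul_sum _ _ (conj _)]
        congr 1
        conv_lhs => rw [← Equiv.sum_comp (Equiv.mulLeft z)]
        refine Finset.sum_congr rfl fun g _ => ?_
        rw [Equiv.coe_mulLeft, hinv, apply_z_mul hzc, map_mul]
        ring
      rw [hmi ξ.1] at h
      by_contra h0
      exact hne ((map_eq_one_iff (starRingEnd ℂ) (RingHom.injective _)).1
        ((mul_eq_right₀ (Int.cast_ne_zero.2 h0)).1 h.symm))
    · have h := sum_union_eq_zero hM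
        (isBlockUnion_of_isPBlock (M := M) (isPBlock_principalBlock (G := H)))
        (fun χ : IrrCharacter H => (m χ : ℂ) - (if χ = ψ.1 then 1 else 0)) (fun y hy => by
          have e := congrFun hm y
          simp only [BlocksRational.regP_of_regular hy, Finset.sum_apply, Pi.smul_apply,
            smul_eq_mul] at e
          simp only [sub_mul, Finset.sum_sub_distrib, ite_mul, one_mul, zero_mul,
            Finset.sum_ite_eq', Finset.mem_univ, if_true, ← e, sub_self]) hg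
      rw [sum_ite_mem] at h
      simp only [sub_mul, Finset.sum_sub_distrib, ← Subtype.ext_iff, ite_mul, one_mul, zero_mul,
        Finset.sum_ite_eq', Finset.mem_univ, if_true] at h
      exact (sub_eq_zero.1 h).symm
  choose n hn0 hnreg using hexp
  have hnz : ∀ ψ ξ, zval z (ξ.1 : H → ℂ) ≠ 1 → ((n ψ ξ : ℤ) : ℂ) = 0 := fun ψ ξ h => by
    rw [hn0 ψ ξ (not_not.1 fun e => h ((hcT ξ).2 e)), Int.cast_zero]
  have hRψ : ∀ ψ φ : ↥(Cfsg.principalBlock M H), zval z (ψ.1 : H → ℂ) = w3 →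
      zval z (φ.1 : H → ℂ) = w3 →
      regInner 3 (ψ.1 : H → ℂ) (φ.1 : H → ℂ) = (if ψ = φ then (1 : ℂ) else 0) / 3 := by
    intro ψ φ hψ hφ
    rw [S.relation_one hzc hM he (hψ.trans hφ.symm), Finset.sum_eq_zero (fun ι _ => by
      rw [S.col_central hzc hM he ι (by rw [hψ]; exact w3_ne), Int.cast_zero, zero_mul])]
    ring
  have hnn : ∀ ψ : ↥(Cfsg.principalBlock M H), zval z (ψ.1 : H → ℂ) = w3 →
      9 * ∑ ξ, n ψ ξ ^ 2 - ∑ ι, (∑ ξ, n ψ ξ * S.col ι ξ) ^ 2 = 9 := by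
    intro ψ hψ
    have h := hRψ ψ ψ hψ hψ
    rw [if_pos rfl, regInner_congr (hnreg ψ) (hnreg ψ), regInner_conj, regInner_comb,
      map_sum] at h
    rw [Finset.sum_congr rfl fun ξ _ => show conj ((n ψ ξ : ℂ) *
        regInner 3 (ξ.1 : H → ℂ) (comb fun ξ => (n ψ ξ : ℂ))) = (n ψ ξ : ℂ) *
          ((n ψ ξ : ℂ) - ∑ ι, (∑ η, (n ψ η : ℂ) * (S.col ι η : ℂ)) * (S.col ι ξ : ℂ) / 9) / 3 by
      by_cases hξ : zval z (ξ.1 : H → ℂ) = 1
      · rw [map_mul, ← regInner_conj, map_intCast, S.regInner_supported hzc hM he (hnz ψ) hξ]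
        ring
      · rw [hnz ψ ξ hξ, zero_mul, map_zero]
        ring] at h
    refine Int.cast_injective (α := ℂ) ?_
    push_cast
    simp only [mul_sub, ← Finset.sum_div, Finset.sum_sub_distrib] at h
    have e : ∀ ι, (∑ ξ, (n ψ ξ : ℂ) * (S.col ι ξ : ℂ)) ^ 2 =
        ∑ ξ, (n ψ ξ : ℂ) * ((∑ η, (n ψ η : ℂ) * (S.col ι η : ℂ)) * (S.col ι ξ : ℂ)) := fun ι => by
      rw [sq, Finset.sum_mul]
      exact Finset.sum_congr rfl fun ξ _ => by ring
    simp only [e]
    simp only [mul_div_assoc', ← Finset.sum_div, Finset.mul_sum] at h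
    rw [Finset.sum_comm (f := fun ξ ι => (n ψ ξ : ℂ) *
      ((∑ η, (n ψ η : ℂ) * (S.col ι η : ℂ)) * (S.col ι ξ : ℂ)))] at h
    simp only [pow_two] at h ⊢
    linear_combination 27 * h
  -- the characters with central character `ω` are present
  have hsep : ∀ f : H → ℂ, (∀ ξ : ↥(Cfsg.principalBlock M H), zval z (ξ.1 : H → ℂ) = w3 →
      regInner 3 f (ξ.1 : H → ℂ) = 0) →
      ∀ ξ : ↥(Cfsg.principalBlock M H), regInner 3 f (ξ.1 : H → ℂ) = 0 := by
    intro f hf ξ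
    have hz0 : ∀ η : ↥(Cfsg.principalBlock M H), zval z (η.1 : H → ℂ) ≠ 1 →
        regInner 3 f (η.1 : H → ℂ) = 0 := by
      intro η hη
      rcases hcu η with h | h | h
      · exact absurd h hη
      · exact hf η h
      · rw [regInner_congr (fun _ _ => rfl) fun g hg => (hstreg η g hg).symm]
        exact hf _ (hstw η h)
    have h := sum_weighted hzc hM hz3 (M := M) f
    rw [Finset.sum_congr rfl fun η _ => show conj (zval z (η.1 : H → ℂ)) *
        (regInner 3 f (η.1 : H → ℂ) * conj (regInner 3 f (η.1 : H → ℂ))) =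
        ((Complex.normSq (regInner 3 f (η.1 : H → ℂ)) : ℝ) : ℂ) by
      by_cases hη : zval z (η.1 : H → ℂ) = 1
      · rw [hη, map_one, one_mul, Complex.mul_conj]
      · rw [hz0 η hη]; simp, ← Complex.ofReal_sum, Complex.ofReal_eq_zero] at h
    exact Complex.normSq_eq_zero.1
      ((Finset.sum_eq_zero_iff_of_nonneg fun η _ => Complex.normSq_nonneg _).1 h ξ
        (Finset.mem_univ ξ))
  obtain ⟨hsix, hq⟩ : (Finset.univ.filter fun ξ => Sh.sign ξ ≠ 0).card = 6 ∧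
      ∀ ι, ∃ ξ, Sh.two ι = some ξ := by
    rcases Sh.card with ⟨h9, hI, hnone⟩ | h
    swap
    · exact h
    exfalso
    obtain ⟨ψ, hψ⟩ : ∃ ψ : ↥(Cfsg.principalBlock M H), zval z (ψ.1 : H → ℂ) = w3 := by
      by_contra hcon
      push Not at hcon
      exact (PrincipalColumn.mem_principalBlock_iff_regInner hM o.1).1 o.2
        (hsep (o.1 : H → ℂ) (fun ξ h => absurd h (hcon ξ)) o)
    obtain ⟨ι, hι⟩ := Fintype.card_eq_one_iff.1 hI
    have h1 := hnn ψ hψ
    rw [Fintype.sum_eq_single ι (fun κ hκ => absurd (hι κ) hκ)] at h1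
    have hd : ∀ ξ, S.col ι ξ = Sh.sign ξ := fun ξ => by
      rcases Sh.eq ι ξ with ⟨e, -⟩ | ⟨-, e⟩
      · rw [hnone] at e; cases e
      · exact e
    simp only [hd] at h1
    set s := ∑ ξ, n ψ ξ * Sh.sign ξ with hs
    have hpar : (2 : ℤ) ∣ ∑ ξ, n ψ ξ ^ 2 - s := by
      rw [hs, ← Finset.sum_sub_distrib]
      refine Finset.dvd_sum fun ξ _ => ?_
      rcases Sh.sq ξ with e | e | e <;> rw [e]
      · rw [hn0 ψ ξ e]
        norm_num
      · rw [show n ψ ξ ^ 2 - n ψ ξ * 1 = (n ψ ξ - 1) * n ψ ξ by ring]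
        rcases Int.even_or_odd (n ψ ξ) with ⟨r, hr⟩ | ⟨r, hr⟩
        · exact Dvd.dvd.mul_left ⟨r, by omega⟩ _
        · exact Dvd.dvd.mul_right ⟨r, by omega⟩ _
      · rw [show n ψ ξ ^ 2 - n ψ ξ * -1 = (n ψ ξ + 1) * n ψ ξ by ring]
        rcases Int.even_or_odd (n ψ ξ) with ⟨r, hr⟩ | ⟨r, hr⟩
        · exact Dvd.dvd.mul_left ⟨r, by omega⟩ _
        · exact Dvd.dvd.mul_right ⟨r + 1, by omega⟩ _
    obtain ⟨s', hs'⟩ : (3 : ℤ) ∣ s := Int.prime_three.dvd_of_dvd_pow (n := 2)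
      ⟨3 * ∑ ξ, n ψ ξ ^ 2 - 3, by linarith⟩
    have h2 : ∑ ξ, n ψ ξ ^ 2 = 1 + s' * s' := by rw [hs'] at h1; nlinarith
    rw [h2, hs'] at hpar
    rcases Int.even_or_odd s' with ⟨r, hr⟩ | ⟨r, hr⟩ <;> rw [hr] at hpar <;> ring_nf at hpar <;>
      omega
  choose q hq using hq
  have hqi : Function.Injective q := fun a b e => Sh.two_inj a b _ (hq a) (e ▸ hq b)
  obtain ⟨ι₀⟩ := ‹Nonempty (Cls S)›
  have hd1 : ∀ ξ, (∀ ι, q ι ≠ ξ) → ∀ ι, S.col ι ξ = Sh.sign ξ := fun ξ h ι => by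
    rcases Sh.eq ι ξ with ⟨e, -⟩ | ⟨-, e⟩
    · rw [hq ι, Option.some.injEq] at e
      exact absurd e (h ι)
    · exact e
  have hleaf : ∀ ψ : {ψ : ↥(Cfsg.principalBlock M H) // zval z (ψ.1 : H → ℂ) = w3},
      ∃ (l : ↥(Cfsg.principalBlock M H)) (t : ℤ), Sh.sign l ≠ 0 ∧ (∀ ι, q ι ≠ l) ∧
        (t = 1 ∨ t = -1) ∧ ∀ g, ¬ 3 ∣ orderOf g → ((ψ.1).1 : H → ℂ) g =
          (t : ℂ) * ((Sh.sign l : ℂ) * (l.1 : H → ℂ) g -
            (Sh.sign (q ι₀) : ℂ) * ((q ι₀).1 : H → ℂ) g) := by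
    intro ψ
    obtain ⟨l, t, c, hl, hlq, ht, hnl⟩ := Sh.exists_leaf q hq hsix hI3 ι₀ (n ψ.1) (hn0 ψ.1)
      (hnn ψ.1 ψ.2)
    refine ⟨l, t, hl, hlq, ht, fun g hg => ?_⟩
    have hc : ∀ ξ, (n ψ.1 ξ : ℂ) = (t : ℂ) * ((if ξ = l then (Sh.sign ξ : ℂ) else 0) -
        (if ξ = q ι₀ then (Sh.sign ξ : ℂ) else 0)) + ∑ ι, (c ι : ℂ) * (S.col ι ξ : ℂ) := fun ξ => by
      have := congrArg (fun r : ℚ => (r : ℂ)) (hnl ξ)
      simpa [apply_ite (fun r : ℚ => (r : ℂ))] using this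
    rw [hnreg ψ.1 g hg, comb, Finset.sum_congr rfl fun ξ _ => by rw [hc ξ, add_mul, Finset.sum_mul],
      Finset.sum_add_distrib]
    rw [Finset.sum_comm (f := fun ξ ι => (c ι : ℂ) * (S.col ι ξ : ℂ) * (ξ.1 : H → ℂ) g),
      Finset.sum_eq_zero (f := fun ι => ∑ ξ : ↥(Cfsg.principalBlock M H),
        (c ι : ℂ) * (S.col ι ξ : ℂ) * (ξ.1 : H → ℂ) g) (fun ι _ => by
        simp only [mul_assoc, ← Finset.mul_sum]
        rw [show ∑ ξ : ↥(Cfsg.principalBlock M H), (S.col ι ξ : ℂ) * (ξ.1 : H → ℂ) g = 0 from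
          S.colFn_regular hM he hg ι, mul_zero]), add_zero]
    simp only [mul_sub, sub_mul, Finset.sum_sub_distrib, mul_ite, mul_zero, ite_mul, zero_mul,
      Finset.sum_ite_eq', Finset.mem_univ, if_true]
    ring
  choose l t hl hlq ht hreg using hleaf
  have htt : ∀ ψ, (t ψ : ℂ) * (t ψ : ℂ) = 1 := fun ψ => by
    rcases ht ψ with e | e <;> rw [e] <;> simp
  have htt' : ∀ ψ, t ψ * t ψ = 1 := fun ψ => by rcases ht ψ with e | e <;> rw [e] <;> rfl
  have hli : Function.Injective l := by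
    intro ψ φ e
    by_contra hne
    have h1 := hRψ φ.1 φ.1 φ.2 φ.2
    have h2 := hRψ ψ.1 φ.1 ψ.2 φ.2
    rw [if_pos rfl] at h1
    rw [if_neg fun h => hne (Subtype.ext h), zero_div,
      regInner_congr (f' := fun g => (t ψ : ℂ) * (t φ : ℂ) * ((φ.1).1 : H → ℂ) g)
        (fun g hg => by
          rw [hreg ψ g hg, hreg φ g hg, e]
          linear_combination (-(t ψ : ℂ) * ((Sh.sign (l φ) : ℂ) * ((l φ).1 : H → ℂ) g -
            (Sh.sign (q ι₀) : ℂ) * ((q ι₀).1 : H → ℂ) g)) * htt φ) fun _ _ => rfl] at h2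
    rw [show regInner 3 (fun g => (t ψ : ℂ) * (t φ : ℂ) * ((φ.1).1 : H → ℂ) g) ((φ.1).1 : H → ℂ) =
        (t ψ : ℂ) * (t φ : ℂ) * regInner 3 ((φ.1).1 : H → ℂ) ((φ.1).1 : H → ℂ) by
      simp only [regInner, Finset.mul_sum]
      exact Finset.sum_congr rfl fun g _ => by split_ifs <;> ring, h1] at h2
    rcases ht ψ with e1 | e1 <;> rcases ht φ with e2 | e2 <;> rw [e1, e2] at h2 <;> norm_num at h2
  have hlsurj : ∀ l₀, Sh.sign l₀ ≠ 0 → (∀ ι, q ι ≠ l₀) → ∃ ψ, l ψ = l₀ := by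
    intro l₀ hs₀ hq₀
    by_contra hcon
    push Not at hcon
    set w : ↥(Cfsg.principalBlock M H) → ℂ :=
      fun ξ => (Sh.sign ξ : ℂ) * (if ξ = l₀ then -2 else 1) with hw
    have hwd : ∀ ι, ∑ ξ, w ξ * (S.col ι ξ : ℂ) = 0 := by
      intro ι
      have h1 : ∀ ξ, w ξ * (S.col ι ξ : ℂ) = (if Sh.sign ξ ≠ 0 then (1 : ℂ) else 0) -
          3 * (if ξ = l₀ then 1 else 0) - 3 * (if ξ = q ι then 1 else 0) := fun ξ => by
        have hne : l₀ ≠ q ι := Ne.symm (hq₀ ι)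
        rcases Sh.eq ι ξ with ⟨e, hd⟩ | ⟨e, hd⟩
        · rw [hq ι, Option.some.injEq] at e
          subst e
          rw [hw, hd]
          rcases Sh.sq (q ι) with e' | e' | e'
          · exact absurd e' (Sh.two_ne ι _ (hq ι)).1
          all_goals simp [e', Ne.symm hne] <;> norm_num
        · rw [hq ι, Ne, Option.some.injEq] at e
          rw [hw, hd]
          by_cases hl0 : ξ = l₀
          · subst hl0
            rcases Sh.sq ξ with e' | e' | e'
            · exact absurd e' hs₀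
            all_goals simp [e', Ne.symm e] <;> norm_num
          · rcases Sh.sq ξ with e' | e' | e' <;> simp [e', hl0, Ne.symm e]
      rw [Finset.sum_congr rfl fun ξ _ => h1 ξ, Finset.sum_sub_distrib, Finset.sum_sub_distrib,
        ← Finset.mul_sum, ← Finset.mul_sum, Finset.sum_ite_eq' Finset.univ l₀,
        Finset.sum_ite_eq' Finset.univ (q ι), Finset.sum_boole, hsix]
      simp
      norm_num
    have hwT : ∀ ξ, zval z (ξ.1 : H → ℂ) ≠ 1 → w ξ = 0 := fun ξ h => by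
      rw [hw]
      simp only
      rw [not_not.1 fun e => h ((hcT ξ).2 e), Int.cast_zero, zero_mul]
    have hwR : ∀ ξ : ↥(Cfsg.principalBlock M H), zval z (ξ.1 : H → ℂ) = 1 →
        regInner 3 (comb w) (ξ.1 : H → ℂ) = w ξ / 3 := fun ξ h => by
      rw [S.regInner_supported hzc hM he hwT h, Finset.sum_eq_zero fun ι _ => by
        rw [hwd, zero_mul, zero_div], sub_zero]
    have hone : ∀ ξ, Sh.sign ξ ≠ 0 → ξ ≠ l₀ → (Sh.sign ξ : ℂ) * w ξ = 1 := fun ξ h h' => by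
      rw [hw]
      simp only [if_neg h', mul_one]
      exact_mod_cast Sh.sign_sq h
    have h := hsep (comb w) (fun ξ hξ => by
      set ψ : {ψ : ↥(Cfsg.principalBlock M H) // zval z (ψ.1 : H → ℂ) = w3} := ⟨ξ, hξ⟩
      rw [regInner_congr (fun _ _ => rfl) (hreg ψ)]
      have e : regInner 3 (comb w) (fun g => (t ψ : ℂ) * ((Sh.sign (l ψ) : ℂ) *
          ((l ψ).1 : H → ℂ) g - (Sh.sign (q ι₀) : ℂ) * ((q ι₀).1 : H → ℂ) g)) =
          (t ψ : ℂ) * ((Sh.sign (l ψ) : ℂ) * regInner 3 (comb w) ((l ψ).1 : H → ℂ) -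
            (Sh.sign (q ι₀) : ℂ) * regInner 3 (comb w) ((q ι₀).1 : H → ℂ)) := by
        simp only [regInner, Finset.mul_sum, ← Finset.sum_sub_distrib]
        refine Finset.sum_congr rfl fun g _ => ?_
        split_ifs <;> (try simp only [map_mul, map_sub, map_intCast]) <;> ring
      rw [e, hwR _ ((hcT _).2 (hl ψ)), hwR _ ((hcT _).2 (Sh.two_ne ι₀ _ (hq ι₀)).1),
        ← mul_div_assoc, ← mul_div_assoc, hone _ (hl ψ) (hcon ψ),
        hone _ (Sh.two_ne ι₀ _ (hq ι₀)).1 (hq₀ ι₀), sub_self, mul_zero]) o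
    rw [hwR o hoz, div_eq_zero_iff] at h
    simp only [hw, Sh.one] at h
    split_ifs at h <;> norm_num at h
  -- the vectors
  let Ψ := {ψ : ↥(Cfsg.principalBlock M H) // zval z (ψ.1 : H → ℂ) = w3}
  have hTne : ∀ ξ, Sh.sign ξ ≠ 0 → ∀ ψ : Ψ, ξ ≠ ψ.1 ∧ ξ ≠ st ψ.1 := by
    intro ξ h ψ
    have h1 := (hcT ξ).2 h
    refine ⟨fun e => ?_, fun e => ?_⟩ <;> rw [e] at h1
    · exact w3_ne (ψ.2.symm.trans h1)
    · rw [hstw' _ ψ.2] at h1
      exact w3_sq_ne h1
  have hne2 : ∀ ψ φ : Ψ, ψ.1 ≠ st φ.1 := fun ψ φ e => by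
    have h1 := ψ.2
    rw [e, hstw' _ φ.2] at h1
    exact w3_ne (mul_left_cancel₀ (w3_prim.ne_zero (by norm_num)) (h1.trans (mul_one w3).symm))
  obtain ⟨top, htop⟩ := hlsurj o (by rw [Sh.one]; exact one_ne_zero)
    fun ι => (Sh.two_ne ι _ (hq ι)).2
  set A : Ψ → ↥(Cfsg.principalBlock M H) → ℤ :=
    fun ψ ξ => -t ψ * ((if ξ = ψ.1 then 1 else 0) - (if ξ = st ψ.1 then 1 else 0)) with hA
  set V : Ψ → ↥(Cfsg.principalBlock M H) → ℤ :=
    fun ψ ξ => -t ψ * (if ξ = ψ.1 then 1 else 0) + (if ξ = l ψ then Sh.sign ξ else 0) -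
      (if ξ = q ι₀ then Sh.sign ξ else 0) with hV
  have hAf : ∀ ψ (f : ↥(Cfsg.principalBlock M H) → ℤ),
      ∑ ξ, A ψ ξ * f ξ = -t ψ * (f ψ.1 - f (st ψ.1)) := fun ψ f => by
    simp only [hA, mul_assoc, ← Finset.mul_sum, sub_mul, Finset.sum_sub_distrib, ite_mul, one_mul,
      zero_mul, Finset.sum_ite_eq', Finset.mem_univ, if_true]
  have hVf : ∀ ψ (f : ↥(Cfsg.principalBlock M H) → ℤ), ∑ ξ, V ψ ξ * f ξ =
      -t ψ * f ψ.1 + Sh.sign (l ψ) * f (l ψ) - Sh.sign (q ι₀) * f (q ι₀) := fun ψ f => by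
    simp only [hV, sub_mul, add_mul, Finset.sum_sub_distrib, Finset.sum_add_distrib, mul_assoc,
      ← Finset.mul_sum, ite_mul, one_mul, zero_mul, Finset.sum_ite_eq', Finset.mem_univ, if_true]
  have hA0 : ∀ ψ ξ, Sh.sign ξ ≠ 0 → A ψ ξ = 0 := fun ψ ξ h => by
    simp [hA, (hTne ξ h ψ).1, (hTne ξ h ψ).2]
  have hqs := (Sh.two_ne ι₀ _ (hq ι₀)).1
  have hlq' : ∀ ψ, l ψ ≠ q ι₀ := fun ψ e => hlq ψ ι₀ e.symm
  have hcolψ : ∀ ι (ψ : Ψ), S.col ι ψ.1 = 0 ∧ S.col ι (st ψ.1) = 0 := fun ι ψ =>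
    ⟨S.col_central hzc hM he ι (by rw [ψ.2]; exact w3_ne),
      S.col_central hzc hM he ι (by rw [hstw' _ ψ.2]; exact w3_sq_ne)⟩
  refine ⟨⟨Ψ, inferInstance, ι₀, top, A, V, fun ψ φ => ?_, fun ψ φ => ?_, fun ψ φ => ?_,
    fun ψ ι => ?_, fun ψ ι => ?_, fun ψ => hA0 ψ o (by rw [Sh.one]; exact one_ne_zero),
    fun ψ => ?_, fun ψ g hg => ?_, fun ψ g hg => ?_, ?_, ?_, ?_⟩⟩
  · constructor <;> intro h
    · subst h
      rw [hAf]
      simp only [hA, if_true, if_neg (hne2 ψ ψ), if_neg (hne2 ψ ψ).symm]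
      linear_combination (2 : ℤ) * htt' ψ
    · rw [hAf]
      simp only [hA]
      rw [if_neg fun e => h (Subtype.ext e), if_neg (hne2 ψ φ), if_neg (hne2 φ ψ).symm,
        if_neg fun e => h (Subtype.ext (hst2.injective e))]
      ring
  · constructor <;> intro h
    · subst h
      rw [hVf]
      simp only [hV, if_true, if_neg (hTne _ (hl ψ) ψ).1.symm, if_neg (hTne _ hqs ψ).1.symm,
        if_neg (hTne _ (hl ψ) ψ).1, if_neg (hlq' ψ), if_neg (hTne _ hqs ψ).1,
        if_neg (hlq' ψ).symm]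
      linear_combination htt' ψ + Sh.sign_sq (hl ψ) + Sh.sign_sq hqs
    · rw [hVf]
      simp only [hV, if_true, if_neg fun e : ψ.1 = φ.1 => h (Subtype.ext e),
        if_neg (hTne _ (hl φ) ψ).1.symm, if_neg (hTne _ hqs ψ).1.symm,
        if_neg (hTne _ (hl ψ) φ).1, if_neg fun e : l ψ = l φ => h (hli e), if_neg (hlq' ψ),
        if_neg (hTne _ hqs φ).1, if_neg (hlq' φ).symm]
      linear_combination Sh.sign_sq hqs
  · rw [hVf, hA0 φ _ (hl ψ), hA0 φ _ hqs]
    constructor <;> intro h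
    · subst h
      simp only [hA, if_true, if_neg (hne2 ψ ψ)]
      linear_combination htt' ψ
    · simp only [hA]
      rw [if_neg fun e => h (Subtype.ext e), if_neg (hne2 ψ φ)]
      ring
  · rw [hAf, (hcolψ ι ψ).1, (hcolψ ι ψ).2]
    ring
  · rw [hVf, (hcolψ ι ψ).1, hd1 _ (hlq ψ) ι]
    constructor <;> intro h
    · rcases Sh.eq ι (q ι₀) with ⟨-, hd⟩ | ⟨hne, -⟩
      · rw [hd]
        linear_combination Sh.sign_sq (hl ψ) + 2 * Sh.sign_sq hqs
      · exact absurd (h ▸ hq ι₀) hne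
    · rcases Sh.eq ι (q ι₀) with ⟨he', -⟩ | ⟨-, hd⟩
      · exact absurd (Sh.two_inj ι ι₀ _ he' (hq ι₀)) h
      · rw [hd]
        linear_combination Sh.sign_sq (hl ψ) - Sh.sign_sq hqs
  · have hs : Sh.sign o ≠ 0 := by rw [Sh.one]; exact one_ne_zero
    simp only [hV]
    rw [if_neg (hTne o hs ψ).1, if_neg (fun e : o = q ι₀ => (Sh.two_ne ι₀ _ (hq ι₀)).2 e.symm),
      Sh.one]
    constructor <;> intro h
    · rw [h, if_pos htop.symm]; ring
    · rw [if_neg fun e => h (hli (e.symm.trans htop.symm))]; ring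
  · simp only [comb, hA]
    push_cast
    simp only [mul_assoc, ← Finset.mul_sum, sub_mul, Finset.sum_sub_distrib, ite_mul, one_mul,
      zero_mul, Finset.sum_ite_eq', Finset.mem_univ, if_true, hstreg _ _ hg, sub_self, mul_zero]
  · simp only [comb, hV]
    push_cast
    simp only [sub_mul, add_mul, Finset.sum_sub_distrib, Finset.sum_add_distrib, mul_assoc,
      ← Finset.mul_sum, ite_mul, one_mul, zero_mul, Finset.sum_ite_eq', Finset.mem_univ, if_true,
      hreg ψ g hg]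
    linear_combination (-((Sh.sign (l ψ) : ℂ) * ((l ψ).1 : H → ℂ) g -
      (Sh.sign (q ι₀) : ℂ) * ((q ι₀).1 : H → ℂ) g)) * htt ψ
  · rw [Nat.card_eq_fintype_card, Nat.card_eq_fintype_card]
    have h1 : Fintype.card Ψ = ((Finset.univ.filter fun ξ => Sh.sign ξ ≠ 0) \
        Finset.univ.image q).card := by
      rw [← Finset.card_univ, ← Finset.card_image_of_injective _ hli]
      congr 1
      ext ξ
      simp only [Finset.mem_image, Finset.mem_univ, true_and, Finset.mem_sdiff, Finset.mem_filter,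
        not_exists]
      constructor
      · rintro ⟨ψ, rfl⟩
        exact ⟨hl ψ, hlq ψ⟩
      · rintro ⟨h, h'⟩
        exact hlsurj ξ h h'
    have hsub : Finset.univ.image q ⊆ Finset.univ.filter fun ξ => Sh.sign ξ ≠ 0 :=
      Finset.image_subset_iff.2 fun ι _ =>
        Finset.mem_filter.2 ⟨Finset.mem_univ _, (Sh.two_ne ι _ (hq ι)).1⟩
    have := Finset.card_le_card hsub
    rw [Finset.card_image_of_injective _ hqi, hsix, Finset.card_univ] at this
    rw [h1, Finset.card_sdiff_of_subset hsub, Finset.card_image_of_injective _ hqi, hsix,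
      Finset.card_univ]
    omega
  · intro v hv
    set α : Ψ → ℂ := fun ψ => (t ψ : ℂ) * v (st ψ.1) with hα
    set β : Ψ → ℂ := fun ψ => -(t ψ : ℂ) * v ψ.1 - α ψ with hβ
    set w : ↥(Cfsg.principalBlock M H) → ℂ :=
      fun ξ => v ξ - ∑ ψ, α ψ * (A ψ ξ : ℂ) - ∑ ψ, β ψ * (V ψ ξ : ℂ) with hw
    have hwT : ∀ ξ : ↥(Cfsg.principalBlock M H), zval z (ξ.1 : H → ℂ) ≠ 1 → w ξ = 0 := by
      intro ξ hξ
      have hs : Sh.sign ξ = 0 := not_not.1 fun e => hξ ((hcT ξ).2 e)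
      rcases hcu ξ with h | h | h
      · exact absurd h hξ
      · set ψ : Ψ := ⟨ξ, h⟩
        rw [show ξ = ψ.1 from rfl] at hs ⊢
        simp only [hw]
        rw [Finset.sum_eq_single ψ (fun φ _ hne => by
            simp [hA, show ψ.1 ≠ φ.1 from fun e => hne (Subtype.ext e).symm, hne2 ψ φ])
          (fun h => absurd (Finset.mem_univ ψ) h),
          Finset.sum_eq_single ψ (fun φ _ hne => by
            simp [hV, show ψ.1 ≠ φ.1 from fun e => hne (Subtype.ext e).symm,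
              ((hTne _ (hl φ) ψ).1).symm, ((hTne _ hqs ψ).1).symm])
          (fun h => absurd (Finset.mem_univ ψ) h)]
        simp only [hA, hV, if_true, if_neg (hne2 ψ ψ), if_neg ((hTne _ (hl ψ) ψ).1).symm,
          if_neg ((hTne _ hqs ψ).1).symm]
        push_cast
        simp only [hβ, hα]
        linear_combination (-v ψ.1) * htt ψ
      · set ψ : Ψ := ⟨st ξ, hstw ξ h⟩
        have e : ξ = st ψ.1 := (hst2 ξ).symm
        rw [e] at hs ⊢
        simp only [hw]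
        rw [Finset.sum_eq_single ψ (fun φ _ hne => by
            simp [hA, (hne2 φ ψ).symm,
              show st ψ.1 ≠ st φ.1 from fun e => hne (Subtype.ext (hst2.injective e)).symm])
          (fun h => absurd (Finset.mem_univ ψ) h),
          Finset.sum_eq_zero (f := fun φ => β φ * (V φ (st ψ.1) : ℂ)) (fun φ _ => by
            simp [hV, (hne2 φ ψ).symm, ((hTne _ (hl φ) ψ).2).symm, ((hTne _ hqs ψ).2).symm]),
          sub_zero]
        simp only [hA, if_true, if_neg (hne2 ψ ψ).symm]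
        push_cast
        simp only [hα]
        linear_combination (-v (st ψ.1)) * htt ψ
    have hwreg : ∀ g, ¬ 3 ∣ orderOf g → comb w g = 0 := by
      intro g hg
      have e1 : ∀ ψ, comb (fun ξ => (A ψ ξ : ℂ)) g = 0 := fun ψ => by
        simp only [comb, hA]
        push_cast
        simp only [mul_assoc, ← Finset.mul_sum, sub_mul, Finset.sum_sub_distrib, ite_mul, one_mul,
          zero_mul, Finset.sum_ite_eq', Finset.mem_univ, if_true, hstreg _ _ hg, sub_self, mul_zero]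
      have e2 : ∀ ψ, comb (fun ξ => (V ψ ξ : ℂ)) g = 0 := fun ψ => by
        simp only [comb, hV]
        push_cast
        simp only [sub_mul, add_mul, Finset.sum_sub_distrib, Finset.sum_add_distrib, mul_assoc,
          ← Finset.mul_sum, ite_mul, one_mul, zero_mul, Finset.sum_ite_eq', Finset.mem_univ,
          if_true, hreg ψ g hg]
        linear_combination (-((Sh.sign (l ψ) : ℂ) * ((l ψ).1 : H → ℂ) g -
          (Sh.sign (q ι₀) : ℂ) * ((q ι₀).1 : H → ℂ) g)) * htt ψ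
      simp only [comb, hw, sub_mul, Finset.sum_sub_distrib, Finset.sum_mul, mul_assoc] at e1 e2 ⊢
      rw [Finset.sum_comm (f := fun ξ ψ => α ψ * ((A ψ ξ : ℂ) * (ξ.1 : H → ℂ) g)),
        Finset.sum_comm (f := fun ξ ψ => β ψ * ((V ψ ξ : ℂ) * (ξ.1 : H → ℂ) g))]
      simp only [← Finset.mul_sum, e1, e2, mul_zero, Finset.sum_const_zero, sub_zero]
      exact hv g hg
    refine ⟨α, β, fun ι => (∑ η, w η * (S.col ι η : ℂ)) / 9, fun ξ => ?_⟩
    have e : w ξ = ∑ ι, (∑ η, w η * (S.col ι η : ℂ)) / 9 * (S.col ι ξ : ℂ) := by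
      by_cases hξ : zval z (ξ.1 : H → ℂ) = 1
      · have h := S.regInner_supported hzc hM he hwT hξ
        rw [comb_regular_zero hwreg, eq_comm, div_eq_zero_iff,
          or_iff_left (by norm_num : (3 : ℂ) ≠ 0), sub_eq_zero] at h
        rw [h]
        exact Finset.sum_congr rfl fun ι _ => by ring
      · rw [hwT ξ hξ, Finset.sum_eq_zero fun ι _ => by
          rw [S.col_central hzc hM he ι hξ, Int.cast_zero, mul_zero]]
    simp only [hw] at e ⊢
    linear_combination e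
  · intro α β γ h
    have hα0 : α = 0 := funext fun ψ => by
      have h1 := h (st ψ.1)
      rw [Finset.sum_eq_single ψ (fun φ _ hne => by
          simp [hA, (hne2 φ ψ).symm,
            show st ψ.1 ≠ st φ.1 from fun e => hne (Subtype.ext (hst2.injective e)).symm])
        (fun h => absurd (Finset.mem_univ ψ) h),
        Finset.sum_eq_zero (f := fun φ => β φ * (V φ (st ψ.1) : ℂ)) (fun φ _ => by
          simp [hV, (hne2 φ ψ).symm, ((hTne _ (hl φ) ψ).2).symm, ((hTne _ hqs ψ).2).symm]),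
        Finset.sum_eq_zero (f := fun ι => γ ι * (S.col ι (st ψ.1) : ℂ)) (fun ι _ => by
          simp [(hcolψ ι ψ).2]), add_zero, add_zero] at h1
      simp only [hA, if_true, if_neg (hne2 ψ ψ).symm] at h1
      push_cast at h1
      show α ψ = 0
      linear_combination (t ψ : ℂ) * h1 - α ψ * htt ψ
    have hβ0 : β = 0 := funext fun ψ => by
      have h1 := h ψ.1
      rw [Finset.sum_eq_zero (f := fun φ => α φ * (A φ ψ.1 : ℂ)) (fun φ _ => by simp [hα0]),
        Finset.sum_eq_single ψ (fun φ _ hne => by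
          simp [hV, show ψ.1 ≠ φ.1 from fun e => hne (Subtype.ext e).symm,
            ((hTne _ (hl φ) ψ).1).symm, ((hTne _ hqs ψ).1).symm])
        (fun h => absurd (Finset.mem_univ ψ) h),
        Finset.sum_eq_zero (f := fun ι => γ ι * (S.col ι ψ.1 : ℂ)) (fun ι _ => by
          simp [(hcolψ ι ψ).1]), zero_add, add_zero] at h1
      simp only [hV, if_true, if_neg ((hTne _ (hl ψ) ψ).1).symm,
        if_neg ((hTne _ hqs ψ).1).symm] at h1
      push_cast at h1
      show β ψ = 0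
      linear_combination (-(t ψ : ℂ)) * h1 - β ψ * htt ψ
    refine ⟨hα0, hβ0, funext fun κ => ?_⟩
    have h1 : ∑ ξ : ↥(Cfsg.principalBlock M H),
        (∑ ι, γ ι * (S.col ι ξ : ℂ)) * (S.col κ ξ : ℂ) = 0 :=
      Finset.sum_eq_zero fun ξ _ => by
        have := h ξ
        simp only [hα0, hβ0, Pi.zero_apply, zero_mul, Finset.sum_const_zero, zero_add] at this
        rw [this, zero_mul]
    simp only [Finset.sum_mul, mul_assoc] at h1
    rw [Finset.sum_comm, Finset.sum_eq_single κ (fun ι _ hne => by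
        rw [← Finset.mul_sum]
        have := congrArg (fun r : ℤ => (r : ℂ)) (S.col_orth (M := M) hM he hne)
        push_cast at this
        rw [this, mul_zero]) (fun h => absurd (Finset.mem_univ κ) h), ← Finset.mul_sum] at h1
    have := congrArg (fun r : ℤ => (r : ℂ)) (S.col_sq (M := M) hM he κ)
    push_cast at this
    simp only [pow_two] at this
    rw [this, mul_eq_zero] at h1
    exact h1.resolve_right (by norm_num)

end Setting

end CfsgLib.ExtraspecialThree
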