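import Cfsg.Agent.ExtraspecialThree.Transfer

/-!
# The invariants of the principal block

For even inertial index `invariants_even`, for trivial inertial index `invariants_one`.
-/

set_option autoImplicit false
set_option linter.unusedSectionVars false
set_option linter.style.haveILetI false
set_option maxHeartbeats 1000000

namespace CfsgLib.ExtraspecialThree

open Cfsg CfsgLib.Blocks CfsgLib.PrincipalBlock CfsgLib.BlockPairing
open scoped ComplexConjugate

universe u

variable {G : Type u} [Group G] [Fintype G] {M : Ideal AlgInt} [M.IsPrime]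

/-- The height zero characters of the principal block are those of degree prime to 3. -/
theorem height_zero_iff (_hM : Cfsg.IsPModular 3 M) {χ : IrrCharacter G}
    (_hχ : χ ∈ Cfsg.principalBlock M G) :
    Cfsg.blockHeight 3 (Cfsg.principalBlock M G) (χ : G → ℂ) = 0 ↔
      ¬ 3 ∣ Cfsg.charDegree (χ : G → ℂ) := by
  have h1 : Cfsg.charDegree ((trivChar G : IrrCharacter G) : G → ℂ) = 1 := by
    have h := charDegree_cast (trivChar G)
    rw [trivChar_apply] at h
    exact_mod_cast h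
  have hinf : sInf ((fun ψ : IrrCharacter G => (Cfsg.charDegree (ψ : G → ℂ)).factorization 3) ''
      Cfsg.principalBlock M G) = 0 :=
    Nat.le_zero.1 (Nat.sInf_le ⟨trivChar G, trivChar_mem, by simp [h1]⟩)
  rw [Cfsg.blockHeight, hinf, Nat.sub_zero, Nat.factorization_eq_zero_iff]
  simp [Nat.prime_three, charDegree_ne_zero χ]

namespace Setting

variable {P : Sylow 3 G} {z : G} (S : Setting P z)
include S

open Classical in
/-- The even inertial indices. -/
theorem invariants_even (hM : Cfsg.IsPModular 3 M) (he : 2 ∣ S.inert) :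
    ∃ m, m * S.inert = 8 ∧ Nat.card (Cfsg.principalBlock M G) + 2 * m = 18 ∧
      Nat.card {χ : IrrCharacter G // χ ∈ Cfsg.principalBlock M G ∧
        Cfsg.blockHeight 3 (Cfsg.principalBlock M G) (χ : G → ℂ) = 0} = 6 ∧
      Cfsg.blockRank 3 (Cfsg.principalBlock M G) + m = 6 := by
  haveI : Fact (Nat.Prime 3) := ⟨Nat.prime_three⟩
  haveI := Fintype.ofFinite (Subgroup.centralizer ({z} : Set G))
  haveI := Fintype.ofFinite ↥(Cfsg.principalBlock M G)
  haveI := Fintype.ofFinite ↥(Cfsg.principalBlock M (Subgroup.centralizer ({z} : Set G)))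
  set S' := S.centralizer_setting with hS'
  haveI := Fintype.ofFinite (Cls S')
  have he' : 2 ∣ S'.inert := by rw [S.inert_sub]; exact he
  obtain ⟨F⟩ := S'.exists_frame (M := M) (zc_center z) hM he'
  letI := F.fin
  -- the local vectors
  have hcolv : ∀ ι (c : Subgroup.centralizer ({z} : Set G)), ¬ 3 ∣ orderOf c →
      comb (fun ξ => (S'.col (M := M) ι ξ : ℂ)) c = 0 := fun ι c hc =>
    S'.colFn_regular hM he' hc ι
  choose AG hAG using fun ψ χ => S.exists_int_lift (F.A ψ) χ
  choose VG hVG using fun ψ χ => S.exists_int_lift (F.V ψ) χ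
  choose dG hdG using fun ι χ => S.exists_int_lift (S'.col (M := M) ι) χ
  have hprod : ∀ (v w : ↥(Cfsg.principalBlock M (Subgroup.centralizer ({z} : Set G))) → ℤ),
      (∀ c, ¬ 3 ∣ orderOf c → comb (fun ξ => (v ξ : ℂ)) c = 0) →
      (∀ c, ¬ 3 ∣ orderOf c → comb (fun ξ => (w ξ : ℂ)) c = 0) →
      ∀ v' w' : ↥(Cfsg.principalBlock M G) → ℤ,
      (∀ χ, lift z (fun ξ => (v ξ : ℂ)) χ = v' χ) → (∀ χ, lift z (fun ξ => (w ξ : ℂ)) χ = w' χ) →
      ∑ χ, v' χ * w' χ = ∑ ξ, v ξ * w ξ := by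
    intro v w hv hw v' w' hv' hw'
    have h := S.lift_inner hM hv hw
    simp only [hv', hw', map_intCast] at h
    exact_mod_cast h
  have hdeg : ∀ (v : ↥(Cfsg.principalBlock M (Subgroup.centralizer ({z} : Set G))) → ℤ),
      (∀ c, ¬ 3 ∣ orderOf c → comb (fun ξ => (v ξ : ℂ)) c = 0) →
      ∀ v' : ↥(Cfsg.principalBlock M G) → ℤ, (∀ χ, lift z (fun ξ => (v ξ : ℂ)) χ = v' χ) →
      ∑ χ, v' χ * (Cfsg.charDegree (χ.1 : G → ℂ) : ℤ) = 0 := by
    intro v hv v' hv'
    have h := S.lift_regular hM hv (g := (1 : G)) (by simp)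
    simp only [hv', ← charDegree_cast] at h
    exact_mod_cast h
  have hone : ∀ (v : ↥(Cfsg.principalBlock M (Subgroup.centralizer ({z} : Set G))) → ℤ)
      (v' : ↥(Cfsg.principalBlock M G) → ℤ), (∀ χ, lift z (fun ξ => (v ξ : ℂ)) χ = v' χ) →
      v' (blockOne (G := G) M) =
        v (blockOne (G := Subgroup.centralizer ({z} : Set G)) M) := by
    intro v v' hv'
    have h := hv' (blockOne (G := G) M)
    rw [S.lift_one] at h
    exact_mod_cast h.symm
  -- the lifted columns are values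
  have hrep3 : ∀ ι, 3 ∣ orderOf (S'.rep ι) := fun ι => by rw [S'.orderOf_rep ι]
  have hdGval : ∀ ι (χ : ↥(Cfsg.principalBlock M G)),
      (χ.1 : G → ℂ) ((S'.rep ι : Subgroup.centralizer ({z} : Set G)) : G) = dG ι χ := by
    intro ι χ
    have h := S.lift_col hM (hrep3 ι) χ
    simp only [← S'.cast_col he', map_intCast] at h
    rw [hdG ι χ] at h
    have h' := congrArg conj h
    rw [Complex.conj_conj, map_intCast] at h'
    exact h'.symm
  obtain ⟨Sh, hSh⟩ : ∃ Sh : Shape dG (blockOne (G := G) M),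
      ∀ χ, Sh.sign χ = 0 ↔ (3 : ℤ) ∣ (Cfsg.charDegree (χ.1 : G → ℂ) : ℤ) := by
    haveI : Nonempty (Cls S') := ⟨F.cls⟩
    refine shape_of_columns dG _ _ (fun ι => ?_) (fun ι κ hne => ?_) (fun ι => ?_)
      (fun ι χ => ?_) (fun ι => ?_) ?_
    · simp only [pow_two]
      rw [hprod _ _ (hcolv ι) (hcolv ι) _ _ (hdG ι) (hdG ι)]
      simpa only [pow_two] using S'.col_sq (M := M) hM he' ι
    · rw [hprod _ _ (hcolv ι) (hcolv κ) _ _ (hdG ι) (hdG κ)]
      exact S'.col_orth hM he' hne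
    · rw [← hdeg _ (hcolv ι) _ (hdG ι)]
      exact Finset.sum_congr rfl fun χ _ => mul_comm _ _
    · have hx : ∃ k, orderOf ((S'.rep ι : Subgroup.centralizer ({z} : Set G)) : G) = 3 ^ k :=
        ⟨1, by rw [Subgroup.orderOf_coe, S'.orderOf_rep, pow_one]⟩
      have h := memLocalIdeal_char_mul_sub hM χ.1
        (Commute.one_right ((S'.rep ι : Subgroup.centralizer ({z} : Set G)) : G)) hx (by simp)
      rw [mul_one, hdGval, ← charDegree_cast] at h
      have h' := (MajorSubsection.memLocalIdeal_intCast_iff (p := 3) hM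
        (dG ι χ - (Cfsg.charDegree (χ.1 : G → ℂ) : ℤ))).1 (by push_cast; exact h)
      exact_mod_cast h'
    · rw [hone _ _ (hdG ι)]
      exact S'.col_one he' ι
    · have h := charDegree_cast (blockOne (G := G) M).1
      rw [show ((blockOne (G := G) M).1 : G → ℂ) 1 = 1 from trivChar_apply _] at h
      exact_mod_cast h
  -- the pattern
  obtain ⟨h6, hcount⟩ := endgame Sh F.cls F.top
    (fun χ => (Cfsg.charDegree (χ.1 : G → ℂ) : ℤ))
    (fun χ => by exact_mod_cast Nat.pos_of_ne_zero (charDegree_ne_zero χ.1)) AG VG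
    (fun ψ φ => by
      rw [hprod _ _ (F.hA ψ) (F.hA φ) _ _ (hAG ψ) (hAG φ)]
      split_ifs with h
      exacts [(F.hAA ψ φ).1 h, (F.hAA ψ φ).2 h])
    (fun ψ φ => by
      rw [hprod _ _ (F.hV ψ) (F.hV φ) _ _ (hVG ψ) (hVG φ)]
      split_ifs with h
      exacts [(F.hVV ψ φ).1 h, (F.hVV ψ φ).2 h])
    (fun ψ φ => by
      rw [hprod _ _ (F.hV ψ) (F.hA φ) _ _ (hVG ψ) (hAG φ)]
      split_ifs with h
      exacts [(F.hVA ψ φ).1 h, (F.hVA ψ φ).2 h])
    (fun ψ ι => by
      rw [hprod _ _ (F.hA ψ) (hcolv ι) _ _ (hAG ψ) (hdG ι)]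
      exact F.hAd ψ ι)
    (fun ψ ι => by
      rw [hprod _ _ (F.hV ψ) (hcolv ι) _ _ (hVG ψ) (hdG ι)]
      split_ifs with h
      exacts [(F.hVd ψ ι).1 h, (F.hVd ψ ι).2 h])
    (fun ψ => hdeg _ (F.hA ψ) _ (hAG ψ))
    (fun ψ => by rw [hone _ _ (hAG ψ)]; exact F.hAo ψ)
    (fun ψ => by
      rw [hone _ _ (hVG ψ)]
      split_ifs with h
      exacts [(F.hVo ψ).1 h, (F.hVo ψ).2 h])
    (by rw [← Nat.card_eq_fintype_card, ← Nat.card_eq_fintype_card]; exact F.card)
  -- the lifts of the frame span the kernel of the restriction to the regular elements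
  set E : F.idx ⊕ (F.idx ⊕ Cls S') → ↥(Cfsg.principalBlock M G) → ℂ :=
    fun i χ => (Sum.elim AG (Sum.elim VG dG) i χ : ℂ) with hE
  set e : F.idx ⊕ (F.idx ⊕ Cls S') →
      ↥(Cfsg.principalBlock M (Subgroup.centralizer ({z} : Set G))) → ℂ :=
    fun i ξ => (Sum.elim F.A (Sum.elim F.V (fun ι => S'.col (M := M) ι)) i ξ : ℂ) with hee
  have hlift : ∀ i, lift z (e i) = E i := by
    intro i
    funext χ
    rcases i with ψ | ψ | ι
    exacts [hAG ψ χ, hVG ψ χ, hdG ι χ]
  have heA : ∀ i c, ¬ 3 ∣ orderOf c → comb (e i) c = 0 := by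
    intro i c hc
    rcases i with ψ | ψ | ι
    exacts [F.hA ψ c hc, F.hV ψ c hc, hcolv ι c hc]
  have hsplit : ∀ (a : F.idx ⊕ (F.idx ⊕ Cls S') → ℂ) ξ, (∑ i, a i • e i) ξ =
      ∑ ψ, a (Sum.inl ψ) * (F.A ψ ξ : ℂ) + ∑ ψ, a (Sum.inr (Sum.inl ψ)) * (F.V ψ ξ : ℂ) +
        ∑ ι, a (Sum.inr (Sum.inr ι)) * (S'.col (M := M) ι ξ : ℂ) := by
    intro a ξ
    simp only [Finset.sum_apply, Pi.smul_apply, smul_eq_mul, Fintype.sum_sum_type, hee,
      Sum.elim_inl, Sum.elim_inr]
    ring
  have hcomb : ∀ (a : F.idx ⊕ (F.idx ⊕ Cls S') → ℂ) c, ¬ 3 ∣ orderOf c →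
      comb (∑ i, a i • e i) c = 0 := by
    intro a c hc
    simp only [comb, Finset.sum_apply, Pi.smul_apply, smul_eq_mul, Finset.sum_mul, mul_assoc]
    rw [Finset.sum_comm]
    refine Finset.sum_eq_zero fun i _ => ?_
    rw [← Finset.mul_sum]
    have h := heA i c hc
    rw [comb] at h
    rw [h, mul_zero]
  -- vanishing against the lifts forces vanishing at the singular elements
  have hsing : ∀ w : ↥(Cfsg.principalBlock M G) → ℂ, (∀ i, ∑ χ, w χ * E i χ = 0) →
      ∀ g : G, 3 ∣ orderOf g → ∑ χ, w χ * (χ.1 : G → ℂ) g = 0 := by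
    intro w hw
    have hC : ∀ c : Subgroup.centralizer ({z} : Set G), 3 ∣ orderOf c →
        ∑ χ, w χ * (χ.1 : G → ℂ) (c : G) = 0 := by
      intro c hc
      have hc' : 3 ∣ orderOf c⁻¹ := by rwa [orderOf_inv]
      set v := fun ξ : ↥(Cfsg.principalBlock M (Subgroup.centralizer ({z} : Set G))) =>
        conj ((ξ.1 : Subgroup.centralizer ({z} : Set G) → ℂ) c⁻¹) with hv
      obtain ⟨α, β, γ, hspan⟩ := F.span v (S.comb_col hM hc')
      have hsum : v = ∑ i, Sum.elim α (Sum.elim β γ) i • e i := funext fun ξ => by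
        rw [hsplit, hspan ξ]
        rfl
      have h : ∑ χ, w χ * lift z v χ = 0 := by
        rw [hsum, map_sum]
        simp only [map_smul, hlift, Finset.sum_apply, Pi.smul_apply, smul_eq_mul, Finset.mul_sum]
        rw [Finset.sum_comm]
        refine Finset.sum_eq_zero fun i _ => ?_
        rw [Finset.sum_congr rfl fun χ _ => mul_left_comm (w χ) _ _, ← Finset.mul_sum, hw i,
          mul_zero]
      rw [← h]
      refine Finset.sum_congr rfl fun χ _ => ?_
      rw [hv, S.lift_col hM hc' χ, Subgroup.coe_inv,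
        Characters.character_inv (Characters.isCharacter_of_isIrr χ.1.2), Complex.conj_conj]
    intro g hg
    obtain ⟨a, ha⟩ := exists_isPPart Nat.prime_three g
    have hmove : ∀ b, IsConj a b → ∃ y, Commute b y ∧ ¬ 3 ∣ orderOf y ∧
        ∀ χ : ↥(Cfsg.principalBlock M G), (χ.1 : G → ℂ) g = (χ.1 : G → ℂ) (b * y) := by
      intro b hb
      obtain ⟨d, hd⟩ := isConj_iff.1 hb
      obtain ⟨y, hy, hcomm, -, hy'⟩ := hd ▸ isPPart_conj ha d
      refine ⟨y, hcomm, hy', fun χ => ?_⟩
      rw [hy, Characters.isClassFunction_of_isIrr χ.1.2]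
    have hz3 : orderOf z = 3 := S.orderOf_eq_three S.z_mem S.z_ne
    have hdiv : ∀ b y : G, Commute b y → orderOf b = 3 → ¬ 3 ∣ orderOf y → 3 ∣ orderOf (b * y) := by
      intro b y hby hb hy
      rw [hby.orderOf_mul_eq_mul_orderOf_of_coprime
        (by rw [hb]; exact (Nat.prime_three.coprime_iff_not_dvd.2 hy)), hb]
      exact dvd_mul_right 3 _
    rcases S.exists_class (x := a) ha.choose_spec.2.2.1 with h | h | h | ⟨ι, hι⟩
    · exfalso
      obtain ⟨y, hy, -, -, hy'⟩ := ha
      rw [h, one_mul] at hy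
      exact hy' (hy ▸ hg)
    · obtain ⟨y, hy, hy', hval⟩ := hmove z h
      simp only [hval]
      have hmem : z * y ∈ Subgroup.centralizer ({z} : Set G) :=
        mul_mem (Subgroup.mem_centralizer_singleton_iff.2 rfl)
          (Subgroup.mem_centralizer_singleton_iff.2 hy.eq.symm)
      exact hC ⟨z * y, hmem⟩ (by rw [← Subgroup.orderOf_coe]; exact hdiv z y hy hz3 hy')
    · obtain ⟨y, hy, hy', hval⟩ := hmove z⁻¹ h
      simp only [hval]
      have hmem : z⁻¹ * y ∈ Subgroup.centralizer ({z} : Set G) :=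
        mul_mem (inv_mem (Subgroup.mem_centralizer_singleton_iff.2 rfl))
          (Subgroup.mem_centralizer_singleton_iff.2 (by simpa using hy.inv_left.eq.symm))
      exact hC ⟨z⁻¹ * y, hmem⟩ (by
        rw [← Subgroup.orderOf_coe]
        exact hdiv z⁻¹ y hy (by rw [orderOf_inv, hz3]) hy')
    · obtain ⟨y, hy, hy', hval⟩ := hmove (S.rep ι) hι
      simp only [hval, S.value_section' hM (S.rep_mem ι) (S.rep_not_mem ι) hy hy']
      exact hC ⟨S.rep ι, S.le_centralizer (S.rep_mem ι)⟩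
        (by rw [← Subgroup.orderOf_coe]; exact (S.orderOf_rep ι).ge.antisymm (S.orderOf_rep ι).le ▸ dvd_rfl)
  -- every character of the block is in the pattern
  have hall : ∀ χ : ↥(Cfsg.principalBlock M G),
      Sh.sign χ ≠ 0 ∨ (∃ ψ, AG ψ χ ≠ 0) ∨ ∃ ψ, VG ψ χ ≠ 0 := by
    intro χ
    by_contra hcon
    push Not at hcon
    obtain ⟨hs, hA0, hV0⟩ := hcon
    have hne : χ.1 ≠ trivChar G := fun h => by
      rw [show χ = blockOne (G := G) M from Subtype.ext h, Sh.one] at hs
      exact one_ne_zero hs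
    have hz := hsing (fun ψ => if ψ = χ then 1 else 0) (fun i => by
      rcases i with ψ | ψ | ι <;> simp [hE, hA0, hV0, Sh.d_eq_zero hs])
    refine (PrincipalColumn.mem_principalBlock_iff_regInner hM χ.1).1 χ.2 ?_
    have h := Characters.classInner_irr χ.1 (trivChar G)
    rw [if_neg hne, Cfsg.classInner] at h
    refine Eq.trans ?_ h
    rw [regInner]
    congr 1
    refine Finset.sum_congr rfl fun g _ => ?_
    split_ifs with hg
    · have h' := hz g hg
      simp only [ite_mul, one_mul, zero_mul, Finset.sum_ite_eq', Finset.mem_univ, if_true] at h'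
      rw [h', zero_mul]
    · rfl
  have hk : Nat.card (Cfsg.principalBlock M G) = 6 + 2 * Fintype.card F.idx := by
    rw [← hcount]
    exact (Nat.card_congr (Equiv.subtypeUnivEquiv hall)).symm
  have hm := F.card
  rw [Nat.card_eq_fintype_card (α := F.idx)] at hm
  refine ⟨Nat.card (Cls S'), ?_, by omega, ?_, ?_⟩
  · rw [← S.inert_sub]
    exact S'.card_cls_mul
  · rw [← h6, ← Fintype.card_subtype, ← Nat.card_eq_fintype_card]
    refine Nat.card_congr ((Equiv.subtypeSubtypeEquivSubtypeInter _ _).symm.trans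
      (Equiv.subtypeEquivRight fun χ => ?_))
    rw [height_zero_iff hM χ.2, Ne, hSh]
    exact not_congr (Int.natCast_dvd_natCast (m := 3)).symm
  -- the rank
  set Φ : (↥(Cfsg.principalBlock M G) → ℂ) →ₗ[ℂ] (G → ℂ) :=
    Fintype.linearCombination ℂ fun χ => Cfsg.pRegularPart 3 (χ.1 : G → ℂ) with hΦ
  have hrange : Cfsg.blockRank 3 (Cfsg.principalBlock M G) = Module.finrank ℂ (LinearMap.range Φ) := by
    rw [Cfsg.blockRank, hΦ, Fintype.range_linearCombination, Set.image_eq_range]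
  have hker : ∀ w, w ∈ LinearMap.ker Φ ↔
      ∀ g : G, ¬ 3 ∣ orderOf g → ∑ χ, w χ * (χ.1 : G → ℂ) g = 0 := by
    intro w
    rw [LinearMap.mem_ker, funext_iff]
    refine forall_congr' fun g => ?_
    simp only [hΦ, Fintype.linearCombination_apply, Finset.sum_apply, Pi.smul_apply, smul_eq_mul,
      pRegularPart_apply, Pi.zero_apply]
    by_cases hg : 3 ∣ orderOf g <;> simp [hg]
  have hEker : ∀ i, E i ∈ LinearMap.ker Φ := fun i => (hker _).2 fun g hg => by
    rw [← hlift]
    exact S.lift_regular hM (heA i) hg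
  have hli : LinearIndependent ℂ fun i => (⟨E i, hEker i⟩ : LinearMap.ker Φ) := by
    refine Fintype.linearIndependent_iff.2 fun a ha => ?_
    have ha' : ∑ i, a i • E i = 0 := by
      have := congrArg Subtype.val ha
      simpa using this
    have h0 : lift z (∑ i, a i • e i) = (0 : ↥(Cfsg.principalBlock M G) → ℂ) := by
      rw [map_sum]
      simp only [map_smul, hlift]
      exact ha'
    have h1 := S.lift_inner hM (hcomb a) (hcomb a)
    rw [h0] at h1
    simp only [Pi.zero_apply, zero_mul, Finset.sum_const_zero, Complex.mul_conj] at h1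
    have h2 : ∀ ξ, (∑ i, a i • e i) ξ = 0 := fun ξ =>
      Complex.normSq_eq_zero.1 ((Finset.sum_eq_zero_iff_of_nonneg fun η _ =>
        Complex.normSq_nonneg _).1 (by exact_mod_cast h1.symm) ξ (Finset.mem_univ ξ))
    obtain ⟨hα, hβ, hγ⟩ := F.indep (fun ψ => a (Sum.inl ψ)) (fun ψ => a (Sum.inr (Sum.inl ψ)))
      (fun ι => a (Sum.inr (Sum.inr ι))) fun ξ => (hsplit a ξ).symm.trans (h2 ξ)
    intro i
    rcases i with ψ | ψ | ι
    exacts [congrFun hα ψ, congrFun hβ ψ, congrFun hγ ι]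
  have hle := hli.fintype_card_le_finrank
  let T : LinearMap.ker Φ →ₗ[ℂ] (F.idx ⊕ (F.idx ⊕ Cls S') → ℂ) :=
    LinearMap.pi fun i => (Fintype.linearCombination ℂ (E i)).comp (LinearMap.ker Φ).subtype
  have hT : Function.Injective T := by
    refine (injective_iff_map_eq_zero T).2 fun w hw => Subtype.ext ?_
    have hwi : ∀ i, ∑ χ, w.1 χ * E i χ = 0 := fun i => by
      have := congrFun hw i
      simpa [T, Fintype.linearCombination_apply] using this
    have hall0 : ∀ g : G, ∑ χ, w.1 χ * (χ.1 : G → ℂ) g = 0 := fun g => by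
      by_cases hg : 3 ∣ orderOf g
      · exact hsing w.1 hwi g hg
      · exact (hker w.1).1 w.2 g hg
    funext η
    have h : ∑ χ, w.1 χ * Cfsg.classInner (χ.1 : G → ℂ) (η.1 : G → ℂ) = 0 := by
      simp only [Cfsg.classInner, Finset.mul_sum]
      rw [Finset.sum_comm]
      refine Finset.sum_eq_zero fun g _ => ?_
      rw [Finset.sum_congr rfl (g := fun χ : ↥(Cfsg.principalBlock M G) =>
        (w.1 χ * (χ.1 : G → ℂ) g) * ((Nat.card G : ℂ)⁻¹ * conj ((η.1 : G → ℂ) g)))
        fun χ _ => by ring, ← Finset.sum_mul, hall0 g, zero_mul]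
    simpa [Characters.classInner_irr, ← Subtype.ext_iff] using h
  have hge := LinearMap.finrank_le_finrank_of_injective hT
  rw [Module.finrank_fintype_fun_eq_card] at hge
  have hsum := LinearMap.finrank_range_add_finrank_ker Φ
  rw [Module.finrank_fintype_fun_eq_card, ← hrange, ← Nat.card_eq_fintype_card] at hsum
  have hkd : Module.finrank ℂ (LinearMap.ker Φ) =
      Fintype.card (F.idx ⊕ (F.idx ⊕ Cls S')) := le_antisymm hge hle
  rw [Fintype.card_sum, Fintype.card_sum, ← Nat.card_eq_fintype_card (α := Cls S')] at hkd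
  omega

open Classical in
/-- The trivial inertial index. -/
theorem invariants_one (hM : Cfsg.IsPModular 3 M) (he : S.inert = 1)
    (hcomm : (commutator ↥(P : Subgroup G)).index = 9) :
    Nat.card (Cfsg.principalBlock M G) = 11 ∧
      Nat.card {χ : IrrCharacter G // χ ∈ Cfsg.principalBlock M G ∧
        Cfsg.blockHeight 3 (Cfsg.principalBlock M G) (χ : G → ℂ) = 0} = 9 ∧
      Cfsg.blockRank 3 (Cfsg.principalBlock M G) = 1 := by
  haveI : Fact (Nat.Prime 3) := ⟨Nat.prime_three⟩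
  obtain ⟨P₀, K, hKn, hK⟩ := S.hasNormalPComplement he
  haveI := hKn
  have hP₀ : Nat.card (P₀ : Subgroup G) = 27 := by
    rw [P₀.card_eq_multiplicity, ← P.card_eq_multiplicity, S.card]
  have hidx : K.index = 3 ^ 3 := by
    rw [hK.symm.index_eq_card, hP₀]
    norm_num
  have hKc : ¬ 3 ∣ Nat.card K := by
    rw [← hK.index_eq_card]
    exact P₀.not_dvd_index
  haveI := Fintype.ofFinite (G ⧸ K)
  have hq27 : Nat.card (G ⧸ K) = 3 ^ 3 := by rw [← Subgroup.index_eq_card, hidx]
  -- the quotient is isomorphic to the Sylow subgroup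
  have hbij : Function.Bijective ((QuotientGroup.mk' K).comp (P : Subgroup G).subtype) := by
    rw [Nat.bijective_iff_injective_and_card]
    refine ⟨(injective_iff_map_eq_one _).2 fun a ha => ?_, by rw [hq27]; exact S.card⟩
    have hak : (a : G) ∈ K := (QuotientGroup.eq_one_iff _).1 ha
    by_contra hne
    refine hKc ?_
    have h := Subgroup.orderOf_dvd_natCard K hak
    rwa [S.orderOf_eq_three a.2 fun h => hne (Subtype.ext h)] at h
  set iso := MulEquiv.ofBijective _ hbij
  have hlin : Nat.card {χ : IrrCharacter (G ⧸ K) // (χ : G ⧸ K → ℂ) 1 = 1} = 9 := by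
    rw [Characters.card_linear_char, ← hcomm]
    have h : (commutator ↥(P : Subgroup G)).map iso.toMonoidHom = commutator (G ⧸ K) := by
      rw [commutator_def, commutator_def, Subgroup.map_commutator,
        Subgroup.map_top_of_surjective iso.toMonoidHom iso.surjective]
    rw [← h]
    exact Subgroup.index_map_equiv _ iso
  have hallq : ∀ χ : IrrCharacter (G ⧸ K), χ ∈ Cfsg.principalBlock M (G ⧸ K) := by
    intro χ
    rw [PrincipalColumn.mem_principalBlock_iff_regInner hM]
    have h : regInner 3 (χ : G ⧸ K → ℂ) ((trivChar (G ⧸ K) : IrrCharacter (G ⧸ K)) : G ⧸ K → ℂ) =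
        (Nat.card (G ⧸ K) : ℂ)⁻¹ * (χ : G ⧸ K → ℂ) 1 := by
      rw [regInner]
      congr 1
      rw [Finset.sum_eq_single 1]
      · simp [trivChar_apply]
      · intro g _ hg
        rw [if_pos]
        obtain ⟨k, -, hk⟩ := (Nat.dvd_prime_pow Nat.prime_three).1 (hq27 ▸ orderOf_dvd_natCard g)
        rw [hk]
        refine dvd_pow_self 3 fun h0 => hg (orderOf_eq_one_iff.1 ?_)
        rw [hk, h0, pow_zero]
      · simp
    rw [h]
    exact mul_ne_zero (inv_ne_zero (Nat.cast_ne_zero.2 Nat.card_pos.ne'))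
      (Characters.irr_one_ne_zero χ.2)
  have hbo := PrincipalColumn.bijOn_inflate (M := M) K hM hKc
  -- degrees
  have hdeg : ∀ χ : IrrCharacter (G ⧸ K), Cfsg.charDegree (χ : G ⧸ K → ℂ) = 1 ∨
      Cfsg.charDegree (χ : G ⧸ K → ℂ) = 3 := by
    intro χ
    obtain ⟨j, hj, hje⟩ := (Nat.dvd_prime_pow Nat.prime_three).1 (hq27 ▸ charDegree_dvd_card χ)
    have h1 := Characters.sum_degree_sq (G := G ⧸ K)
    simp only [← charDegree_cast, hq27] at h1
    have h2 : ∑ ψ : IrrCharacter (G ⧸ K), Cfsg.charDegree (ψ : G ⧸ K → ℂ) ^ 2 = 3 ^ 3 := by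
      exact_mod_cast h1
    have h3 := Finset.single_le_sum (f := fun ψ : IrrCharacter (G ⧸ K) =>
      Cfsg.charDegree (ψ : G ⧸ K → ℂ) ^ 2) (fun ψ _ => Nat.zero_le _) (Finset.mem_univ χ)
    rw [h2, hje] at h3
    rw [hje]
    interval_cases j <;> simp_all
  set Lf := Finset.univ.filter fun χ : IrrCharacter (G ⧸ K) =>
    Cfsg.charDegree (χ : G ⧸ K → ℂ) = 1 with hLf
  have hLc : Lf.card = 9 := by
    rw [← hlin, Nat.card_eq_fintype_card, Fintype.card_subtype, hLf]
    congr 1
    ext χ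
    simp only [Finset.mem_filter, Finset.mem_univ, true_and, ← charDegree_cast, Nat.cast_eq_one]
  refine ⟨?_, ?_, BlocksCharsC.Sixteen.blockRank_complement hM K hKc ⟨3, hidx⟩⟩
  · rw [← Nat.card_congr hbo.equiv, Nat.card_congr (Equiv.subtypeUnivEquiv hallq),
      Nat.card_eq_fintype_card, ← Finset.card_univ]
    have h1 := Characters.sum_degree_sq (G := G ⧸ K)
    simp only [← charDegree_cast, hq27] at h1
    have h2 : ∑ ψ : IrrCharacter (G ⧸ K), Cfsg.charDegree (ψ : G ⧸ K → ℂ) ^ 2 = 3 ^ 3 := by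
      exact_mod_cast h1
    have h3 : ∑ ψ : IrrCharacter (G ⧸ K), Cfsg.charDegree (ψ : G ⧸ K → ℂ) ^ 2 + 8 * Lf.card =
        9 * (Finset.univ : Finset (IrrCharacter (G ⧸ K))).card := by
      rw [hLf, Finset.card_filter, Finset.mul_sum, ← Finset.sum_add_distrib, Finset.card_eq_sum_ones,
        Finset.mul_sum]
      refine Finset.sum_congr rfl fun ψ _ => ?_
      rcases hdeg ψ with h | h <;> simp [h]
    omega
  · rw [← hLc, hLf, ← Fintype.card_subtype, ← Nat.card_eq_fintype_card]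
    have hd : ∀ ψ : IrrCharacter (G ⧸ K),
        Cfsg.charDegree ((PrincipalColumn.inflate K ψ : IrrCharacter G) : G → ℂ) =
          Cfsg.charDegree (ψ : G ⧸ K → ℂ) := fun ψ => by
      simp only [Cfsg.charDegree, PrincipalColumn.inflate_apply, QuotientGroup.mk_one]
    refine (Nat.card_congr (Equiv.ofBijective
      (fun ψ : {ψ : IrrCharacter (G ⧸ K) // Cfsg.charDegree (ψ : G ⧸ K → ℂ) = 1} =>
        (⟨PrincipalColumn.inflate K ψ.1, hbo.mapsTo (hallq ψ.1),
          (height_zero_iff hM (hbo.mapsTo (hallq ψ.1))).2 (by rw [hd, ψ.2]; omega)⟩ :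
          {χ : IrrCharacter G // χ ∈ Cfsg.principalBlock M G ∧
            Cfsg.blockHeight 3 (Cfsg.principalBlock M G) (χ : G → ℂ) = 0})) ⟨?_, ?_⟩)).symm
    · intro a b h
      exact Subtype.ext (hbo.injOn (hallq a.1) (hallq b.1) (congrArg Subtype.val h))
    · rintro ⟨χ, hχ, h0⟩
      obtain ⟨ψ, -, hψ⟩ := hbo.surjOn hχ
      have h3 := (height_zero_iff hM hχ).1 h0
      rw [← hψ, hd] at h3
      refine ⟨⟨ψ, (hdeg ψ).resolve_right fun e => h3 (by rw [e])⟩, Subtype.ext hψ⟩

end Setting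

end CfsgLib.ExtraspecialThree
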