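import Mathlib

/-!
# Integral columns of norm nine and the vectors expanding the faithful characters

`shape_of_columns`: integral columns of norm 9, congruent to the degrees modulo 3, orthogonal to
each other and to the degrees, have entries `±1` on a common support, except one entry `∓2` each
for a support of six.  `Shape.exists_leaf` finds, modulo the columns, the integral vectors of norm
one for the induced form.
-/

set_option autoImplicit false
set_option linter.unusedSectionVars false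

namespace CfsgLib.ExtraspecialThree

open Finset

variable {B I : Type*} [Fintype B] [Fintype I]

/-- The shape of the columns. -/
structure Shape (d : I → B → ℤ) (o : B) where
  /-- The common sign. -/
  sign : B → ℤ
  /-- The exceptional position. -/
  two : I → Option B
  sq : ∀ χ, sign χ = 0 ∨ sign χ = 1 ∨ sign χ = -1
  eq : ∀ ι χ, (two ι = some χ ∧ d ι χ = -2 * sign χ) ∨ (two ι ≠ some χ ∧ d ι χ = sign χ)
  two_inj : ∀ ι κ χ, two ι = some χ → two κ = some χ → ι = κ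
  two_ne : ∀ ι χ, two ι = some χ → sign χ ≠ 0 ∧ χ ≠ o
  one : sign o = 1
  card : ((univ.filter fun χ => sign χ ≠ 0).card = 9 ∧ Fintype.card I = 1 ∧ ∀ ι, two ι = none) ∨
    ((univ.filter fun χ => sign χ ≠ 0).card = 6 ∧ ∀ ι, ∃ χ, two ι = some χ)

/-- Integers with squares summing to one. -/
theorem exists_unit_of_sum_sq_eq_one {X : Type*} (s : Finset X) (f : X → ℤ)
    (h : ∑ x ∈ s, f x ^ 2 = 1) :
    ∃ l ∈ s, (f l = 1 ∨ f l = -1) ∧ ∀ x ∈ s, x ≠ l → f x = 0 := by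
  classical
  obtain ⟨l, hl, hne⟩ := exists_ne_zero_of_sum_ne_zero (h.trans_ne one_ne_zero)
  have h1 : 1 ≤ f l ^ 2 := Int.add_one_le_iff.2 (lt_of_le_of_ne (sq_nonneg _) (Ne.symm hne))
  have h2 := add_sum_erase s (fun x => f x ^ 2) hl
  have h3 : ∀ x ∈ s.erase l, (0 : ℤ) ≤ f x ^ 2 := fun x _ => sq_nonneg _
  have h4 := sum_nonneg h3
  have h5 : ∑ x ∈ s.erase l, f x ^ 2 = 0 := by linarith
  have h6 : f l ^ 2 = 1 := by linarith
  refine ⟨l, hl, sq_eq_one_iff.1 h6, fun x hx hxl => ?_⟩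
  exact pow_eq_zero_iff (n := 2) two_ne_zero |>.1
    ((sum_eq_zero_iff_of_nonneg h3).1 h5 x (mem_erase.2 ⟨hxl, hx⟩))

/-- Columns of norm nine. -/
theorem shape_of_columns [Nonempty I] (d : I → B → ℤ) (D : B → ℤ) (o : B)
    (hsq : ∀ ι, ∑ χ, d ι χ ^ 2 = 9) (horth : ∀ ι κ, ι ≠ κ → ∑ χ, d ι χ * d κ χ = 0)
    (hdeg : ∀ ι, ∑ χ, D χ * d ι χ = 0) (hcongr : ∀ ι χ, (3 : ℤ) ∣ d ι χ - D χ)
    (hone : ∀ ι, d ι o = 1) (hDo : D o = 1) :
    ∃ S : Shape d o, ∀ χ, S.sign χ = 0 ↔ (3 : ℤ) ∣ D χ := by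
  classical
  set σ : B → ℤ := fun χ => if (3 : ℤ) ∣ D χ then 0 else if (3 : ℤ) ∣ D χ - 1 then 1 else -1
    with hσ
  have hbound : ∀ ι χ, -2 ≤ d ι χ ∧ d ι χ ≤ 2 := by
    intro ι χ
    by_cases hχ : χ = o
    · rw [hχ, hone]
      omega
    have h := sum_le_sum_of_subset_of_nonneg (f := fun χ => d ι χ ^ 2)
      (subset_univ ({o, χ} : Finset B)) fun _ _ _ => sq_nonneg _
    rw [sum_pair (Ne.symm hχ), hsq, hone] at h
    constructor <;> nlinarith
  have hval : ∀ ι χ, (σ χ = 0 ∧ d ι χ = 0) ∨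
      (σ χ ≠ 0 ∧ (d ι χ = σ χ ∨ d ι χ = -2 * σ χ)) := by
    intro ι χ
    have h1 := hbound ι χ
    have h2 := hcongr ι χ
    simp only [hσ]
    split_ifs with h3 h4
    · exact Or.inl ⟨rfl, by omega⟩
    · exact Or.inr ⟨one_ne_zero, by omega⟩
    · exact Or.inr ⟨by omega, by omega⟩
  have hσsq : ∀ χ, σ χ = 0 ∨ σ χ = 1 ∨ σ χ = -1 := fun χ => by
    simp only [hσ]; split_ifs <;> simp
  have hσo : σ o = 1 := by simp [hσ, hDo]
  set T := univ.filter fun χ => σ χ ≠ 0 with hT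
  have hoT : o ∈ T := mem_filter.2 ⟨mem_univ _, by rw [hσo]; exact one_ne_zero⟩
  set W : I → Finset B := fun ι => univ.filter fun χ => σ χ ≠ 0 ∧ d ι χ = -2 * σ χ with hW
  have hWT : ∀ ι, W ι ⊆ T := fun ι χ h => mem_filter.2 ⟨mem_univ _, (mem_filter.1 h).2.1⟩
  have hcount : ∀ ι, (T.card : ℤ) + 3 * (W ι).card = 9 := by
    intro ι
    rw [← hsq ι, hT, hW]
    simp only [card_filter, Nat.cast_sum, Nat.cast_ite, Nat.cast_one, Nat.cast_zero, mul_sum,
      ← sum_add_distrib]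
    refine sum_congr rfl fun χ _ => ?_
    rcases hval ι χ with ⟨h0, hd⟩ | ⟨h0, hd⟩
    · simp [h0, hd]
    · rcases hσsq χ with h1 | h1 | h1
      · exact absurd h1 h0
      all_goals rcases hd with hd | hd <;> simp [h1, hd]
  have hTo : ∀ ι, o ∉ W ι := fun ι h => by
    have := (mem_filter.1 h).2.2
    rw [hone, hσo] at this
    omega
  -- a support of three is against the degrees
  have h3 : T.card ≠ 3 := by
    intro h
    obtain ⟨ι⟩ := ‹Nonempty I›
    have hW2 : (W ι).card = 2 := by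
      have := hcount ι
      omega
    have hTW : T = insert o (W ι) := (eq_of_subset_of_card_le
      (insert_subset hoT (hWT ι)) (by rw [card_insert_of_notMem (hTo ι), hW2, h])).symm
    have h1 : ∑ χ, D χ * d ι χ = ∑ χ ∈ T, D χ * d ι χ := by
      refine (sum_subset (subset_univ T) fun χ _ hχ => ?_).symm
      rcases hval ι χ with ⟨-, hd⟩ | ⟨h0, -⟩
      · rw [hd, mul_zero]
      · exact absurd (mem_filter.2 ⟨mem_univ χ, h0⟩ : χ ∈ T) hχ
    rw [hdeg, hTW, sum_insert (hTo ι), hone, hDo] at h1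
    have h2 : ∑ χ ∈ W ι, D χ * d ι χ = 2 * ∑ χ ∈ W ι, -(D χ * σ χ) := by
      rw [mul_sum]
      refine sum_congr rfl fun χ hχ => ?_
      rw [(mem_filter.1 hχ).2.2]
      ring
    omega
  have hTpos : 0 < T.card := card_pos.2 ⟨o, hoT⟩
  have hTcases : T.card = 9 ∨ T.card = 6 := by
    obtain ⟨ι⟩ := ‹Nonempty I›
    have := hcount ι
    omega
  set w : I → Option B := fun ι => if h : (W ι).Nonempty then some h.choose else none with hw
  have hwmem : ∀ ι χ, w ι = some χ → χ ∈ W ι := by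
    intro ι χ h
    simp only [hw] at h
    split_ifs at h with hne
    exact (Option.some.inj h) ▸ hne.choose_spec
  have hwof : ∀ ι χ, χ ∈ W ι → w ι = some χ := by
    intro ι χ h
    have hne : (W ι).Nonempty := ⟨χ, h⟩
    simp only [hw, dif_pos hne, Option.some.injEq]
    refine card_le_one.1 ?_ _ hne.choose_spec _ h
    have := hcount ι
    omega
  have hsame : ∀ ι κ, W ι = W κ → ι = κ := by
    intro ι κ hWeq
    by_contra hne
    have he : ∀ ψ, d ι ψ = d κ ψ := by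
      intro ψ
      by_cases hψ : ψ ∈ W ι
      · rw [(mem_filter.1 hψ).2.2, (mem_filter.1 (hWeq ▸ hψ : ψ ∈ W κ)).2.2]
      · have hψ' : ψ ∉ W κ := hWeq ▸ hψ
        rcases hval ι ψ with ⟨h0, hd⟩ | ⟨h0, hd | hd⟩
        · rcases hval κ ψ with ⟨-, hd'⟩ | ⟨h0', -⟩
          · rw [hd, hd']
          · exact absurd h0 h0'
        · rcases hval κ ψ with ⟨h0', -⟩ | ⟨-, hd' | hd'⟩
          · exact absurd h0' h0
          · rw [hd, hd']
          · exact absurd (mem_filter.2 ⟨mem_univ ψ, h0, hd'⟩ : ψ ∈ W κ) hψ'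
        · exact absurd (mem_filter.2 ⟨mem_univ ψ, h0, hd⟩ : ψ ∈ W ι) hψ
    have h := horth ι κ hne
    rw [show ∑ ψ, d ι ψ * d κ ψ = ∑ ψ, d ι ψ ^ 2 from
      sum_congr rfl fun ψ _ => by rw [← he, sq], hsq] at h
    exact absurd h (by norm_num)
  refine ⟨⟨σ, w, hσsq, fun ι χ => ?_, ?_, ?_, hσo, ?_⟩, fun χ => ?_⟩
  · by_cases h : w ι = some χ
    · exact Or.inl ⟨h, (mem_filter.1 (hwmem ι χ h)).2.2⟩
    · refine Or.inr ⟨h, ?_⟩
      rcases hval ι χ with ⟨h0, hd⟩ | ⟨h0, hd | hd⟩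
      · rw [h0, hd]
      · exact hd
      · exact absurd (hwof ι χ (mem_filter.2 ⟨mem_univ _, h0, hd⟩)) h
  · intro ι κ χ hι hκ
    refine hsame ι κ ?_
    have h1 : ∀ ν, (W ν).card ≤ 1 := fun ν => by
      have := hcount ν
      omega
    ext ψ
    exact ⟨fun h => card_le_one.1 (h1 ι) _ (hwmem ι χ hι) _ h ▸ hwmem κ χ hκ,
      fun h => card_le_one.1 (h1 κ) _ (hwmem κ χ hκ) _ h ▸ hwmem ι χ hι⟩
  · intro ι χ h
    exact ⟨(mem_filter.1 (hwmem ι χ h)).2.1, fun hχ => hTo ι (hχ ▸ hwmem ι χ h)⟩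
  · rcases hTcases with h | h
    · have hempty : ∀ ι, W ι = ∅ := fun ι => card_eq_zero.1 (by
        have := hcount ι
        omega)
      refine Or.inl ⟨h, le_antisymm ?_ Fintype.card_pos, fun ι => ?_⟩
      · exact Fintype.card_le_one_iff.2 fun ι κ => hsame ι κ (by rw [hempty, hempty])
      · by_contra hne
        obtain ⟨χ, hχ⟩ := Option.ne_none_iff_exists'.1 hne
        exact absurd (hwmem ι χ hχ) (by simp [hempty ι])
    · refine Or.inr ⟨h, fun ι => ?_⟩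
      have hne : (W ι).Nonempty := card_pos.1 (by
        have := hcount ι
        omega)
      exact ⟨_, hwof ι _ hne.choose_spec⟩
  · simp only [hσ]
    split_ifs with e1 e2 <;> simp [e1]

namespace Shape

variable {d : I → B → ℤ} {o : B} (S : Shape d o)
include S

theorem d_eq_zero {ι : I} {χ : B} (h : S.sign χ = 0) : d ι χ = 0 := by
  rcases S.eq ι χ with ⟨-, e⟩ | ⟨-, e⟩ <;> simp [e, h]

theorem sign_eq_zero {ι : I} {χ : B} (h : d ι χ = 0) : S.sign χ = 0 := by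
  rcases S.eq ι χ with ⟨-, e⟩ | ⟨-, e⟩ <;> omega

theorem sign_sq {χ : B} (h : S.sign χ ≠ 0) : S.sign χ * S.sign χ = 1 := by
  rcases S.sq χ with e | e | e <;> simp_all

theorem two_not_one (ι : I) : S.two ι ≠ some o := fun h => (S.two_ne ι o h).2 rfl

theorem d_one (ι : I) : d ι o = 1 := by
  rcases S.eq ι o with ⟨h, -⟩ | ⟨-, e⟩
  · exact absurd h (S.two_not_one ι)
  · rw [e, S.one]

/-- An integral vector of norm one for the form induced on the quotient by the columns is,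
modulo the columns, supported by two positions. -/
theorem exists_leaf [DecidableEq B] (q : I → B) (hq : ∀ ι, S.two ι = some (q ι))
    (hsix : (univ.filter fun χ => S.sign χ ≠ 0).card = 6) (h3 : ¬ 3 ∣ Fintype.card I)
    (ι₀ : I) (n : B → ℤ) (hsupp : ∀ χ, S.sign χ = 0 → n χ = 0)
    (hn : 9 * ∑ χ, n χ ^ 2 - ∑ ι, (∑ χ, n χ * d ι χ) ^ 2 = 9) :
    ∃ (l : B) (t : ℤ) (c : I → ℚ), S.sign l ≠ 0 ∧ (∀ ι, q ι ≠ l) ∧ (t = 1 ∨ t = -1) ∧
      ∀ χ, (n χ : ℚ) = t * ((if χ = l then (S.sign χ : ℚ) else 0) -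
        (if χ = q ι₀ then (S.sign χ : ℚ) else 0)) + ∑ ι, c ι * d ι χ := by
  classical
  set T := univ.filter fun χ => S.sign χ ≠ 0 with hT
  have hqT : ∀ ι, q ι ∈ T := fun ι => mem_filter.2 ⟨mem_univ _, (S.two_ne ι _ (hq ι)).1⟩
  have hqi : Function.Injective q := fun a b h => S.two_inj a b _ (hq a) (h ▸ hq b)
  set Q := univ.image q with hQ
  have hQT : Q ⊆ T := image_subset_iff.2 fun ι _ => hqT ι
  have hQc : Q.card = Fintype.card I := card_image_of_injective _ hqi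
  set L := T \ Q with hL
  have hLc : (L.card : ℤ) = 6 - (Fintype.card I : ℤ) := by
    rw [hL, card_sdiff_of_subset hQT, hsix, hQc, Nat.cast_sub (by
      rw [← hQc, ← hsix]; exact card_le_card hQT)]
    norm_num
  have hd : ∀ ι χ, d ι χ = S.sign χ * (if χ = q ι then -2 else 1) := by
    intro ι χ
    rcases S.eq ι χ with ⟨h, e⟩ | ⟨h, e⟩
    · rw [hq, Option.some.injEq] at h
      rw [e, if_pos h.symm]; ring
    · rw [hq, Ne, Option.some.injEq] at h
      rw [e, if_neg (Ne.symm h), mul_one]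
  set k : B → ℤ := fun χ => S.sign χ * n χ with hk
  have hnk : ∀ χ, n χ = S.sign χ * k χ := fun χ => by
    by_cases h : S.sign χ = 0
    · rw [hsupp χ h, h, zero_mul]
    · rw [hk, ← mul_assoc, S.sign_sq h, one_mul]
  have hk0 : ∀ χ, χ ∉ T → k χ = 0 := fun χ h => by
    rw [hk]
    simp only
    rw [show S.sign χ = 0 from by_contra fun hne => h (mem_filter.2 ⟨mem_univ _, hne⟩), zero_mul]
  have hsum : ∀ f : B → ℤ, (∀ χ, χ ∉ T → f χ = 0) →
      ∑ χ, f χ = ∑ ι, f (q ι) + ∑ χ ∈ L, f χ := by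
    intro f hf
    rw [← sum_subset (subset_univ T) (fun χ _ h => hf χ h), ← sum_sdiff hQT, add_comm,
      sum_image (fun a _ b _ h => hqi h)]
  have hnsq : ∑ χ, n χ ^ 2 = ∑ χ, k χ ^ 2 := sum_congr rfl fun χ _ => by
    by_cases h : S.sign χ = 0
    · rw [hk0 χ (by simp [hT, h]), hsupp χ h]
    · rw [hnk χ, mul_pow, pow_two (S.sign χ), S.sign_sq h, one_mul]
  have hnd : ∀ ι, ∑ χ, n χ * d ι χ = (∑ χ, k χ) - 3 * k (q ι) := by
    intro ι
    rw [← Fintype.sum_ite_eq' (q ι) k, mul_sum, ← sum_sub_distrib]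
    refine sum_congr rfl fun χ _ => ?_
    rw [hd, hk]
    simp only
    split_ifs <;> ring
  simp only [hnsq, hnd] at hn
  set s := ∑ χ, k χ with hs
  obtain ⟨T₀, hT₀⟩ : (3 : ℤ) ∣ s := by
    have h1 : (3 : ℤ) ∣ (Fintype.card I : ℤ) * s ^ 2 := by
      refine ⟨3 * ∑ χ, k χ ^ 2 - 3 + ∑ ι, (2 * s * k (q ι) - 3 * k (q ι) ^ 2), ?_⟩
      have h2 : ∑ ι, (s - 3 * k (q ι)) ^ 2 = (Fintype.card I : ℤ) * s ^ 2 -
          3 * ∑ ι, (2 * s * k (q ι) - 3 * k (q ι) ^ 2) := by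
        rw [sum_congr rfl (g := fun ι => s ^ 2 - 3 * (2 * s * k (q ι) - 3 * k (q ι) ^ 2))
          fun ι _ => by ring, sum_sub_distrib, sum_const, card_univ, nsmul_eq_mul, ← mul_sum]
      rw [h2] at hn
      linarith
    rcases Int.prime_three.dvd_mul.1 h1 with h | h
    · exact absurd (by exact_mod_cast h) h3
    · exact Int.prime_three.dvd_of_dvd_pow h
  set Sq := ∑ ι, k (q ι) with hSq
  set Sq2 := ∑ ι, k (q ι) ^ 2 with hSq2
  have h9 : ∑ ι, (s - 3 * k (q ι)) ^ 2 =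
      9 * ((Fintype.card I : ℤ) * T₀ ^ 2 - 2 * T₀ * Sq + Sq2) := by
    rw [sum_congr rfl (g := fun ι => 9 * T₀ ^ 2 - 18 * T₀ * k (q ι) + 9 * k (q ι) ^ 2)
      fun ι _ => by rw [hT₀]; ring, sum_add_distrib, sum_sub_distrib, sum_const, card_univ,
      nsmul_eq_mul, ← mul_sum, ← mul_sum, ← hSq, ← hSq2]
    ring
  have hLk : ∑ χ ∈ L, k χ = 3 * T₀ - Sq := by
    have := hsum k hk0
    linarith
  have hk2 : ∑ χ, k χ ^ 2 = Sq2 + ∑ χ ∈ L, k χ ^ 2 :=
    hsum _ fun χ h => by rw [hk0 χ h]; simp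
  have hone : ∑ χ ∈ L, (k χ - T₀) ^ 2 = 1 := by
    have h : ∑ χ ∈ L, (k χ - T₀) ^ 2 =
        ∑ χ ∈ L, k χ ^ 2 - 2 * T₀ * ∑ χ ∈ L, k χ + (L.card : ℤ) * T₀ ^ 2 := by
      simp only [sub_sq, sum_add_distrib, sum_sub_distrib, sum_const, nsmul_eq_mul, mul_sum]
      congr 2
      exact sum_congr rfl fun χ _ => by ring
    rw [h, hLk, hLc]
    rw [h9, hk2] at hn
    nlinarith
  obtain ⟨l, hl, ht, hrest⟩ := exists_unit_of_sum_sq_eq_one L _ hone
  have hlT : l ∈ T := (mem_sdiff.1 hl).1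
  have hlQ : ∀ ι, q ι ≠ l := fun ι h => (mem_sdiff.1 hl).2 (mem_image.2 ⟨ι, mem_univ _, h⟩)
  set t := k l - T₀ with ht'
  have hL' : ∑ χ ∈ L, (k χ - T₀) = t :=
    sum_eq_single_of_mem l hl fun χ hχ hne => hrest χ hχ hne
  rw [sum_sub_distrib, hLk, sum_const, nsmul_eq_mul, hLc] at hL'
  set c : I → ℚ := fun ι => ((T₀ : ℚ) - k (q ι) - (if ι = ι₀ then (t : ℚ) else 0)) / 3 with hc
  have hcsum : ∑ ι, c ι = T₀ := by
    have h1 : (3 * T₀ : ℚ) - Sq - (6 - (Fintype.card I : ℚ)) * T₀ = t := by exact_mod_cast hL'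
    simp only [hc, ← sum_div, sum_sub_distrib, sum_const, card_univ, nsmul_eq_mul,
      Fintype.sum_ite_eq']
    rw [hSq] at h1
    push_cast at h1 ⊢
    linarith
  refine ⟨l, t, c, (mem_filter.1 hlT).2, hlQ, ht, fun χ => ?_⟩
  have hsc : ∑ ι, c ι * (d ι χ : ℚ) = (S.sign χ : ℚ) * ((T₀ : ℚ) - 3 * ∑ ι,
      if χ = q ι then c ι else 0) := by
    rw [← hcsum, mul_sub, mul_sum, mul_sum, mul_sum, ← sum_sub_distrib]
    refine sum_congr rfl fun ι _ => ?_
    rw [hd]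
    split_ifs <;> push_cast <;> ring
  rw [hnk, hsc]
  by_cases hχT : χ ∈ T
  swap
  · have h0 : S.sign χ = 0 := by_contra fun hne => hχT (mem_filter.2 ⟨mem_univ _, hne⟩)
    simp [h0]
  by_cases hχQ : χ ∈ Q
  · obtain ⟨κ, -, rfl⟩ := mem_image.1 hχQ
    rw [if_neg (hlQ κ), sum_eq_single κ (fun ι _ hne => if_neg fun h => hne (hqi h).symm)
      (fun h => absurd (mem_univ κ) h), if_pos rfl]
    simp only [hc, hqi.eq_iff]
    split_ifs <;> push_cast <;> ring
  · rw [sum_eq_zero (fun ι _ => if_neg fun h : χ = q ι =>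
      hχQ (mem_image.2 ⟨ι, mem_univ _, h.symm⟩)),
      if_neg (fun h : χ = q ι₀ => hχQ (mem_image.2 ⟨ι₀, mem_univ _, h.symm⟩))]
    by_cases hχl : χ = l
    · subst hχl
      rw [if_pos rfl]
      simp only [ht']
      push_cast
      ring
    · have := hrest χ (mem_sdiff.2 ⟨hχT, hχQ⟩) hχl
      rw [if_neg hχl, show k χ = T₀ by linarith]
      push_cast
      ring

end Shape

end CfsgLib.ExtraspecialThree
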