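import Cfsg.Agent.ExtraspecialThree.LocalFrame

/-!
# From the centraliser of the centre to the group

The column inner products of the principal blocks of `G` and of `C(z)` agree at the singular
elements of `C(z)` (`kernel_eq`), so the multiplicities in the restrictions define an isometry on
the vectors vanishing at the regular elements (`lift_inner`, `lift_col`, `lift_regular`).
-/

set_option autoImplicit false
set_option linter.unusedSectionVars false
set_option linter.style.haveILetI false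

namespace CfsgLib.ExtraspecialThree

open Cfsg CfsgLib.Blocks CfsgLib.PrincipalBlock CfsgLib.BlockPairing
open scoped ComplexConjugate

universe u

variable {G : Type u} [Group G] [Fintype G] {M : Ideal AlgInt} [M.IsPrime]
variable [Fintype ↥(Cfsg.principalBlock M G)]

theorem pair_expand {C ι : Type*} [Fintype C] [Fintype ι] (E : ι → C → ℂ) (u w : C → ℂ) :
    ∑ i, (∑ c, u c * conj (E i c)) * conj (∑ c, w c * conj (E i c)) =
      ∑ c, ∑ c', u c * conj (w c') * ∑ i, E i c' * conj (E i c) := by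
  simp_rw [map_sum, Finset.sum_mul_sum, map_mul, Complex.conj_conj]
  rw [Finset.sum_comm]
  refine Finset.sum_congr rfl fun c _ => ?_
  rw [Finset.sum_comm]
  refine Finset.sum_congr rfl fun c' _ => ?_
  rw [Finset.mul_sum]
  exact Finset.sum_congr rfl fun i _ => by ring

/-- Transport of the pairing of two class functions through two families with equal kernels. -/
theorem pair_eq {C ι κ : Type*} [Fintype C] [Fintype ι] [Fintype κ] (F : ι → C → ℂ)
    (F' : κ → C → ℂ) (s : C → Prop) (u w : C → ℂ) (hu : ∀ c, ¬ s c → u c = 0)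
    (hw : ∀ c, ¬ s c → w c = 0)
    (hK : ∀ c c', s c → s c' → ∑ i, F i c' * conj (F i c) = ∑ j, F' j c' * conj (F' j c)) :
    ∑ i, (∑ c, u c * conj (F i c)) * conj (∑ c, w c * conj (F i c)) =
      ∑ j, (∑ c, u c * conj (F' j c)) * conj (∑ c, w c * conj (F' j c)) := by
  rw [pair_expand F u w, pair_expand F' u w]
  refine Finset.sum_congr rfl fun c _ => Finset.sum_congr rfl fun c' _ => ?_
  by_cases hc : s c
  · by_cases hc' : s c'
    · rw [hK c c' hc hc']
    · rw [hw c' hc', map_zero, mul_zero, zero_mul, zero_mul]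
  · rw [hu c hc, zero_mul, zero_mul, zero_mul]

open Classical in
/-- The sums over a section with centraliser `K`. -/
theorem sum_section_of_eq (hM : Cfsg.IsPModular 3 M) {a : G} (ha : ∃ k, orderOf a = 3 ^ k)
    (K : Subgroup G) (hK : K = Subgroup.centralizer ({a} : Set G)) [Fintype K]
    [Fintype ↥(Cfsg.principalBlock M K)] (y y' : K) (hy : ¬ 3 ∣ orderOf y)
    (hy' : ¬ 3 ∣ orderOf y') :
    ∑ χ : ↥(Cfsg.principalBlock M G),
        (χ.1 : G → ℂ) (a * (y : G)) * conj ((χ.1 : G → ℂ) (a * (y' : G))) =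
      ∑ ξ : ↥(Cfsg.principalBlock M K), (ξ.1 : K → ℂ) y * conj ((ξ.1 : K → ℂ) y') := by
  haveI : Fact (Nat.Prime 3) := ⟨Nat.prime_three⟩
  subst hK
  have h := BlocksLocal.sum_principal_section_mul_conj hM ha hy hy'
  rwa [sum_ite_mem, sum_ite_mem] at h

open Classical in
/-- Columns with 3-parts in different classes are orthogonal. -/
theorem sum_mul_conj_eq_zero (hM : Cfsg.IsPModular 3 M) {g h x y : G} (hg : Cfsg.IsPPart 3 g x)
    (hh : Cfsg.IsPPart 3 h y) (hne : ¬ IsConj x y) :
    ∑ χ : ↥(Cfsg.principalBlock M G), (χ.1 : G → ℂ) g * conj ((χ.1 : G → ℂ) h) = 0 := by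
  haveI : Fact (Nat.Prime 3) := ⟨Nat.prime_three⟩
  have e := sum_block_mul_inv_eq_zero hM hg hh hne (isPBlock_principalBlock (G := G) (M := M))
  rw [sum_ite_mem] at e
  rw [← e]
  exact Finset.sum_congr rfl fun χ _ => by
    rw [Characters.character_inv (Characters.isCharacter_of_isIrr χ.1.2)]

namespace Setting

variable {P : Sylow 3 G} {z : G} (S : Setting P z)
include S

open Classical in
/-- The sums over the section of a noncentral element. -/
theorem sum_section_nine (hM : Cfsg.IsPModular 3 M) {a : G} (ha : a ∈ (P : Subgroup G))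
    (ha' : a ∉ Subgroup.zpowers z) {y y' : G} (hy : Commute a y) (hy' : Commute a y')
    (hyo : ¬ 3 ∣ orderOf y) (hyo' : ¬ 3 ∣ orderOf y') :
    ∑ χ : ↥(Cfsg.principalBlock M G), (χ.1 : G → ℂ) (a * y) * conj ((χ.1 : G → ℂ) (a * y')) = 9 := by
  haveI : Fact (Nat.Prime 3) := ⟨Nat.prime_three⟩
  haveI := Fintype.ofFinite (Subgroup.centralizer ({a} : Set G))
  obtain ⟨K, hKn, hK, hj⟩ := S.exists_complement ha ha'
  have ha1 : a ≠ 1 := fun e => ha' (e ▸ one_mem _)
  have h := SmallPrincipal.sum_section hM ⟨1, by rw [S.orderOf_eq_three ha ha1, pow_one]⟩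
    (BlocksCharsC.Sixteen.blockRank_complement hM K hK hj)
    (c := ⟨y, Subgroup.mem_centralizer_singleton_iff.2 hy.eq.symm⟩)
    (c' := ⟨y', Subgroup.mem_centralizer_singleton_iff.2 hy'.eq.symm⟩)
    (by rwa [← Subgroup.orderOf_coe]) (by rwa [← Subgroup.orderOf_coe])
  rw [S.factorization_centralizer ha ha', sum_ite_mem] at h
  rw [h]
  norm_num

open Classical in
/-- Values are constant on the section of a noncentral element. -/
theorem value_section' (hM : Cfsg.IsPModular 3 M) {a : G} (ha : a ∈ (P : Subgroup G))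
    (ha' : a ∉ Subgroup.zpowers z) {y : G} (hy : Commute a y) (hyo : ¬ 3 ∣ orderOf y)
    (χ : ↥(Cfsg.principalBlock M G)) : (χ.1 : G → ℂ) (a * y) = (χ.1 : G → ℂ) a := by
  haveI : Fact (Nat.Prime 3) := ⟨Nat.prime_three⟩
  haveI := Fintype.ofFinite (Subgroup.centralizer ({a} : Set G))
  obtain ⟨K, hKn, hK, hj⟩ := S.exists_complement ha ha'
  have ha1 : a ≠ 1 := fun e => ha' (e ▸ one_mem _)
  exact SmallPrincipal.value_eq hM ⟨1, by rw [S.orderOf_eq_three ha ha1, pow_one]⟩
    (BlocksCharsC.Sixteen.blockRank_complement hM K hK hj) χ.2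
    (c := ⟨y, Subgroup.mem_centralizer_singleton_iff.2 hy.eq.symm⟩)
    (by rwa [← Subgroup.orderOf_coe])

theorem normalizer_sub [Finite G] :
    (hsub (P.subtype S.le_centralizer)) = (hsub P).subgroupOf (Subgroup.centralizer ({z} : Set G)) ∧
      Subgroup.normalizer (((P.subtype S.le_centralizer : Sylow 3 (Subgroup.centralizer ({z} : Set G))) :
          Subgroup (Subgroup.centralizer ({z} : Set G))) : Set (Subgroup.centralizer ({z} : Set G))) =
        (Subgroup.normalizer ((P : Subgroup G) : Set G)).subgroupOf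
          (Subgroup.centralizer ({z} : Set G)) := by
  set C := Subgroup.centralizer ({z} : Set G)
  have hP : ((P.subtype S.le_centralizer : Sylow 3 C) : Subgroup C) = (P : Subgroup G).subgroupOf C :=
    rfl
  have hc : Subgroup.centralizer ((P : Subgroup G) : Set G) ≤ C :=
    (le_sup_right.trans S.hsub_le_normalizer).trans S.normalizer_le
  refine ⟨?_, ?_⟩
  · show (P : Subgroup G).subgroupOf C ⊔ Subgroup.centralizer _ = _
    rw [Subgroup.subgroupOf_sup S.le_centralizer hc]
    congr 1
    ext c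
    rw [Subgroup.mem_subgroupOf, Subgroup.mem_centralizer_iff, Subgroup.mem_centralizer_iff]
    refine ⟨fun h b hb => congrArg Subtype.val (h ⟨b, S.le_centralizer hb⟩ hb),
      fun h b hb => Subtype.ext (h _ hb)⟩
  · rw [hP]
    ext c
    rw [Subgroup.mem_subgroupOf, Subgroup.mem_normalizer_iff, Subgroup.mem_normalizer_iff]
    refine ⟨fun h b => ⟨fun hb => (h ⟨b, S.le_centralizer hb⟩).1 hb, fun hb => ?_⟩,
      fun h b => h b⟩
    have hbC : b ∈ C := by
      have h1 := mul_mem (mul_mem (inv_mem c.2) (S.le_centralizer hb)) c.2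
      rwa [show (c : G)⁻¹ * ((c : G) * b * (c : G)⁻¹) * (c : G) = b by group] at h1
    exact (h ⟨b, hbC⟩).2 hb

theorem inert_sub : S.centralizer_setting.inert = S.inert := by
  obtain ⟨h1, h2⟩ := S.normalizer_sub
  show (hsub (P.subtype S.le_centralizer)).relIndex _ = _
  rw [h1, h2, Subgroup.relIndex_subgroupOf S.normalizer_le]
  rfl

end Setting

/-- The centre generator inside its centraliser. -/
def zc (z : G) : Subgroup.centralizer ({z} : Set G) :=
  ⟨z, Subgroup.mem_centralizer_singleton_iff.2 rfl⟩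

theorem zc_center (z : G) : zc z ∈ Subgroup.center (Subgroup.centralizer ({z} : Set G)) :=
  Subgroup.mem_center_iff.2 fun g =>
    Subtype.ext (Subgroup.mem_centralizer_singleton_iff.1 g.2)

/-- The inner products with the restriction. -/
noncomputable def lift (z : G) [Fintype (Subgroup.centralizer ({z} : Set G))]
    [Fintype ↥(Cfsg.principalBlock M (Subgroup.centralizer ({z} : Set G)))] :
    (↥(Cfsg.principalBlock M (Subgroup.centralizer ({z} : Set G))) → ℂ) →ₗ[ℂ]
      (↥(Cfsg.principalBlock M G) → ℂ) where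
  toFun v χ := ∑ ξ : ↥(Cfsg.principalBlock M (Subgroup.centralizer ({z} : Set G))),
    v ξ * Cfsg.classInner (ξ.1 : Subgroup.centralizer ({z} : Set G) → ℂ)
      (fun c => (χ.1 : G → ℂ) (c : G))
  map_add' v w := funext fun χ => by simp [add_mul, Finset.sum_add_distrib]
  map_smul' t v := funext fun χ => by simp [Finset.mul_sum, mul_assoc]

namespace Setting

variable {P : Sylow 3 G} {z : G} (S : Setting P z)
variable [Fintype (Subgroup.centralizer ({z} : Set G))]
  [Fintype ↥(Cfsg.principalBlock M (Subgroup.centralizer ({z} : Set G)))]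
include S

/-- Every singular element of `C(z)` is conjugate to one with a standard 3-part. -/
theorem standard_part (c : Subgroup.centralizer ({z} : Set G)) (hc : 3 ∣ orderOf c) :
    ∃ d a y : Subgroup.centralizer ({z} : Set G), d * c * d⁻¹ = a * y ∧ Commute a y ∧
      ¬ 3 ∣ orderOf y ∧
      (a = zc z ∨ a = (zc z)⁻¹ ∨ ∃ ι : Cls S.centralizer_setting,
        a = S.centralizer_setting.rep ι) := by
  haveI : Fact (Nat.Prime 3) := ⟨Nat.prime_three⟩
  obtain ⟨a, ha⟩ := exists_isPPart Nat.prime_three c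
  have hfin : ∀ b, IsConj a b → (b = zc z ∨ b = (zc z)⁻¹ ∨
      ∃ ι : Cls S.centralizer_setting, b = S.centralizer_setting.rep ι) →
      ∃ d a' y : Subgroup.centralizer ({z} : Set G), d * c * d⁻¹ = a' * y ∧ Commute a' y ∧
        ¬ 3 ∣ orderOf y ∧ (a' = zc z ∨ a' = (zc z)⁻¹ ∨
          ∃ ι : Cls S.centralizer_setting, a' = S.centralizer_setting.rep ι) := by
    intro b hb hb'
    obtain ⟨d, hd⟩ := isConj_iff.1 hb
    obtain ⟨y, hy, hcomm, -, hy'⟩ := hd ▸ isPPart_conj ha d
    exact ⟨d, b, y, hy.symm, hcomm, hy', hb'⟩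
  rcases S.centralizer_setting.exists_class (x := a) ha.choose_spec.2.2.1 with h | h | h | ⟨ι, hι⟩
  · exfalso
    obtain ⟨y, hy, -, -, hy'⟩ := ha
    rw [h, one_mul] at hy
    exact hy' (hy ▸ hc)
  · exact hfin _ h (Or.inl rfl)
  · exact hfin _ h (Or.inr (Or.inl rfl))
  · exact hfin _ hι (Or.inr (Or.inr ⟨ι, rfl⟩))

theorem coe_rep_mem (ι : Cls S.centralizer_setting) :
    ((S.centralizer_setting.rep ι : Subgroup.centralizer ({z} : Set G)) : G) ∈ (P : Subgroup G) :=
  S.centralizer_setting.rep_mem ι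

theorem coe_rep_not_mem (ι : Cls S.centralizer_setting) :
    ((S.centralizer_setting.rep ι : Subgroup.centralizer ({z} : Set G)) : G) ∉
      Subgroup.zpowers z := by
  intro h
  refine S.centralizer_setting.rep_not_mem ι ?_
  obtain ⟨i, hi⟩ := Subgroup.mem_zpowers_iff.1 h
  exact Subgroup.mem_zpowers_iff.2 ⟨i, Subtype.ext (by rw [Subgroup.coe_zpow]; exact hi)⟩

open Classical in
/-- The kernels agree at the singular elements of the centraliser. -/
theorem kernel_eq (hM : Cfsg.IsPModular 3 M) (c c' : Subgroup.centralizer ({z} : Set G))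
    (hc : 3 ∣ orderOf c) (hc' : 3 ∣ orderOf c') :
    ∑ χ : ↥(Cfsg.principalBlock M G), (χ.1 : G → ℂ) (c : G) * conj ((χ.1 : G → ℂ) (c' : G)) =
      ∑ ξ : ↥(Cfsg.principalBlock M (Subgroup.centralizer ({z} : Set G))),
        (ξ.1 : Subgroup.centralizer ({z} : Set G) → ℂ) c *
          conj ((ξ.1 : Subgroup.centralizer ({z} : Set G) → ℂ) c') := by
  haveI : Fact (Nat.Prime 3) := ⟨Nat.prime_three⟩
  set S' := S.centralizer_setting
  obtain ⟨d, a, y, hd, hay, hy, ha⟩ := S.standard_part c hc
  obtain ⟨d', a', y', hd', hay', hy', ha'⟩ := S.standard_part c' hc'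
  have e : ∀ (χ : IrrCharacter G) (u v w : Subgroup.centralizer ({z} : Set G)), u * v * u⁻¹ = w →
      (χ : G → ℂ) (v : G) = (χ : G → ℂ) (w : G) := by
    rintro χ u v w rfl
    exact (Characters.isClassFunction_of_isIrr χ.2 (v : G) (u : G)).symm
  have e' : ∀ (ξ : IrrCharacter (Subgroup.centralizer ({z} : Set G)))
      (u v w : Subgroup.centralizer ({z} : Set G)), u * v * u⁻¹ = w →
      (ξ : Subgroup.centralizer ({z} : Set G) → ℂ) v = (ξ : _ → ℂ) w := by
    rintro ξ u v w rfl
    exact (Characters.isClassFunction_of_isIrr ξ.2 v u).symm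
  simp only [fun χ : ↥(Cfsg.principalBlock M G) => e χ.1 d c _ hd,
    fun χ : ↥(Cfsg.principalBlock M G) => e χ.1 d' c' _ hd',
    fun ξ : ↥(Cfsg.principalBlock M (Subgroup.centralizer ({z} : Set G))) => e' ξ.1 d c _ hd,
    fun ξ : ↥(Cfsg.principalBlock M (Subgroup.centralizer ({z} : Set G))) => e' ξ.1 d' c' _ hd']
  have hP : ∀ b : Subgroup.centralizer ({z} : Set G), (b = zc z ∨ b = (zc z)⁻¹ ∨
      ∃ ι : Cls S', b = S'.rep ι) → (b : G) ∈ (P : Subgroup G) ∧ ∃ k, orderOf b = 3 ^ k := by
    rintro b (rfl | rfl | ⟨ι, rfl⟩)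
    · exact ⟨S.z_mem, 1, by rw [pow_one]; exact S'.orderOf_eq_three S'.z_mem S'.z_ne⟩
    · exact ⟨inv_mem S.z_mem, 1, by
        rw [pow_one, orderOf_inv]; exact S'.orderOf_eq_three S'.z_mem S'.z_ne⟩
    · exact ⟨S'.rep_mem ι, S'.pow_rep ι⟩
  by_cases haa : IsConj (a : G) (a' : G)
  swap
  · rw [sum_mul_conj_eq_zero hM (g := ((a * y : Subgroup.centralizer ({z} : Set G)) : G))
      (h := ((a' * y' : Subgroup.centralizer ({z} : Set G)) : G))
      (x := (a : G)) (y := (a' : G)), sum_mul_conj_eq_zero hM (g := a * y) (h := a' * y')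
      (x := a) (y := a') (isPPart_of_mul hay (hP a ha).2 hy) (isPPart_of_mul hay' (hP a' ha').2 hy')
      fun h => haa ((Subgroup.centralizer ({z} : Set G)).subtype.map_isConj h)]
    · exact isPPart_of_mul (hay.map (Subgroup.centralizer ({z} : Set G)).subtype)
        (by rw [Subgroup.orderOf_coe]; exact (hP a ha).2) (by rwa [Subgroup.orderOf_coe])
    · exact isPPart_of_mul (hay'.map (Subgroup.centralizer ({z} : Set G)).subtype)
        (by rw [Subgroup.orderOf_coe]; exact (hP a' ha').2) (by rwa [Subgroup.orderOf_coe])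
    · exact haa
  -- equal parts
  have haeq : a = a' := by
    obtain ⟨g, hg⟩ := isConj_iff.1 haa
    obtain ⟨h, hh, hconj⟩ := S.exists_conj_mem (hP a ha).1 (hP a' ha').1 hg
    have hC : IsConj a a' := isConj_iff.2 ⟨⟨h, hh⟩, Subtype.ext hconj⟩
    have hcen : ∀ s, s ∈ Subgroup.center (Subgroup.centralizer ({z} : Set G)) →
        ∀ b, IsConj s b → b = s := by
      intro s hs b hb
      obtain ⟨u, hu⟩ := isConj_iff.1 hb
      rw [← hu, Subgroup.mem_center_iff.1 hs u, mul_inv_cancel_right]
    rcases ha with rfl | rfl | ⟨ι, rfl⟩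
    · exact (hcen _ (zc_center z) _ hC).symm
    · exact (hcen _ (inv_mem (zc_center z)) _ hC).symm
    · rcases ha' with rfl | rfl | ⟨κ, rfl⟩
      · exact hcen _ (zc_center z) _ hC.symm
      · exact hcen _ (inv_mem (zc_center z)) _ hC.symm
      · rw [S'.rep_conj hC]
  subst haeq
  rcases ha with rfl | rfl | ⟨ι, rfl⟩
  · simp only [Subgroup.coe_mul, apply_z_mul (zc_center z), map_mul]
    show ∑ χ : ↥(Cfsg.principalBlock M G), (χ.1 : G → ℂ) (z * (y : G)) *
      conj ((χ.1 : G → ℂ) (z * (y' : G))) = _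
    rw [sum_section_of_eq hM (a := z) ⟨1, by rw [S.orderOf_eq_three S.z_mem S.z_ne, pow_one]⟩
      _ rfl y y' hy hy']
    refine Finset.sum_congr rfl fun ξ _ => ?_
    linear_combination (-(ξ.1 : Subgroup.centralizer ({z} : Set G) → ℂ) y *
      conj ((ξ.1 : Subgroup.centralizer ({z} : Set G) → ℂ) y')) *
      zval_mul_conj (zc_center z) S'.z_pow ξ.1
  · have hz2 : (zc z)⁻¹ = zc z * zc z := inv_eq_of_mul_eq_one_right (by
      rw [← mul_assoc, ← pow_two, ← pow_succ]; exact S'.z_pow)
    simp only [Subgroup.coe_mul, Subgroup.coe_inv]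
    show ∑ χ : ↥(Cfsg.principalBlock M G), (χ.1 : G → ℂ) (z⁻¹ * (y : G)) *
      conj ((χ.1 : G → ℂ) (z⁻¹ * (y' : G))) = _
    rw [sum_section_of_eq hM (a := z⁻¹)
      ⟨1, by rw [orderOf_inv, S.orderOf_eq_three S.z_mem S.z_ne, pow_one]⟩
      (Subgroup.centralizer ({z} : Set G)) (by
        ext g
        rw [Subgroup.mem_centralizer_singleton_iff, Subgroup.mem_centralizer_singleton_iff]
        exact ⟨fun h => (Commute.inv_right (show Commute g z from h)).eq,
          fun h => by simpa using (Commute.inv_right (show Commute g z⁻¹ from h)).eq⟩)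
      y y' hy hy']
    simp only [hz2, mul_assoc, apply_z_mul (zc_center z), map_mul]
    refine Finset.sum_congr rfl fun ξ _ => ?_
    linear_combination (-(ξ.1 : Subgroup.centralizer ({z} : Set G) → ℂ) y *
      conj ((ξ.1 : Subgroup.centralizer ({z} : Set G) → ℂ) y') *
      (zval (zc z) (ξ.1 : Subgroup.centralizer ({z} : Set G) → ℂ) *
        conj (zval (zc z) (ξ.1 : Subgroup.centralizer ({z} : Set G) → ℂ)) + 1)) *
      zval_mul_conj (zc_center z) S'.z_pow ξ.1
  · simp only [Subgroup.coe_mul]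
    rw [S.sum_section_nine hM (S.coe_rep_mem ι) (S.coe_rep_not_mem ι)
      (show Commute _ (y : G) from congrArg Subtype.val hay.eq)
      (show Commute _ (y' : G) from congrArg Subtype.val hay'.eq)
      (by rwa [Subgroup.orderOf_coe]) (by rwa [Subgroup.orderOf_coe]),
      S'.sum_section_nine hM (S'.rep_mem ι) (S'.rep_not_mem ι) hay hay' hy hy']

/-- The lift as a sum over the centraliser. -/
theorem lift_eq (v : ↥(Cfsg.principalBlock M (Subgroup.centralizer ({z} : Set G))) → ℂ)
    (χ : ↥(Cfsg.principalBlock M G)) :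
    lift z v χ = ∑ c, ((Nat.card (Subgroup.centralizer ({z} : Set G)) : ℂ)⁻¹ * comb v c) *
      conj ((χ.1 : G → ℂ) (c : G)) := by
  show ∑ ξ, v ξ * Cfsg.classInner _ _ = _
  simp only [Cfsg.classInner, comb, Finset.mul_sum, Finset.sum_mul]
  rw [Finset.sum_comm]
  exact Finset.sum_congr rfl fun c _ => Finset.sum_congr rfl fun ξ _ => by ring

open Classical in
theorem sum_comb_conj (v : ↥(Cfsg.principalBlock M (Subgroup.centralizer ({z} : Set G))) → ℂ)
    (η : ↥(Cfsg.principalBlock M (Subgroup.centralizer ({z} : Set G)))) :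
    ∑ c, ((Nat.card (Subgroup.centralizer ({z} : Set G)) : ℂ)⁻¹ * comb v c) *
      conj ((η.1 : Subgroup.centralizer ({z} : Set G) → ℂ) c) = v η := by
  simp only [comb, Finset.mul_sum, Finset.sum_mul]
  rw [Finset.sum_comm, Finset.sum_eq_single η]
  · have h := Characters.classInner_irr η.1 η.1
    rw [if_pos rfl, Cfsg.classInner, Finset.mul_sum] at h
    calc _ = v η * ∑ c, (Nat.card (Subgroup.centralizer ({z} : Set G)) : ℂ)⁻¹ *
          ((η.1 : Subgroup.centralizer ({z} : Set G) → ℂ) c *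
            conj ((η.1 : Subgroup.centralizer ({z} : Set G) → ℂ) c)) := by
          rw [Finset.mul_sum]
          exact Finset.sum_congr rfl fun c _ => by ring
      _ = v η := by rw [h, mul_one]
  · intro ξ _ hne
    have h := Characters.classInner_irr ξ.1 η.1
    rw [if_neg fun e => hne (Subtype.ext e), Cfsg.classInner, Finset.mul_sum] at h
    calc _ = v ξ * ∑ c, (Nat.card (Subgroup.centralizer ({z} : Set G)) : ℂ)⁻¹ *
          ((ξ.1 : Subgroup.centralizer ({z} : Set G) → ℂ) c *
            conj ((η.1 : Subgroup.centralizer ({z} : Set G) → ℂ) c)) := by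
          rw [Finset.mul_sum]
          exact Finset.sum_congr rfl fun c _ => by ring
      _ = 0 := by rw [h, mul_zero]
  · exact fun h => absurd (Finset.mem_univ η) h

/-- The lift is an isometry on the vectors vanishing at the regular elements. -/
theorem lift_inner (hM : Cfsg.IsPModular 3 M)
    {v w : ↥(Cfsg.principalBlock M (Subgroup.centralizer ({z} : Set G))) → ℂ}
    (hv : ∀ c, ¬ 3 ∣ orderOf c → comb v c = 0) (hw : ∀ c, ¬ 3 ∣ orderOf c → comb w c = 0) :
    ∑ χ : ↥(Cfsg.principalBlock M G), lift z v χ * conj (lift z w χ) =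
      ∑ ξ, v ξ * conj (w ξ) := by
  have h := pair_eq (fun (χ : ↥(Cfsg.principalBlock M G))
      (c : Subgroup.centralizer ({z} : Set G)) => (χ.1 : G → ℂ) (c : G))
    (fun (ξ : ↥(Cfsg.principalBlock M (Subgroup.centralizer ({z} : Set G)))) c =>
      (ξ.1 : Subgroup.centralizer ({z} : Set G) → ℂ) c) (fun c => 3 ∣ orderOf c)
    (fun c => (Nat.card (Subgroup.centralizer ({z} : Set G)) : ℂ)⁻¹ * comb v c)
    (fun c => (Nat.card (Subgroup.centralizer ({z} : Set G)) : ℂ)⁻¹ * comb w c)
    (fun c hc => by simp [hv c hc]) (fun c hc => by simp [hw c hc])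
    (fun c c' hc hc' => S.kernel_eq hM c' c hc' hc)
  simp only [S.lift_eq]
  rw [h]
  simp only [S.sum_comb_conj]

/-- The vector of a column. -/
theorem comb_col (hM : Cfsg.IsPModular 3 M) {c' : Subgroup.centralizer ({z} : Set G)}
    (hc' : 3 ∣ orderOf c') (y : Subgroup.centralizer ({z} : Set G)) (hy : ¬ 3 ∣ orderOf y) :
    comb (fun ξ : ↥(Cfsg.principalBlock M (Subgroup.centralizer ({z} : Set G))) =>
      conj ((ξ.1 : Subgroup.centralizer ({z} : Set G) → ℂ) c')) y = 0 := by
  haveI : Fact (Nat.Prime 3) := ⟨Nat.prime_three⟩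
  obtain ⟨a, ha⟩ := exists_isPPart Nat.prime_three c'
  have hne : ¬ IsConj (1 : Subgroup.centralizer ({z} : Set G)) a := fun h => by
    obtain ⟨y', hy', -, -, hy''⟩ := ha
    rw [isConj_one_right.1 h, one_mul] at hy'
    exact hy'' (hy' ▸ hc')
  rw [← sum_mul_conj_eq_zero hM (isPPart_regular hy) ha hne, comb]
  exact Finset.sum_congr rfl fun ξ _ => mul_comm _ _

/-- Columns are lifted to columns. -/
theorem lift_col (hM : Cfsg.IsPModular 3 M) {c' : Subgroup.centralizer ({z} : Set G)}
    (hc' : 3 ∣ orderOf c') (χ : ↥(Cfsg.principalBlock M G)) :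
    lift z (fun ξ : ↥(Cfsg.principalBlock M (Subgroup.centralizer ({z} : Set G))) =>
      conj ((ξ.1 : Subgroup.centralizer ({z} : Set G) → ℂ) c')) χ =
      conj ((χ.1 : G → ℂ) (c' : G)) := by
  set v := fun ξ : ↥(Cfsg.principalBlock M (Subgroup.centralizer ({z} : Set G))) =>
    conj ((ξ.1 : Subgroup.centralizer ({z} : Set G) → ℂ) c') with hv
  have hvr := S.comb_col hM hc'
  set K := ∑ ξ, v ξ * conj (v ξ) with hK
  have h1 : ∑ ψ : ↥(Cfsg.principalBlock M G), lift z v ψ * conj (lift z v ψ) = K :=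
    S.lift_inner hM hvr hvr
  have hKG : ∑ ψ : ↥(Cfsg.principalBlock M G),
      conj ((ψ.1 : G → ℂ) (c' : G)) * (ψ.1 : G → ℂ) (c' : G) = K := by
    rw [hK, Finset.sum_congr rfl fun ψ _ => mul_comm _ _, S.kernel_eq hM c' c' hc' hc']
    exact Finset.sum_congr rfl fun ξ _ => by rw [hv, Complex.conj_conj, mul_comm]
  have h2 : ∑ ψ : ↥(Cfsg.principalBlock M G), lift z v ψ * (ψ.1 : G → ℂ) (c' : G) = K := by
    simp only [S.lift_eq, Finset.sum_mul]
    rw [Finset.sum_comm]
    have e : ∀ c, ∑ ψ : ↥(Cfsg.principalBlock M G),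
        (Nat.card (Subgroup.centralizer ({z} : Set G)) : ℂ)⁻¹ * comb v c *
          conj ((ψ.1 : G → ℂ) (c : G)) * (ψ.1 : G → ℂ) (c' : G) =
        ∑ ξ : ↥(Cfsg.principalBlock M (Subgroup.centralizer ({z} : Set G))),
          (Nat.card (Subgroup.centralizer ({z} : Set G)) : ℂ)⁻¹ * comb v c *
            conj ((ξ.1 : Subgroup.centralizer ({z} : Set G) → ℂ) c) *
            (ξ.1 : Subgroup.centralizer ({z} : Set G) → ℂ) c' := by
      intro c
      simp only [mul_assoc, ← Finset.mul_sum]
      by_cases hc : 3 ∣ orderOf c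
      · congr 2
        rw [Finset.sum_congr rfl fun ψ _ => mul_comm _ _, S.kernel_eq hM c' c hc' hc]
        exact Finset.sum_congr rfl fun ξ _ => mul_comm _ _
      · rw [hvr c hc, zero_mul, zero_mul]
    rw [Finset.sum_congr rfl fun c _ => e c, Finset.sum_comm, hK]
    simp only [← Finset.sum_mul, S.sum_comb_conj]
    exact Finset.sum_congr rfl fun ξ _ => by rw [hv, Complex.conj_conj]
  have h3 : ∑ ψ : ↥(Cfsg.principalBlock M G),
      Complex.normSq (lift z v ψ - conj ((ψ.1 : G → ℂ) (c' : G))) = 0 := by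
    refine Complex.ofReal_injective ?_
    rw [Complex.ofReal_sum, Complex.ofReal_zero]
    simp only [← Complex.mul_conj, map_sub, Complex.conj_conj, sub_mul, mul_sub,
      Finset.sum_sub_distrib, h1, h2, hKG]
    have h4 : ∑ ψ : ↥(Cfsg.principalBlock M G),
        conj ((ψ.1 : G → ℂ) (c' : G)) * conj (lift z v ψ) = K := by
      have h5 := congrArg conj h2
      rw [map_sum, show conj K = K by
        rw [hK, map_sum]
        exact Finset.sum_congr rfl fun ξ _ => by rw [map_mul, Complex.conj_conj, mul_comm]] at h5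
      rw [← h5]
      exact Finset.sum_congr rfl fun ψ _ => by rw [map_mul, mul_comm]
    rw [h4]
    ring
  have := (Finset.sum_eq_zero_iff_of_nonneg fun ψ _ => Complex.normSq_nonneg _).1 h3 χ
    (Finset.mem_univ χ)
  rwa [Complex.normSq_eq_zero, sub_eq_zero] at this

/-- The lift vanishes at the regular elements. -/
theorem lift_regular (hM : Cfsg.IsPModular 3 M)
    {v : ↥(Cfsg.principalBlock M (Subgroup.centralizer ({z} : Set G))) → ℂ}
    (hv : ∀ c, ¬ 3 ∣ orderOf c → comb v c = 0) {g : G} (hg : ¬ 3 ∣ orderOf g) :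
    ∑ χ : ↥(Cfsg.principalBlock M G), lift z v χ * (χ.1 : G → ℂ) g = 0 := by
  haveI : Fact (Nat.Prime 3) := ⟨Nat.prime_three⟩
  simp only [S.lift_eq, Finset.sum_mul]
  rw [Finset.sum_comm]
  refine Finset.sum_eq_zero fun c _ => ?_
  simp only [mul_assoc, ← Finset.mul_sum]
  by_cases hc : 3 ∣ orderOf c
  · obtain ⟨a, ha⟩ := exists_isPPart Nat.prime_three (c : G)
    have hne : ¬ IsConj (1 : G) a := fun h => by
      obtain ⟨y', hy', -, -, hy''⟩ := ha
      rw [isConj_one_right.1 h, one_mul] at hy'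
      exact hy'' (by rw [hy', Subgroup.orderOf_coe]; exact hc)
    rw [show ∑ χ : ↥(Cfsg.principalBlock M G), conj ((χ.1 : G → ℂ) (c : G)) * (χ.1 : G → ℂ) g = 0 by
      rw [← sum_mul_conj_eq_zero hM (isPPart_regular hg) ha hne]
      exact Finset.sum_congr rfl fun χ _ => mul_comm _ _]
    simp
  · rw [hv c hc]
    simp

open Classical in
/-- The coefficient at the trivial character. -/
theorem lift_one (v : ↥(Cfsg.principalBlock M (Subgroup.centralizer ({z} : Set G))) → ℂ) :
    lift z v (blockOne (G := G) M) = v (blockOne (G := Subgroup.centralizer ({z} : Set G)) M) := by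
  show ∑ ξ, v ξ * Cfsg.classInner _ _ = _
  have e : (fun c : Subgroup.centralizer ({z} : Set G) =>
      ((blockOne (G := G) M).1 : G → ℂ) (c : G)) =
      ((blockOne (G := Subgroup.centralizer ({z} : Set G)) M).1 : _ → ℂ) :=
    funext fun c => (trivChar_apply _).trans (trivChar_apply c).symm
  simp only [e, Characters.classInner_irr, ← Subtype.ext_iff, mul_ite, mul_one, mul_zero,
    Finset.sum_ite_eq', Finset.mem_univ, if_true]

/-- The lift of an integral vector is integral. -/
theorem exists_int_lift (v : ↥(Cfsg.principalBlock M (Subgroup.centralizer ({z} : Set G))) → ℤ)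
    (χ : ↥(Cfsg.principalBlock M G)) :
    ∃ n : ℤ, lift z (fun ξ => (v ξ : ℂ)) χ = n := by
  choose N hN using fun ξ : ↥(Cfsg.principalBlock M (Subgroup.centralizer ({z} : Set G))) =>
    Characters.classInner_gen (Characters.isGen_of_isIrr ξ.1.2)
      (Characters.isGen_restrict (Subgroup.centralizer ({z} : Set G))
        (Characters.isGen_of_isIrr χ.1.2))
  refine ⟨∑ ξ, v ξ * N ξ, ?_⟩
  show ∑ ξ, (v ξ : ℂ) * Cfsg.classInner _ _ = _
  push_cast
  exact Finset.sum_congr rfl fun ξ _ => by rw [hN]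

end Setting

end CfsgLib.ExtraspecialThree
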